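import Cfsg.Agent.N2.Sp4.Gen

/-!
# S3519, sporadic rows: the common part of the `3`-local and of the `5`-local cases (helper15)
-/

set_option autoImplicit false
set_option linter.unusedSectionVars false

namespace Cfsg.Agent.N2.Sp4

open Subgroup Cfsg Cfsg.Agent.FP3 Cfsg.Agent.SB Cfsg.Agent.N2.Sp Cfsg.Agent.N2.Sp2 Cfsg.Agent.N2.Sp4T
open Cfsg.Agent.TAB.Eng Cfsg.Agent.TAB.Use Cfsg.Agent.SB.SporL Cfsg.Agent.TH.Spor

section grp

variable {G : Type*} [Group G] [Finite G] {A : Subgroup G}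

theorem pg_le {p a m : ℕ} (hp : p.Prime) {E : Subgroup G} (hE : IsPGroup p E) (h : Nat.card E ∣ p ^ a * m) (hm : ¬ p ∣ m) :
    Nat.card E ∣ p ^ a := by
  have := Fact.mk hp
  obtain ⟨k, hk⟩ := IsPGroup.iff_card.1 hE
  rw [hk] at h ⊢
  exact (Nat.Coprime.pow_left _ (hp.coprime_iff_not_dvd.2 hm)).dvd_of_dvd_mul_right h

theorem ord_mul {x y : G} (hc : Commute x y) {a b : ℕ} (hx : orderOf x = a) (hy : orderOf y = b) (h : a.Coprime b) :
    orderOf (x * y) = a * b := by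
  subst hx hy
  exact hc.orderOf_mul_eq_mul_orderOf_of_coprime h

/-- the centraliser of an element of order `p` -/
theorem pg_cent {p : ℕ} (hp : p.Prime) {H : Subgroup G} (hH : H ≤ A) {u : G} (hu : u ∈ A) (ou : orderOf u = p)
    (hc : ∀ x ∈ H, x * u = u * x) (h : ∀ a ∈ A, ∀ r : ℕ, r.Prime → orderOf a ≠ p * r) : IsPGroup p H :=
  pgrp_of fun _ h1 r hr hd => (primes_cent hH hp hu ou hc hr (hd.trans (orderOf_dvd_natCard H h1))).resolve_right
    fun ⟨a, ha, e⟩ => h a ha r hr e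

theorem ord_three (ho : ∀ a ∈ A, orderOf a ≤ 8) {Y : Subgroup G} (hY : Y ≤ A) (h3 : IsPGroup 3 Y) {y : G} (hy : y ∈ Y)
    (h1 : y ≠ 1) : orderOf y = 3 := by
  have : Fact (Nat.Prime 3) := ⟨Nat.prime_three⟩
  obtain ⟨k, hk⟩ := IsPGroup.iff_orderOf.1 h3 ⟨y, hy⟩
  rw [orderOf_mk] at hk
  have h2 := ho y (hY hy)
  match k with
  | 0 => exact absurd (orderOf_eq_one_iff.1 hk) h1
  | 1 => exact hk
  | k + 2 => rw [hk, pow_add] at h2; have := Nat.one_le_pow k 3 (by decide); omega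

theorem cube (ho : ∀ a ∈ A, orderOf a ≤ 8) {Y : Subgroup G} (hY : Y ≤ A) (h3 : IsPGroup 3 Y) {y : G} (hy : y ∈ Y) :
    y ^ 3 = 1 := by
  by_cases h : y = 1
  · rw [h, one_pow]
  · rw [← ord_three ho hY h3 hy h, pow_orderOf_eq_one]

end grp

variable {K : Type} [Group K] [Finite K] {D : Dat} {T : TD K D} {R : Rows} {ν : List ℕ} {A : Subgroup K} {S : List ℕ}

theorem mem_of (H : Hy T R ν) (hS : Sup T A S) {a : K} (ha : a ∈ A) (h1 : a ≠ 1) : T.ty a ∈ S :=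
  (hS a ha).resolve_left fun e => h1 ((H.zero a).1 e)

theorem mem_of' (H : Hy T R ν) (hS : Sup T A S) {a : K} (ha : a ∈ A) {n : ℕ} (h : orderOf a = n) (h1 : n ≠ 1) :
    T.ty a ∈ S ∧ D.ord (T.ty a) = n :=
  ⟨mem_of H hS ha fun e => h1 (by rw [← h, e, orderOf_one]), T.ord a ▸ h⟩

theorem ord_of (H : Hy T R ν) (hS : Sup T A S) {P : ℕ → Prop} (h1 : P 1) (h : ∀ s ∈ S, P (D.ord s)) {a : K} (ha : a ∈ A) :
    P (orderOf a) := by
  by_cases e : a = 1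
  · rwa [e, orderOf_one]
  · exact T.ord a ▸ h _ (mem_of H hS ha e)

theorem cn_le (H : Hy T R ν) (a : K) : cn a * ntd ν 0 (T.ty a) ≤ D.N * orderOf a := by
  have h1 := (H.den (zpowers a) a).trans (Nat.mul_le_mul_left _ (num_le _ _))
  have : Finite {g : K // IsConj a g ∧ g ∈ zpowers a} := Subtype.finite
  have : Nonempty {g : K // IsConj a g ∧ g ∈ zpowers a} := ⟨⟨a, IsConj.refl a, mem_zpowers a⟩⟩
  rw [fx_mul, Nat.card_zpowers] at h1
  exact (Nat.mul_le_mul_right _ (Nat.le_mul_of_pos_right _ Nat.card_pos)).trans h1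

theorem exists_of_dvd {p : ℕ} (hp : p.Prime) (h : p ∣ Nat.card A) : ∃ a ∈ A, orderOf a = p := by
  have := Fact.mk hp
  obtain ⟨a, ha⟩ := exists_prime_orderOf_dvd_card' p h
  exact ⟨a, a.2, by rw [orderOf_coe, ha]⟩

theorem exists_of_core {p : ℕ} (hp : p.Prime) (h : pCore p A ≠ ⊥) : ∃ a ∈ A, orderOf a = p := by
  obtain ⟨a, -, ha⟩ := exists_ord hp (Lib.Cores.pCore_isPGroup (G := A) p) h
  exact ⟨a, a.2, by rw [orderOf_coe, ha]⟩

/-- elements of order six -/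
theorem six (H : Hy T R ν) (hS : Sup T A S) {x y : K} (hx : x ∈ A) (hy : y ∈ A) (ox : orderOf x = 2) (oy : orderOf y = 3)
    (hc : Commute x y) : T.ty (x * y) ∈ S ∧ D.ord (T.ty (x * y)) = 6 ∧ D.pwf (T.ty (x * y)) 3 = T.ty x ∧
      D.pwf (T.ty (x * y)) 4 = T.ty y := by
  obtain ⟨h1, h2⟩ := mem_of' H hS (mul_mem hx hy) (ord_mul hc ox oy (by decide)) (by decide)
  have h3 : x ^ 2 = 1 := ox ▸ pow_orderOf_eq_one x
  have h4 : y ^ 3 = 1 := oy ▸ pow_orderOf_eq_one y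
  refine ⟨h1, h2, ?_, ?_⟩ <;> rw [← T.pow, hc.mul_pow]
  · rw [h4, mul_one, pow_succ, h3, one_mul]
  · rw [pow_succ y, h4, one_mul, pow_mul x 2 2, h3, one_pow, one_mul]

/-- subgroups all of whose elements have types at which the combination vanishes -/
theorem card_dvd' (H : Hy T R ν) (hi : okIdx R = true) (c₀ : ℤ) (c : List (ℤ × ℕ)) {Y : Subgroup K} {d : ℕ}
    (h : ∀ y ∈ Y, y ≠ 1 → cv R c₀ c (T.ty y) = 0) (hd : cv R c₀ c 0 = d) : Nat.card Y ∣ d :=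
  card_dvd H hi c₀ c (one_mem Y) (a := 0) (fun y hy h1 => absurd (by simpa using hy) h1)
    (fun y hy h1 => h y hy fun e => h1 (by rw [e]; exact one_mem _)) (by rw [mul_zero, add_zero, hd])

/-- `2`-subgroups which centralise an element of order three -/
theorem card_two (H : Hy T R ν) (hi : okIdx R = true) (hS : Sup T A S) (ho : ∀ a ∈ A, orderOf a ≤ 8) {z : K} (hz : z ∈ A)
    (oz : orderOf z = 3) (c₀ : ℤ) (c : List (ℤ × ℕ)) {t d : ℕ} (ht : T.ty z = t) (h1 : D.pwf t 2 = t)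
    (h2 : ∀ s ∈ S, D.ord s = 6 → D.pwf s 4 = t → cv R c₀ c s = 0 ∧ cv R c₀ c (D.pwf s 3) = 0)
    (hd : cv R c₀ c 0 + 2 * cv R c₀ c t = d) {E : Subgroup K} (hE : E ≤ A ⊓ centralizer {z}) (h : IsPGroup 2 E) :
    Nat.card E ∣ d := by
  have : Fact (Nat.Prime 2) := ⟨Nat.prime_two⟩
  have : Fact (Nat.Prime 3) := ⟨Nat.prime_three⟩
  have h3 : z ^ 3 = 1 := oz ▸ pow_orderOf_eq_one z
  have hc : ∀ e ∈ E, ∀ w ∈ zpowers z, Commute e w := by
    rintro e he _ ⟨k, rfl⟩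
    exact Commute.zpow_right (mem_centralizer_singleton_iff.1 (hE he).2) k
  have h4 : ∀ w ∈ zpowers z, w ≠ 1 → orderOf w = 3 ∧ T.ty w = t := fun w hw h5 => by
    rcases F24.Geo.zp h3 hw with rfl | rfl | rfl
    · exact absurd rfl h5
    · exact ⟨oz, ht⟩
    · refine ⟨by rw [orderOf_inv, oz], ?_⟩
      rw [inv_eq_of_mul_eq_one_left ((pow_succ z 2).symm.trans h3), T.pow, ht, h1]
  have h5 : ∀ e ∈ E, e ≠ 1 → orderOf e = 2 := fun e he h6 => by
    obtain ⟨k, hk⟩ := IsPGroup.iff_orderOf.1 h ⟨e, he⟩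
    rw [orderOf_mk] at hk
    have h7 := ho _ (mul_mem (hE he).1 hz)
    rw [ord_mul (hc e he z (mem_zpowers z)) hk oz (Nat.Coprime.pow_left _ (by decide))] at h7
    match k with
    | 0 => exact absurd (orderOf_eq_one_iff.1 hk) h6
    | 1 => exact hk
    | k + 2 => rw [pow_add] at h7; have := Nat.one_le_pow k 2 (by decide); omega
  let f := MonoidHom.noncommCoprod E.subtype (zpowers z).subtype fun e w => hc e e.2 w w.2
  refine (card_dvd_of_le (K := f.range) fun e he => ⟨(⟨e, he⟩, 1), mul_one e⟩).trans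
    (card_dvd H hi c₀ c (Y := f.range) (z := z) ⟨(1, ⟨z, mem_zpowers z⟩), one_mul z⟩ (fun w hw h6 => congrArg _ (h4 w hw h6).2) ?_
      (by rw [oz]; exact hd))
  rintro _ ⟨⟨⟨e, he⟩, ⟨w, hw⟩⟩, rfl⟩ h6
  have h7 : e ≠ 1 := fun k => h6 (by
    show e * w ∈ _
    rwa [k, one_mul])
  show cv R c₀ c (T.ty (e * w)) = 0
  by_cases h8 : w = 1
  · obtain ⟨k1, k2, k3, k4⟩ := six H hS (hE he).1 hz (h5 e he h7) oz (hc e he z (mem_zpowers z))
    rw [h8, mul_one, ← k3]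
    exact (h2 _ k1 k2 (k4.trans ht)).2
  · obtain ⟨k1, k2, -, k4⟩ := six H hS (hE he).1 (zpowers_le.2 hz hw) (h5 e he h7) (h4 w hw h8).1 (hc e he w hw)
    exact (h2 _ k1 k2 (k4.trans (h4 w hw h8).2)).1

/-- the situation in characteristic three -/
structure L3 (T : TD K D) (A : Subgroup K) (z : K) (V : Subgroup K) : Prop where
  hc : centralizer (pCore 3 A : Set A) ≤ pCore 3 A
  oz : orderOf z = 3
  cz : ¬ 3 ∣ D.cnt (T.ty z)
  zA : z ∈ A
  le : V ≤ A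
  pg : IsPGroup 3 V
  comm : ∀ a ∈ V, ∀ b ∈ V, a * b = b * a
  nrm : ∀ s ∈ A, ∀ v ∈ V, s * v * s⁻¹ ∈ V
  card : Nat.card A ≤ Nat.card V * Nat.card ↥(A ⊓ centralizer {z})

theorem L3.h3 {z : K} {V : Subgroup K} (L : L3 T A z V) : 3 ∣ Nat.card A := L.oz ▸ orderOf_dvd_natCard A L.zA

/-- the first bound -/
theorem L3.bound {z : K} {V : Subgroup K} (L : L3 T A z V) (ho : ∀ a ∈ A, orderOf a ≤ 8) {a b : ℕ}
    (ha : ∀ E ≤ A ⊓ centralizer {z}, IsPGroup 2 E → Nat.card E ≤ a) (hb : ∀ Y ≤ A, IsPGroup 3 Y → Nat.card Y ≤ b) :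
    Nat.card A ≤ b * (a * b) := by
  refine L.card.trans (Nat.mul_le_mul (hb _ L.le L.pg) (card_le_two Nat.prime_two Nat.prime_three (fun x hx hp => ?_) ha
    fun E hE => hb E (hE.trans inf_le_left)))
  refine (primes_cent inf_le_left Nat.prime_three L.zA L.oz (fun c hc => mem_centralizer_singleton_iff.1 hc.2) hp
    (orderOf_dvd_natCard _ hx)).symm.imp_left fun ⟨y, hy, e⟩ => ?_
  have := ho y hy
  have := hp.two_le
  omega

/-- the second bound -/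
theorem L3.bound' {z : K} {V : Subgroup K} (L : L3 T A z V) (H : Hy T R ν) (hS : Sup T A S) (ho : ∀ a ∈ A, orderOf a ≤ 8)
    (h : ∀ s ∈ S, D.ord s = 6 → D.pwf s 4 ≠ T.ty z) {b : ℕ} (hb : ∀ Y ≤ A, IsPGroup 3 Y → Nat.card Y ≤ b) :
    Nat.card A ≤ Nat.card V * b := by
  refine L.card.trans (Nat.mul_le_mul_left _ (hb _ inf_le_left (pgrp_of fun c hc r hr hd => ?_)))
  obtain ⟨k, hk⟩ : ∃ k, orderOf (c ^ k) = r := ⟨_, orderOf_pow_orderOf_div (orderOf_pos c).ne' hd⟩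
  have h1 : Commute (c ^ k) z := Commute.pow_left (mem_centralizer_singleton_iff.1 hc.2) k
  by_contra h2
  have h3 := ho _ (mul_mem (pow_mem hc.1 k) L.zA)
  rw [ord_mul h1 hk L.oz ((Nat.coprime_primes hr Nat.prime_three).2 h2)] at h3
  have := hr.two_le
  obtain ⟨k1, k2, -, k4⟩ := six H hS (pow_mem hc.1 k) L.zA (by omega) L.oz h1
  exact h _ k1 k2 k4

/-- the action of an involution -/
theorem L3.inv {z : K} {V : Subgroup K} (L : L3 T A z V) (H : Hy T R ν) (hi : okIdx R = true) (hS : Sup T A S)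
    (ho : ∀ a ∈ A, orderOf a ≤ 8) {t : K} (ht : t ∈ A) (ot : orderOf t = 2) {i : ℕ}
    (hp : allL (fun p => decide (0 ≤ p.2)) (ntd R.rel ([], []) i).1 = true) {b : ℤ}
    (hb : ∀ s ∈ S, D.ord s = 3 → rw R i s ≤ b) : ∃ W : Subgroup K, (∀ w, w ∈ W ↔ w ∈ V ∧ t * w * t⁻¹ = w⁻¹) ∧
      Nat.card V ≤ Nat.card ↥(V ⊓ centralizer {t}) * Nat.card W ∧
      Nat.card W * rw R i (T.ty t) ≤ rw R i 0 + (Nat.card W - 1) * b ∧ ∀ c ∈ V ⊓ centralizer {t}, c ≠ 1 →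
        orderOf c = 3 ∧ ∃ s ∈ S, D.ord s = 6 ∧ D.pwf s 3 = T.ty t ∧ D.pwf s 4 = T.ty c := by
  obtain ⟨W, h1, h2⟩ := exists_inv L.comm (by rw [← pow_two, ← ot, pow_orderOf_eq_one]) (L.nrm t ht)
  refine ⟨W, h1, h2, inv_le H hi ot (fun w hw => ⟨cube ho L.le L.pg ((h1 w).1 hw).1, ((h1 w).1 hw).2⟩) hp fun w hw h3 => ?_,
    fun c hc h3 => ?_⟩
  · obtain ⟨h4, h5⟩ := mem_of' H hS (L.le ((h1 w).1 hw).1) (ord_three ho L.le L.pg ((h1 w).1 hw).1 h3) (by decide)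
    exact hb _ h4 h5
  · have h4 := ord_three ho L.le L.pg hc.1 h3
    exact ⟨h4, _, six H hS ht (L.le hc.1) ot h4 (mem_centralizer_singleton_iff.1 hc.2).symm⟩

variable [IsSimpleGroup K] {Γ : Subgroup (MulAut K)}

theorem exists_L3 (hm : T.Mass) (hu : Unif T) (h : MI A Γ) (h3 : pCore 3 A ≠ ⊥) (h2 : pCore 2 A = ⊥)
    (ho : ∀ a ∈ A, orderOf a ≤ 8) {F : ℕ} (h4 : 3 ^ (F + 1) ∣ D.N) (h5 : ¬ 3 ^ (F + 1 + 1) ∣ D.N) : ∃ z V, L3 T A z V := by
  have h6 := fun z => cent_three h h3 h2 (z := z) fun a ha r _ hr e => by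
    have := ho a ha
    omega
  obtain ⟨z, oz, h7, h8⟩ := exists_central Nat.prime_three (Mon.core_pgroup (S := A) 3) (hm.1 ▸ h4)
  have h9 : ∀ s ∈ A, ∀ v ∈ Mon.core 3 A ⊓ centralizer (Mon.core 3 A : Set K),
      s * v * s⁻¹ ∈ Mon.core 3 A ⊓ centralizer (Mon.core 3 A : Set K) := fun s hs v hv =>
    ⟨Mon.core_conj 3 s hs v hv.1, (mem_normalizer_iff.1 (cent_norm (Mon.core_conj 3) hs) v).1 hv.2⟩
  exact ⟨z, _, hc_of h6, oz, not_dvd_cnt hm hu Nat.prime_three oz h7 h5, map_subtype_le _ (h6 z h8),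
    inf_le_left.trans (map_subtype_le _), (Mon.core_pgroup 3).to_inf_left,
    fun a ha b hb => mem_centralizer_iff.1 hb.2 a ha.1, h9,
    Mon.card_le_of_conj fun s hs => h9 s hs z ⟨h6 z h8, mem_centralizer_iff.2 fun y hy => (h8 y hy).symm⟩⟩

omit [IsSimpleGroup K] in
/-- the Sylow subgroups of `A` are too small -/
theorem dvd_index (hm : T.Mass) {F : ℕ} (h4 : 3 ^ (F + 1) ∣ D.N) (hb : ∀ Y ≤ A, IsPGroup 3 Y → Nat.card Y ≤ 3 ^ F) :
    3 ∣ A.index := by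
  by_contra h
  have : Fact (Nat.Prime 3) := ⟨Nat.prime_three⟩
  rw [← hm.1, ← A.card_mul_index] at h4
  obtain ⟨Q, hQ⟩ := Sylow.exists_subgroup_card_pow_prime 3
    ((Nat.Coprime.pow_left _ (Nat.prime_three.coprime_iff_not_dvd.2 h)).dvd_of_dvd_mul_right h4)
  have h1 := hb _ (map_subtype_le Q) ((IsPGroup.of_card hQ).map _)
  rw [card_map_of_injective A.subtype_injective, hQ, Nat.pow_le_pow_iff_right (by decide)] at h1
  omega

/-- **every involution commutes with an element of order three** -/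
theorem L3.six {z : K} {V : Subgroup K} (L : L3 T A z V) (H : Hy T R ν) (hS : Sup T A S) (h : MI A Γ) (hd : 3 ∣ A.index)
    {t : K} (ht : t ∈ A) (ot : orderOf t = 2) : ∃ s ∈ S, D.ord s = 6 ∧ D.pwf s 3 = T.ty t := by
  by_contra h1
  refine dead_inv h L.h3 L.hc ht (by rw [← pow_two, ← ot, pow_orderOf_eq_one]) (fun g hg og hc => ?_) hd
  obtain ⟨k1, k2, k3, -⟩ := Sp4.six H hS ht hg ot og hc
  exact h1 ⟨_, k1, k2, k3⟩

/-- **the `p`-local case for a prime `p` with small centralisers** -/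
theorem five (hm : T.Mass) (hu : Unif T) (h : MI A Γ) {p F m : ℕ} (hp : p.Prime) (h0 : pCore p A ≠ ⊥)
    (ho : ∀ a ∈ A, ∀ r : ℕ, r.Prime → orderOf a ≠ p * r) (hN : D.N = p ^ (F + 1) * m) (h1 : ¬ p ∣ m) :
    ∃ e ∈ A, orderOf e = p ∧ ¬ p ∣ D.cnt (T.ty e) ∧ Nat.card A ≤ p ^ (F + 1) * p ^ (F + 1) := by
  obtain ⟨z, oz, h2, h3⟩ := exists_central (F := F) hp (Mon.core_pgroup (S := A) p) (by rw [hm.1, hN]; exact dvd_mul_right _ _)
  have h4 : z ∈ centralizer (Mon.core p A : Set K) := mem_centralizer_iff.2 fun y hy => (h3 y hy).symm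
  have h5 := cent_core_le h h0
  obtain ⟨u, h6, ou⟩ := exists_ord hp (Mon.core_pgroup (S := A) p)
    fun e => h0 ((map_eq_bot_iff_of_injective _ A.subtype_injective).1 e)
  have h7 : ∀ E : Subgroup K, IsPGroup p E → Nat.card E ≤ p ^ (F + 1) := fun E hE =>
    Nat.le_of_dvd (pow_pos hp.pos _) (pg_le hp hE (hN ▸ hm.1 ▸ card_subgroup_dvd_card E) h1)
  refine ⟨z, h5 h4, oz, not_dvd_cnt hm hu hp oz h2 fun k => h1 ?_, (Mon.card_le_of_conj fun s hs =>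
    (mem_normalizer_iff.1 (cent_norm (Mon.core_conj p) hs) z).1 h4).trans (Nat.mul_le_mul
      (h7 _ (pg_cent hp h5 (map_subtype_le _ h6) ou (fun x hx => (mem_centralizer_iff.1 hx u h6).symm) ho))
      (h7 _ (pg_cent hp inf_le_left (h5 h4) oz (fun x hx => mem_centralizer_singleton_iff.1 hx.2) ho)))⟩
  rw [hN, pow_succ _ (F + 1)] at k
  exact Nat.dvd_of_mul_dvd_mul_left (pow_pos hp.pos _) k

end Cfsg.Agent.N2.Sp4
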