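import Cfsg.Agent.N2.Sp4.Odd
import Cfsg.Agent.N2.Sp.GCo1

/-!
# S3519: the `p`-local subgroups of `Co1`, `p ≥ 5` (helper15)
-/

set_option autoImplicit false
set_option maxRecDepth 100000

namespace Cfsg.Agent.N2.Sp4

open Subgroup Cfsg Cfsg.Agent.FP3 Cfsg.Agent.SB Cfsg.Agent.N2.Sp Cfsg.Agent.N2.Sp2 Cfsg.Agent.N2.Sp4T
open Cfsg.Agent.TAB.Eng Cfsg.Agent.TAB.Use Cfsg.Agent.SB.SporL Cfsg.Agent.TH.Spor

variable {K : Type} [Group K] [Finite K]

/-- a prime divisor of the order of a centraliser -/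
theorem dvd_cn {D : Dat} {T : TD K D} (hm : T.Mass) (hu : Unif T) {p r j : ℕ} (hp : p.Prime) (hr : r.Prime) (h : p < r)
    {x : K} (hx : orderOf x = p) (k1 : r ^ j ∣ D.N) (k2 : ¬ r ^ j ∣ D.cnt (T.ty x)) : r ∣ cn x := by
  have := Fintype.ofFinite {h : K // T.ty h = T.ty x}
  have h1 := sum_fx (T := T) (zpowers x) (T.ty x)
  have h2 : ∀ y z : K, (orderOf y).Prime → T.ty y = T.ty z → fx (zpowers x) y ≤ fx (zpowers x) z := fun y z h3 h4 => by
    obtain ⟨k, hk⟩ := hu y z h3 h4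
    exact fx_conj _ hk ▸ fx_le_pow _ y k
  rw [Finset.sum_congr rfl (g := fun _ => cn x * cc (zpowers x) x) fun y _ => by
    rw [← fx_mul, le_antisymm (h2 y x (by rwa [T.ord, y.2, ← T.ord, hx]) y.2) (h2 x y (hx ▸ hp) y.2.symm)],
    Finset.sum_const, Finset.card_univ, ← Nat.card_eq_fintype_card, hm.2 _ (T.lt x), smul_eq_mul] at h1
  by_contra h3
  have h4 : cc (zpowers x) x ≠ 0 := fun e => by
    rw [e, mul_zero, mul_zero] at h1
    exact (mul_pos Nat.card_pos (num_pos (mem_zpowers x))).ne h1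
  refine k2 ((Nat.Coprime.pow_left _ (hr.coprime_iff_not_dvd.2 (hr.not_dvd_mul h3 (Nat.not_dvd_of_pos_of_lt
    (Nat.pos_of_ne_zero h4) ((cc_le _ _).trans_lt ?_))))).dvd_of_dvd_mul_right (h1 ▸ (hm.1 ▸ k1).mul_right _))
  rwa [Nat.card_zpowers, hx]

open Cfsg.Agent.N2.Sp.Co1 in
/-- **`Co1`: a bad subgroup is not `p`-local for `p ≥ 5`** -/
theorem big_Co1 [IsSimpleGroup K] {A : Subgroup K} {Γ : Subgroup (MulAut K)} {T : TD K D} (H : Hy T R nu) (hu : Unif T)
    (h : MI A Γ) (hb : ¬ Good A) {p : ℕ} (hp : p.Prime) (h5 : 5 ≤ p) : pCore p A = ⊥ := by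
  have hr := res H hb h.ne_top
  have hS := (sup H hb h.ne_top).2
  have ho : ∀ a ∈ A, orderOf a ≤ 8 ∨ orderOf a = 10 ∨ orderOf a = 12 ∨ orderOf a = 15 := fun a ha =>
    ord_of H hS (P := fun n => n ≤ 8 ∨ n = 10 ∨ n = 12 ∨ n = 15) (by decide) (by decide +kernel) ha
  by_contra h0
  obtain ⟨a, ha, oa⟩ := exists_of_core hp h0
  have k3 := ho a ha
  rw [oa] at k3
  obtain rfl | rfl : p = 5 ∨ p = 7 := by
    have : p ≤ 15 := by omega
    revert hp k3
    clear * - h5 this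
    interval_cases p <;> decide
  swap
  · obtain ⟨e, k4, k5, -, k7⟩ := five H.mass hu h (F := 1) (m := D.N / 7 ^ 2) hp h0 (fun a ha r hr e => by
      have := ho a ha
      have := hr.two_le
      omega) (by decide +kernel) (by decide +kernel)
    obtain ⟨k8, k9⟩ := mem_of' H (sup_al hr k7) k4 k5 (by decide)
    exact (by decide +kernel : ∀ s ∈ al O (7 ^ (1 + 1) * 7 ^ (1 + 1)), D.ord s ≠ 7) _ k8 k9
  have := Fact.mk hp
  have h1 := cent_core_le h h0
  have h2 : ∀ u ∈ A, orderOf u = 5 → T.ty u ≠ 14 → ∀ E ≤ A, (∀ x ∈ E, Commute u x) → Nat.card E ≤ 5 ^ 4 :=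
    fun u k1 k2 k3 E k4 k5 => Nat.le_of_dvd (by norm_num) (pg_le (m := D.N / 5 ^ 4) hp (pgrp_of fun c hc r k6 hd => by
      obtain ⟨k, hk⟩ : ∃ k, orderOf (c ^ k) = r := ⟨_, orderOf_pow_orderOf_div (orderOf_pos c).ne' hd⟩
      by_contra k7
      have k8 := (k5 c hc).pow_right k
      have k9 := ord_mul k8 k2 hk ((Nat.coprime_primes hp k6).2 (Ne.symm k7))
      have k10 := mul_mem k1 (pow_mem (k4 hc) k)
      have k11 := ho _ k10
      have := k6.two_le
      obtain ⟨k12, k13⟩ := mem_of' H hS k10 k9 (by omega)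
      refine k3 (Eq.trans ?_ ((by decide +kernel : ∀ s ∈ S, 10 ≤ D.ord s → 5 ∣ D.ord s → D.pwf s 6 = 14) _ k12
        (by omega) (by omega)))
      rw [← T.pow, k8.mul_pow, pow_succ u, ← k2, pow_orderOf_eq_one, one_mul,
        orderOf_dvd_iff_pow_eq_one.1 (hk ▸ (by omega : r = 2 ∨ r = 3).elim (· ▸ by decide) (· ▸ by decide)), mul_one])
      ((card_subgroup_dvd_card E).trans (by rw [H.mass.1]; decide +kernel)) (by decide +kernel))
  obtain ⟨u, k1, k2⟩ := exists_ord hp (Mon.core_pgroup (S := A) 5)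
    fun e => h0 ((map_eq_bot_iff_of_injective _ A.subtype_injective).1 e)
  by_cases h3 : ∀ y ∈ Mon.core 5 A, orderOf y = 5 → T.ty y = 14
  · have h4 : Nat.card (Mon.core 5 A) ∣ 5 := card_dvd' H (by decide +kernel) 120 [(-9, 1), (2, 2), (1, 3)]
      (fun y hy k3 => by
        obtain ⟨j, hj⟩ := IsPGroup.iff_orderOf.1 (Mon.core_pgroup (S := A) 5) ⟨y, hy⟩
        have k4 := ho y (map_subtype_le _ hy)
        rw [orderOf_mk] at hj
        rw [h3 y hy (by
          match j with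
          | 0 => exact absurd (orderOf_eq_one_iff.1 hj) k3
          | 1 => exact hj
          | j + 2 => rw [pow_add] at hj; have := Nat.one_le_pow j 5 (by decide); omega)]
        decide +kernel) (by decide +kernel)
    have h6 : zpowers u = Mon.core 5 A := eq_of_le_of_card_ge (zpowers_le.2 k1)
      (by rw [Nat.card_zpowers, k2]; exact Nat.le_of_dvd (by norm_num) h4)
    have := Fact.mk Nat.prime_seven
    obtain ⟨c, hc⟩ := exists_prime_orderOf_dvd_card' (G := centralizer ({u} : Set K)) 7 (dvd_cn (j := 2) H.mass hu hp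
      Nat.prime_seven (by norm_num) k2 (by decide +kernel) (by rw [h3 u k1 k2]; decide +kernel))
    have h7 : Commute (c : K) u := mem_centralizer_singleton_iff.1 c.2
    have h8 := ho _ (mul_mem (h1 (h6 ▸ mem_centralizer_iff.2 fun y hy => (F24.Geo.comm_zp h7 hy).symm))
      (map_subtype_le _ k1))
    rw [ord_mul h7 ((orderOf_coe c).trans hc) k2 (by decide)] at h8
    omega
  · push Not at h3
    obtain ⟨y, k3, k4, k5⟩ := h3
    obtain ⟨z, oz, k6, k7⟩ := exists_central (F := 3) hp (Mon.core_pgroup (S := A) 5) (by rw [H.mass.1]; decide +kernel)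
    have k8 : z ∈ centralizer (Mon.core 5 A : Set K) := mem_centralizer_iff.2 fun y hy => (k7 y hy).symm
    obtain ⟨k9, k10⟩ := mem_of' H hS (h1 k8) oz (by decide)
    have k11 := (by decide +kernel : ∀ s ∈ S, D.ord s = 5 → ¬ 5 ∣ D.cnt s → s = 16) _ k9 k10
      (not_dvd_cnt H.mass hu hp oz k6 (by decide +kernel))
    have k12 := (mem_of' H (sup_al hr ((Mon.card_le_of_conj fun s hs =>
      (mem_normalizer_iff.1 (cent_norm (Mon.core_conj 5) hs) z).1 k8).trans (Nat.mul_le_mul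
        (h2 y (map_subtype_le _ k3) k4 k5 _ h1 fun x hx => mem_centralizer_iff.1 hx y k3)
        (h2 z (h1 k8) oz (by omega) _ inf_le_left fun x hx => (mem_centralizer_singleton_iff.1 hx.2).symm))))
      (h1 k8) oz (by decide)).1
    exact absurd (k11 ▸ k12) (by decide +kernel)

end Cfsg.Agent.N2.Sp4
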