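import Cfsg.Agent.N2.Sp4.Co1M
import Cfsg.Agent.N2.Sp4.Co1F
import Cfsg.Agent.N2.Co2L.N33
import Cfsg.Agent.H956.Co1P.Main

/-!
# S3519: the odd local subgroups of `Co1` (helper15)
-/

set_option autoImplicit false
set_option maxRecDepth 100000

namespace Cfsg.Agent.N2.Sp4

open Subgroup Cfsg Cfsg.Agent.FP3 Cfsg.Agent.SB Cfsg.Agent.N2.Sp Cfsg.Agent.N2.Sp2 Cfsg.Agent.N2.Sp4T
open Cfsg.Agent.TAB.Eng Cfsg.Agent.TAB.Use Cfsg.Agent.SB.SporL Cfsg.Agent.TH.Spor

variable {K : Type} [Group K] [Finite K] [IsSimpleGroup K] {A : Subgroup K} {Γ : Subgroup (MulAut K)}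

open Cfsg.Agent.N2.Sp.Co1 in
/-- **`Co1`, `O₃(A) ≠ 1 = O₂(A)`.** -/
theorem three_Co1 (hK : Spor.IsoCo1 K) {T : TD K D} (H : Hy T R nu) (hu : Unif T) (h : MI A Γ) (hb : ¬ Good A)
    (h2 : pCore 2 A = ⊥) : pCore 3 A = ⊥ := by
  have := Fact.mk Nat.prime_three
  obtain ⟨hU, hS⟩ := sup H hb h.ne_top
  have ho : ∀ a ∈ A, orderOf a ≤ 8 ∨ orderOf a = 10 ∨ orderOf a = 12 ∨ orderOf a = 15 := fun a ha =>
    ord_of H hS (P := fun n => n ≤ 8 ∨ n = 10 ∨ n = 12 ∨ n = 15) (by decide) (by decide +kernel) ha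
  have h3 : ∀ x ∈ A, ∀ k, x ^ 3 ^ k = 1 → x = 1 ∨ orderOf x = 3 := fun x hx k e => by
    obtain ⟨j, -, hj⟩ := (Nat.dvd_prime_pow Nat.prime_three).1 (orderOf_dvd_of_pow_eq_one e)
    have := ho x hx
    match j with
    | 0 => exact Or.inl (orderOf_eq_one_iff.1 hj)
    | 1 => exact Or.inr hj
    | j + 2 => rw [pow_add] at hj; have := Nat.one_le_pow j 3 (by decide); omega
  by_contra h0
  have h1 := cent_core_le h h0
  have h4 : Mon.core 3 A ≠ ⊥ := fun e => h0 ((map_eq_bot_iff_of_injective _ A.subtype_injective).1 e)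
  obtain ⟨e, he, oe, te⟩ : ∃ e ∈ Mon.core 3 A, orderOf e = 3 ∧ T.ty e ≠ 4 := by
    by_contra! k
    have k1 : ∀ y ∈ Mon.core 3 A, y ≠ 1 → T.ty y = 4 := fun y hy k2 => by
      obtain ⟨j, hj⟩ := Mon.core_pgroup (S := A) 3 ⟨y, hy⟩
      exact k y hy ((h3 y (map_subtype_le _ hy) j (congrArg Subtype.val hj)).resolve_left k2)
    have k2 : Nat.card (Mon.core 3 A) ∣ 3 ^ 2 := card_dvd' H (by decide +kernel) 377 [(-11, 1), (3, 2), (1, 3)]
      (fun y hy k3 => by rw [k1 y hy k3]; decide +kernel) (by decide +kernel)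
    obtain ⟨u, k3, k4⟩ := exists_ord Nat.prime_three (Mon.core_pgroup (S := A) 3) h4
    have k5 : zpowers u = Mon.core 3 A := eq_of_le_of_card_ge (zpowers_le.2 k3) (by
      obtain ⟨j, hj, f⟩ := (Nat.dvd_prime_pow Nat.prime_three).1 k2
      rw [Nat.card_zpowers, k4, f]
      interval_cases j
      · decide
      · decide
      · obtain ⟨y, k6, k7, k8⟩ := Co2L.boxN33 K hK T H hu A Γ h hb _ f
        exact absurd (k1 y k6 k7) k8)
    have k6 := (le_cn H.mass u).trans (Nat.mul_le_mul_left _ ((card_le_of_le fun c hc => h1 (k5 ▸ mem_centralizer_iff.2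
      fun y hy => (F24.Geo.comm_zp (mem_centralizer_singleton_iff.1 hc) hy).symm)).trans hU))
    rw [k u k3 k4] at k6
    exact absurd k6 (by decide +kernel)
  have C : CoT.Cr A (Mon.core 3 A) := ⟨map_subtype_le _, Mon.core_conj 3, fun z hz => by_contra fun hz' =>
      core_other (Or.inr ⟨rfl, rfl⟩) h1 (fun r hr hd => by
        have := Fact.mk hr
        obtain ⟨⟨c, hc⟩, k1⟩ := exists_prime_orderOf_dvd_card' r hd
        rw [orderOf_mk] at k1
        refine (Mon.prime_cases hr).imp_right fun k => k.resolve_right fun k => te ?_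
        have k2 : Commute e c := mem_centralizer_iff.1 hc e he
        have k3 := ord_mul k2 oe k1 ((Nat.coprime_primes Nat.prime_three hr).2 (by omega))
        have k4 := mul_mem (map_subtype_le _ he) (h1 hc)
        have k5 := ho _ k4
        obtain ⟨k6, k7⟩ := mem_of' H hS k4 k3 (by omega)
        refine Eq.trans ?_ ((by decide +kernel : ∀ s ∈ S, 15 ≤ D.ord s → D.pwf s 10 = 4) _ k6 (by omega))
        rw [← T.pow, k2.mul_pow, pow_succ e, pow_mul e 3 3, ← oe, pow_orderOf_eq_one, one_pow, one_mul,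
          orderOf_dvd_iff_pow_eq_one.1 (k1 ▸ (by omega : r = 5) ▸ by decide), mul_one]) hz hz'
        (by rw [Mon.core, h2, Subgroup.map_bot]),
    fun x hx => (mi_norm h (inv_core h 3) h4 fun e => h.ne_top (top_le_iff.1 (e ▸ map_subtype_le _))).le
      (mem_normalizer_fintype hx),
    fun x hx k e => (h3 x hx k e).elim (fun f => by rw [f, one_pow]) (· ▸ pow_orderOf_eq_one x), Mon.core_pgroup 3,
    fun X k1 k2 k3 => H230.le_pCoreOf k1 (F24.Geo.le_norm k2) k3⟩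
  obtain ⟨f⟩ := hK
  obtain ⟨P, hP⟩ := ((Mon.core_pgroup (S := A) 3).map f.toMonoidHom).exists_le_sylow
  obtain ⟨g⟩ := H956.Co1P.sylow_co1 P
  refine (CoT.md_of C (f.symm.toMonoidHom.comp ((P : Subgroup Spor.Co1).subtype.comp g.toMonoidHom))
    (f.symm.injective.comp (Subtype.val_injective.comp g.injective)) fun y hy => ⟨g.symm ⟨f y, hP ⟨y, hy, rfl⟩⟩, ?_⟩).no
  simp

open Cfsg.Agent.N2.Sp.Co1 in
/-- **`Co1`: the odd local case** -/
theorem odd_Co1 (hK : Spor.IsoCo1 K) {T : TD K D} (H : Hy T R nu) (hu : Unif T) (h : MI A Γ) (hb : ¬ Good A)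
    (h2 : pCore 2 A = ⊥) {p : ℕ} (hp : p.Prime) : pCore p A = ⊥ := by
  rcases Mon.prime_cases hp with rfl | rfl | k
  exacts [h2, three_Co1 hK H hu h hb h2, big_Co1 H hu h hb hp k]

end Cfsg.Agent.N2.Sp4
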