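import Cfsg.Agent.N2.Sp4T.Mx
import Cfsg.Agent.SB.Mon.F24.RowN

/-!
# S3519: the 3-local case in `Fi24'` (helper15)

The proof of `SB.F24.boxGeo` with other leaves.
-/

set_option autoImplicit false
set_option linter.unusedSectionVars false

namespace Cfsg.Agent.N2.Sp4

open Subgroup Cfsg Cfsg.Agent.FP3 Cfsg.Agent.SB Cfsg.Agent.SB.F24 Cfsg.Agent.SB.F24.Geo Cfsg.Agent.N2.Sp4T

section thirteen

variable {G : Type} [Group G] {p q r : G}

/-- coordinates -/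
def cw (p q r : G) (v : ZMod 3 × ZMod 3 × ZMod 3) : G := p ^ v.1.val * q ^ v.2.1.val * r ^ v.2.2.val

/-- a matrix of order thirteen -/
def m13 (v : ZMod 3 × ZMod 3 × ZMod 3) : ZMod 3 × ZMod 3 × ZMod 3 :=
  (v.1 + (v.2.1 + (v.2.2 + v.1 + v.1)), v.2.1 + (v.2.2 + v.1 + v.1), v.2.2 + v.1 + v.1)

theorem m13_pow : ∀ a, m13^[13] a = a := by decide

theorem m13_ne : ∀ k < 13, m13^[k] (1, 0, 0) = (1, 0, 0) → k = 0 := by decide

theorem pow_val (hp : p ^ 3 = 1) (a b : ZMod 3) : p ^ (a + b).val = p ^ a.val * p ^ b.val := by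
  rw [ZMod.val_add, ← pow_add, ← pow_eq_pow_mod _ hp]

theorem cw_cyc (h1 : Commute p q) (h2 : Commute p r) (a b c : ZMod 3) : cw p q r (a, b, c) = cw q r p (b, c, a) := by
  simp only [cw]
  rw [mul_assoc, ((h1.pow_pow _ _).mul_right (h2.pow_pow _ _)).eq]

theorem cw_el (hp : p ^ 3 = 1) (h1 : Commute p q) {x : G} (hx : El p q r x) (a b c : ZMod 3) :
    x * cw p q r (a, b, c) * x⁻¹ = cw p q r (a + b, b, c) := by
  have e : ∀ y, x * y * x⁻¹ = MulAut.conj x y := fun _ => rfl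
  simp only [cw]
  rw [e, map_mul, map_mul, map_pow, map_pow, map_pow, ← e, ← e, ← e, hx.1, conj_of_comm hx.2.1, conj_of_comm hx.2.2,
    pow_val hp, ← h1.eq, h1.mul_pow, mul_assoc (p ^ a.val), mul_assoc (p ^ a.val), mul_assoc (p ^ a.val)]

theorem thirteen (hp : p ^ 3 = 1) (hq : q ^ 3 = 1) (hr : r ^ 3 = 1) (p1 : p ≠ 1) (q1 : q ≠ 1) (r1 : r ≠ 1)
    (h1 : Commute p q) (h2 : Commute p r) (h3 : Commute q r)
    (hi : ∀ x ∈ zpowers p, ∀ y ∈ zpowers q, ∀ z ∈ zpowers r, x * y * z = 1 → x = 1 ∧ y = 1 ∧ z = 1) {x y w : G}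
    (hx : El p q r x) (hy : El q r p y) (hw : El r p q w) : 13 ∣ orderOf (x * y * w * w) := by
  have k1 : ∀ a b c, w * cw p q r (a, b, c) * w⁻¹ = cw p q r (a, b, c + a) := fun a b c => by
    rw [← cw_cyc h2.symm h3.symm, cw_el hr h2.symm hw, cw_cyc h2.symm h3.symm]
  have k2 : ∀ a b c, y * cw p q r (a, b, c) * y⁻¹ = cw p q r (a, b + c, c) := fun a b c => by
    rw [cw_cyc h1 h2, cw_el hq h3 hy, cw_cyc h1 h2]
  have step : ∀ v, x * y * w * w * cw p q r v * (x * y * w * w)⁻¹ = cw p q r (m13 v) := fun ⟨a, b, c⟩ => by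
    rw [show x * y * w * w * cw p q r (a, b, c) * (x * y * w * w)⁻¹ =
      x * (y * (w * (w * cw p q r (a, b, c) * w⁻¹) * w⁻¹) * y⁻¹) * x⁻¹ by group, k1, k1, k2, cw_el hp h1 hx]
    rfl
  generalize x * y * w * w = g at step
  have iter : ∀ k v, g ^ k * cw p q r v * (g ^ k)⁻¹ = cw p q r (m13^[k] v) := fun k => by
    induction k with
    | zero => intro v; simp
    | succ k ih =>
      intro v
      rw [Function.iterate_succ_apply', ← step, ← ih, pow_succ']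
      group
  have h4 := iter (orderOf g) (1, 0, 0)
  rw [pow_orderOf_eq_one, one_mul, inv_one, mul_one, ← Nat.mod_add_div (orderOf g) 13, Function.iterate_add_apply,
    Function.iterate_mul, Function.iterate_fixed (m13_pow _)] at h4
  refine Nat.dvd_of_mod_eq_zero (m13_ne _ (Nat.mod_lt _ (by norm_num)) ?_)
  generalize m13^[orderOf g % 13] (1, 0, 0) = v at h4
  obtain ⟨a, b, c⟩ := v
  have k : ∀ {u : G}, u ^ 3 = 1 → u ≠ 1 → ∀ d : ZMod 3, u ^ d.val = 1 → d = 0 := fun {u} hu u1 d hd => by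
    have := orderOf_dvd_of_pow_eq_one hd
    rw [orderOf_eq_prime hu u1] at this
    exact (ZMod.val_eq_zero d).1 (Nat.eq_zero_of_dvd_of_lt this (ZMod.val_lt d))
  have h5 : p ^ (a + 2).val * q ^ b.val * r ^ c.val = 1 := by
    have h6 : cw p q r (1, 0, 0) = p := by simp [cw, ZMod.val_one]
    have h7 : (2 : ZMod 3).val = 2 := rfl
    rw [add_comm, pow_val hp, h7, mul_assoc, mul_assoc, ← mul_assoc (p ^ a.val)]
    change p ^ 2 * cw p q r (a, b, c) = 1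
    rw [← h4, h6, ← pow_succ, hp]
  obtain ⟨e1, e2, e3⟩ := hi _ (npow_mem_zpowers _ _) _ (npow_mem_zpowers _ _) _ (npow_mem_zpowers _ _) h5
  rw [k hq q1 b e2, k hr r1 c e3, eq_neg_of_add_eq_zero_left (k hp p1 _ e1)]
  rfl

end thirteen

section geo

variable {G : Type} [Group G] [Finite G] {T S B : Subgroup G} {Pt : G → Prop} {Q : G → Subgroup G} {P : Set G} {p q w : G}

/-- the hypotheses on `B` -/
structure Sm (T S B : Subgroup G) : Prop where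
  nrm : ∀ Y : Subgroup G, Y ≤ T → Y ≠ ⊥ → IsPGroup 3 Y → (∀ s ∈ S, ∀ y ∈ Y, s * y * s⁻¹ ∈ Y) →
    T ⊓ normalizer (Y : Set G) ≤ B
  n3 : ∀ a ∈ B, ∀ r : ℕ, r.Prime → 5 ≤ r → orderOf a ≠ 3 * r
  n13 : ∀ a ∈ B, ¬ 13 ∣ orderOf a

theorem Sm.solv (h : Sm T S B) {C : Subgroup G} (hC : C ≤ B) (hp : p ∈ B) (h3 : orderOf p = 3)
    (hc : ∀ c ∈ C, Commute c p) : Group.IsSolvable C := by
  refine solv_of_primes fun r hr hd => ?_
  rcases primes_cent hC Nat.prime_three hp h3 hc hr hd with k | ⟨a, ha, k⟩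
  · exact Or.inr k
  · exact (Mon.prime_cases hr).imp_right fun k' => k'.resolve_right fun k' => h.n3 a ha r hr k' k

variable (H : Geo T Pt Q) (hS : Sm T S B)

include H hS

theorem sing {I : Set G} (hp : p ∈ I) (hI : ∀ a ∈ I, Pt a) (hc : ∀ a ∈ I, ∀ b ∈ I, b ∈ Q a)
    (hinv : ∀ s ∈ S, ∀ a ∈ I, s * a * s⁻¹ ∈ I) : False := by
  have hle : ∀ a ∈ I, closure I ≤ Q a := fun a ha => (closure_le _).2 (hc a ha)
  have hcm : ∀ a ∈ I, ∀ b ∈ I, Commute a b := fun a ha b hb => H.comm (hI b hb) (hc b hb a ha)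
  have hs := hS.nrm (closure I) ((hle p hp).trans (H.Q_le (hI p hp)))
    (fun e => H.ne (hI p hp) (mem_bot.1 (e ▸ subset_closure hp))) (closure_pg hcm fun a ha => H.cube (hI a ha))
    fun s hs y hy => conj_closure (fun a ha => subset_closure (hinv s hs a ha)) hy
  have h5 : ∀ a ∈ I, Q a ≤ B := fun a ha => (le_inf (H.Q_le (hI a ha)) (le_norm fun g hg y hy => by
    have h6 := mul_mem (zpowers_le.2 (subset_closure ha) ((H.es (hI a ha)).com g hg y (hle a ha hy))) hy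
    rwa [inv_mul_cancel_right] at h6)).trans hs
  have hcen : ∀ A : Subgroup G, A ≤ T → (∀ g ∈ A, ∀ a ∈ I, Commute g a) → Group.IsSolvable A := fun A h1 h2 =>
    hS.solv ((le_inf h1 (le_norm fun g hg y hy => conj_closure (fun a ha => by
      rw [conj_of_comm (h2 g hg a ha)]
      exact subset_closure ha) hy)).trans hs) (h5 p hp (H.self (hI p hp)))
      (orderOf_eq_prime (H.cube (hI p hp)) (H.ne (hI p hp))) fun c hc => h2 c hc p hp
  by_cases h1 : ∀ a ∈ I, a ∈ zpowers p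
  · obtain ⟨q, -, -, -, -, h2⟩ := H.line (hI p hp) ⊥ IsPGroup.of_bot fun b hb => by
      rw [mem_bot.1 hb]
      exact Commute.one_right p
    exact h2 (hcen _ (inf_le_left.trans inf_le_left) fun g hg a ha => comm_zp (mem_cen.1 hg.1.2) (h1 a ha))
  push Not at h1
  obtain ⟨q, hq, h1⟩ := h1
  by_cases h2 : ∀ a ∈ I, ∃ z ∈ zpowers q, a * z ∈ zpowers p
  · refine H.not_solv (hI p hp) (hI q hq) (hc p hp q hq) h1 (hcen _ (inf_le_left.trans inf_le_left) fun g hg a ha => ?_)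
    obtain ⟨z, hz, h3⟩ := h2 a ha
    have h4 := (comm_zp (mem_cen.1 hg.1.2) h3).mul_right (comm_zp (mem_cen.1 hg.2) hz).inv_right
    rwa [mul_inv_cancel_right] at h4
  push Not at h2
  obtain ⟨r, hr, h2⟩ := h2
  let Ind : G → G → G → Prop := fun a b c => a ∈ I ∧ b ∈ I ∧ c ∈ I ∧
    ∀ x ∈ zpowers a, ∀ y ∈ zpowers b, ∀ z ∈ zpowers c, x * y * z = 1 → x = 1 ∧ y = 1 ∧ z = 1
  have hz : ∀ {a b x y : G}, a ∈ I → b ∈ I → x ∈ zpowers a → y ∈ zpowers b → x * y = y * x := fun ha hb hx hy =>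
    (comm_zp (comm_zp (hcm _ hb _ ha) hx).symm hy).eq
  have s1 : ∀ a b c, Ind a b c → Ind b c a := fun a b c h => ⟨h.2.1, h.2.2.1, h.1, fun x hx y hy z hz' e => by
    rw [mul_assoc, hz h.2.2.1 h.1 hy hz', ← mul_assoc, hz h.2.1 h.1 hx hz'] at e
    have h3 := h.2.2.2 z hz' x hx y hy e
    exact ⟨h3.2.1, h3.2.2, h3.1⟩⟩
  have key : ∀ a b c, Ind a b c → ∃ x ∈ B, El a b c x := by
    intro a b c h
    have ha := hI a h.1
    obtain ⟨x, hx, h3, h4⟩ : ∃ x ∈ Q a, Commute x c ∧ ¬ Commute x b := by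
      by_contra h3
      push Not at h3
      obtain ⟨z, hz', h4⟩ := H.dep ha (hc a h.1 c h.2.2.1) (hc a h.1 b h.2.1) h3
      exact H.ne (hI b h.2.1) (h.2.2.2 _ (inv_mem h4) b (mem_zpowers b) z hz' (by group)).2.1
    obtain ⟨y, rfl | rfl, e⟩ := H.shift' ha hx (hc a h.1 b h.2.1) h4
    · exact ⟨y, h5 a h.1 hx, e, H.comm ha hx, h3⟩
    · exact ⟨x⁻¹, h5 a h.1 (inv_mem hx), e, H.comm ha (inv_mem hx), h3.inv_left⟩
  have i0 : Ind p q r := ⟨hp, hq, hr, fun x hx y hy z hz' e => by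
    have h3 : z = 1 := by
      by_contra h3
      have h4 : z = (x * y)⁻¹ := eq_inv_of_mul_eq_one_right e
      rcases zp (H.cube (hI r hr)) hz' with h5 | h5 | h5
      · exact h3 h5
      · refine h2 y hy ?_
        rw [← h5, h4, hz hp hq hx hy, mul_inv_rev, inv_mul_cancel_right]
        exact inv_mem hx
      · refine h2 y⁻¹ (inv_mem hy) ?_
        rw [← inv_inv r, ← h5, h4, inv_inv, mul_inv_cancel_right]
        exact hx
    rw [h3, mul_one] at e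
    have h4 : y = 1 := H.inf_zp (hI p hp) (hI q hq) h1 (by
      rw [eq_inv_of_mul_eq_one_right e]
      exact inv_mem hx) hy
    rw [h4, mul_one] at e
    exact ⟨e, h4, h3⟩⟩
  obtain ⟨x, hx, ex⟩ := key p q r i0
  obtain ⟨y, hy, ey⟩ := key q r p (s1 _ _ _ i0)
  obtain ⟨u, hu, eu⟩ := key r p q (s1 _ _ _ (s1 _ _ _ i0))
  exact hS.n13 _ (mul_mem (mul_mem (mul_mem hx hy) hu) hu) (thirteen (H.cube (hI p hp)) (H.cube (hI q hq))
    (H.cube (hI r hr)) (H.ne (hI p hp)) (H.ne (hI q hq)) (H.ne (hI r hr)) (hcm p hp q hq) (hcm p hp r hr)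
    (hcm q hq r hr) i0.2.2.2 ex ey eu)

variable (O : Orb S Pt Q P)

include O

theorem case1 (hp : p ∈ P) (h1 : ∀ p ∈ P, ∀ a ∈ Lam Pt Q P p, ∀ b ∈ Lam Pt Q P p, b ∈ Q a) : False := by
  have hsub : ∀ p ∈ P, ∀ p' ∈ P, p' ∈ Q p → ∀ q ∈ Lam Pt Q P p, q ∈ Lam Pt Q P p' := fun p hp p' hp' h q hq =>
    ⟨hq.1, h1 p hp p' (H.mem_Lam O hp hp' h) q hq, hq.2.2⟩
  have a0 := O.pt p hp
  obtain ⟨w, hw, hn⟩ := O.far p hp
  obtain ⟨q, hq, h2⟩ := H.exists_Lam O hp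
  obtain ⟨z, hz, h3⟩ := H.Lam_meet O hp hw hn hq
  have hy := H.Lam_mul O hp hq h2 hz (mul_mem hq.2.1 ((H.es a0).le hz))
  have h4 : q * z ∉ zpowers p := fun e => h2 ((Subgroup.mul_mem_cancel_right _ hz).1 e)
  generalize q * z = y at h3 hy h4
  have hy' : y ∈ Lam Pt Q P w := ⟨hy.1, h3, hy.2.2⟩
  have h5 : y ∉ zpowers w := fun e => hn (mem_of_zp (H.cube (O.pt w hw)) e (H.ne hy.1) hy.2.1)
  refine sing H hS (I := {a | ∀ u ∈ P, a ∈ Lam Pt Q P u}) (p := y) (fun u hu => ⟨hy.1, ?_, hy.2.2⟩)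
    (fun a ha => (ha p hp).1) (fun a ha b hb => h1 p hp a (ha p hp) b (hb p hp)) fun s hs a ha u hu => ?_
  · by_contra h6
    obtain ⟨z1, hz1, b1⟩ := H.Lam_meet O hp hu (fun e => h6 (hsub p hp u hu e y hy).2.1) hy
    obtain ⟨z2, hz2, b2⟩ := H.Lam_meet O hw hu (fun e => h6 (hsub w hw u hu e y hy').2.1) hy'
    have c1 := H.Lam_mul O hp hy h4 hz1 b1
    have c2 := h1 u hu _ c1 _ (H.Lam_mul O hw hy' h5 hz2 b2)
    have c3 := h1 p hp _ (H.Lam_mul O hp hy h4 hz1 (mul_mem hy.2.1 ((H.es a0).le hz1))) y hy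
    have c4 := mem_of_zp (H.cube (O.pt w hw)) hz2 (fun e => h6 (by rwa [e, mul_one] at b2))
      (((Q _).mul_mem_cancel_left c3).1 c2)
    exact H.not_symm O hp hw hn (mem_of_zp (H.cube a0) hz1 (fun e => h6 (by rwa [e, mul_one] at b1))
      (((Q w).mul_mem_cancel_left h3).1 (H.symm c1.1 (O.pt w hw) c4)))
  · have h6 := O.inv s⁻¹ (inv_mem hs) u hu
    have h7 := H.Lam_conj O (O.pt _ h6) hs (ha _ h6)
    rwa [show s * (s⁻¹ * u * s⁻¹⁻¹) * s⁻¹ = u by group] at h7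

theorem case2 (hp : p ∈ P) (h2 : ∀ p ∈ P, ∃ q ∈ Lam Pt Q P p, ∃ q' ∈ Lam Pt Q P p, q' ∉ Q q) : False := by
  have a0 := O.pt p hp
  obtain ⟨w, hw, hn⟩ := O.far p hp
  have hcm : ∀ a ∈ Lam Pt Q P p ∪ P, ∀ b ∈ Lam Pt Q P p ∪ P, Commute a b := by
    rintro a (ha | ha) b (hb | hb)
    · exact H.Lam_comm O hp ha hb
    · exact ha.2.2 b hb
    · exact (hb.2.2 a ha).symm
    · exact O.comm a ha b hb
  have hs := hS.nrm (closure (Lam Pt Q P p ∪ P)) ((closure_le _).2 (by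
      rintro a (ha | ha)
      · exact H.Q_le a0 ha.2.1
      · exact H.Q_le (O.pt a ha) (H.self (O.pt a ha))))
    (fun e => H.ne a0 (mem_bot.1 (e ▸ subset_closure (Or.inr hp)))) (closure_pg hcm (by
      rintro a (ha | ha)
      · exact H.cube ha.1
      · exact H.cube (O.pt a ha))) fun s hs y hy => H.A_le O h2 (O.inv s hs p hp) hp (conj_closure (by
      rintro a (ha | ha)
      · exact subset_closure (Or.inl (H.Lam_conj O a0 hs ha))
      · exact subset_closure (Or.inr (O.inv s hs a ha))) hy)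
  have hle : T ⊓ centralizer {p} ⊓ centralizer {w} ≤ B := by
    refine (le_inf (inf_le_left.trans inf_le_left) (le_norm fun g hg y hy => ?_)).trans hs
    have key : ∀ x ∈ Q p, Commute x w → g * x * g⁻¹ ∈ closure (Lam Pt Q P p ∪ P) := fun x hx hc =>
      H.D_mem O h2 hp hw hn (H.norm a0 (mem_cen.1 hg.1.2) hx)
        (((mem_cen.1 hg.2).mul_left hc).mul_left (mem_cen.1 hg.2).inv_left)
    refine conj_closure ?_ hy
    rintro a (ha | ha)
    · exact key a ha.2.1 (ha.2.2 w hw)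
    · obtain ⟨v, hv, h3⟩ := H.near O h2 hp hw hn ha
      have h4 := key _ h3 ((O.comm a ha w hw).mul_left (H.comm_P O hw hv hw))
      rw [show g * (a * v) * g⁻¹ = g * a * g⁻¹ * (g * v * g⁻¹) by group,
        conj_of_comm (comm_zp (mem_cen.1 hg.2) hv)] at h4
      exact (Subgroup.mul_mem_cancel_right _ (zp_mem hw hv _)).1 h4
  exact (H.kind1 O h2 hp hw hn).2 (hS.solv hle
    (hle ⟨⟨H.Q_le a0 (H.self a0), mem_cen.2 (Commute.refl p)⟩, mem_cen.2 (O.comm p hp w hw)⟩)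
    (orderOf_eq_prime (H.cube a0) (H.ne a0)) fun c hc => mem_cen.1 hc.1.2)

omit O in
theorem geo_sm {z : G} (hz : Pt z) (hc : ∀ s ∈ S, Commute z (s * z * s⁻¹)) : False := by
  let P : Set G := {p | ∃ s ∈ S, s * z * s⁻¹ = p}
  have hP : z ∈ P := ⟨1, one_mem _, by group⟩
  have h1 : ∀ p ∈ P, Pt p := by
    rintro _ ⟨s, -, rfl⟩
    exact H.conj hz s
  have h2 : ∀ s ∈ S, ∀ p ∈ P, s * p * s⁻¹ ∈ P := by
    rintro s hs _ ⟨t, ht, rfl⟩
    exact ⟨s * t, mul_mem hs ht, by group⟩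
  have h3 : ∀ p ∈ P, ∀ w ∈ P, ∃ s ∈ S, s * p * s⁻¹ = w := by
    rintro _ ⟨s, hs, rfl⟩ _ ⟨t, ht, rfl⟩
    exact ⟨t * s⁻¹, mul_mem ht (inv_mem hs), by group⟩
  have h4 : ∀ s ∈ S, ∀ w ∈ P, ∃ u ∈ P, s * u * s⁻¹ = w := fun s hs w hw =>
    ⟨_, h2 s⁻¹ (inv_mem hs) w hw, by group⟩
  by_cases h5 : ∀ p ∈ P, ∃ w ∈ P, w ∉ Q p
  swap
  · push Not at h5
    obtain ⟨p, hp, h5⟩ := h5
    refine sing H hS hP h1 (fun a ha b hb => ?_) h2
    obtain ⟨s, hs, rfl⟩ := h3 p hp a ha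
    obtain ⟨u, hu, rfl⟩ := h4 s hs b hb
    exact H.Q_conj (h1 p hp) s u (h5 u hu)
  have O : Orb S Pt Q P := ⟨h1, by
    rintro _ ⟨s, hs, rfl⟩ _ ⟨t, ht, rfl⟩
    have h6 := Geo.conj_comm (hc _ (mul_mem (inv_mem hs) ht)) s
    rwa [show s * (s⁻¹ * t * z * (s⁻¹ * t)⁻¹) * s⁻¹ = t * z * t⁻¹ by group] at h6, h2, h3, h5⟩
  by_cases h6 : ∀ p ∈ P, ∃ q ∈ Geo.Lam Pt Q P p, ∃ q' ∈ Geo.Lam Pt Q P p, q' ∉ Q q
  · exact case2 H hS O hP h6
  · push Not at h6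
    obtain ⟨p, hp, h6⟩ := h6
    refine case1 H hS O hP fun u hu a ha b hb => ?_
    obtain ⟨s, hs, rfl⟩ := h3 u hu p hp
    have h7 := H.Lam_conj O (h1 u hu) hs ha
    have h8 := H.Q_conj h7.1 s⁻¹ _ (h6 _ h7 _ (H.Lam_conj O (h1 u hu) hs hb))
    rwa [show s⁻¹ * (s * a * s⁻¹) * s⁻¹⁻¹ = a by group, show s⁻¹ * (s * b * s⁻¹) * s⁻¹⁻¹ = b by group] at h8

end geo

section mi

variable {K : Type} [Group K] [Finite K] [IsSimpleGroup K] {A : Subgroup K} {Γ : Subgroup (MulAut K)}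

theorem inv_core (h : MI A Γ) (p : ℕ) : Inv Γ (Mon.core p A) :=
  have := Lib.Cores.pCore_characteristic (G := A) p
  mi_char h (pCore p A)

theorem cent_core_le (h : MI A Γ) {p : ℕ} (h0 : pCore p A ≠ ⊥) : centralizer (Mon.core p A : Set K) ≤ A :=
  (centralizer_le_normalizer _).trans (mi_norm h (inv_core h p)
    (fun e => h0 ((map_eq_bot_iff_of_injective _ A.subtype_injective).1 e))
    fun e => h.ne_top (top_le_iff.1 (e ▸ map_subtype_le _))).le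

/-- **characteristic three** -/
theorem cent_three (h : MI A Γ) (h3 : pCore 3 A ≠ ⊥) (h2 : pCore 2 A = ⊥)
    (n3 : ∀ a ∈ A, ∀ r : ℕ, r.Prime → 5 ≤ r → orderOf a ≠ 3 * r) {z : K} (hz : ∀ u ∈ Mon.core 3 A, z * u = u * z) :
    z ∈ Mon.core 3 A := by
  by_contra hz'
  obtain ⟨e, he, oe⟩ := exists_ord Nat.prime_three (Mon.core_pgroup (S := A) 3)
    fun e => h3 ((map_eq_bot_iff_of_injective _ A.subtype_injective).1 e)
  refine core_other (Or.inr ⟨rfl, rfl⟩) (cent_core_le h h3) (fun r hr hd => ?_) hz hz' (by rw [Mon.core, h2, Subgroup.map_bot])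
  rcases primes_cent (cent_core_le h h3) Nat.prime_three (map_subtype_le _ he) oe
    (fun c hc => (mem_centralizer_iff.1 hc e he).symm) hr hd with k | ⟨a, ha, k⟩
  · exact Or.inr k
  · exact (Mon.prime_cases hr).imp_right fun k' => k'.resolve_right fun k' => n3 a ha r hr k' k

open Cfsg.Spor (Fi24)

/-- **`Fi24'`, `O₃(A) ≠ 1 = O₂(A)`.** -/
theorem three_F24 (hK : Spor.IsoFi24' K) (h : MI A Γ) (h3 : pCore 3 A ≠ ⊥) (h2 : pCore 2 A = ⊥)
    (n3 : ∀ a ∈ A, ∀ r : ℕ, r.Prime → 5 ≤ r → orderOf a ≠ 3 * r) (n13 : ∀ a ∈ A, ¬ 13 ∣ orderOf a) : False := by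
  have := R08.FiTwentyFour.finite_Fi24
  obtain ⟨e⟩ := hK
  let ι : K →* Fi24 := (commutator Fi24).subtype.comp e.toMonoidHom
  have hι : Function.Injective ι := Subtype.val_injective.comp e.injective
  have hr : ∀ x ∈ commutator Fi24, ∃ k, ι k = x := fun x hx => ⟨e.symm ⟨x, hx⟩, congrArg Subtype.val (e.apply_symm_apply _)⟩
  let S : Subgroup Fi24 := Γ.comap ((MulAut.congr e).symm.toMonoidHom.comp MulAut.conjNormal)
  have hs : ∀ s ∈ S, ∃ σ ∈ Γ, ∀ k, ι (σ k) = s * ι k * s⁻¹ := fun s hs =>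
    ⟨_, hs, fun k => congrArg Subtype.val (e.apply_symm_apply _)⟩
  have hs' : ∀ σ ∈ Γ, ∃ s ∈ S, ∀ k, ι (σ k) = s * ι k * s⁻¹ := fun σ hσ => by
    obtain ⟨s, h1⟩ := KFacts.FiTF.exists_conj (MulAut.congr e σ)
    have h4 : MulAut.conjNormal s = MulAut.congr e σ := MulEquiv.ext fun t => Subtype.ext (h1 t).symm
    refine ⟨s, ?_, fun k => ?_⟩
    · show (MulAut.congr e).symm (MulAut.conjNormal s) ∈ Γ
      rwa [h4, MulEquiv.symm_apply_apply]
    · have h5 := h1 (e k)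
      simpa [ι] using h5
  obtain ⟨z, hz, hc⟩ := Asm.exists_pt ((Mon.core_pgroup (S := A) 3).map ι) fun k =>
    h3 ((map_eq_bot_iff_of_injective _ A.subtype_injective).1 ((map_eq_bot_iff_of_injective _ hι).1 k))
  obtain ⟨z, rfl⟩ := hr z (Asm.mem_of_cube R08.FiTwentyFour.index_commutator (Asm.cube hz))
  have hzA := cent_three h h3 h2 n3 (z := z) fun u hu => hι (by rw [map_mul, map_mul, hc _ ⟨u, hu, rfl⟩])
  refine geo_sm (Asm.geo boxLoc) (S := S) (B := A.map ι) ⟨fun Y h1 h4 h5 h6 g hg => ?_, ?_, ?_⟩ hz fun s h1 => ?_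
  · obtain ⟨g, rfl⟩ := hr g hg.1
    refine ⟨g, (mi_norm h (E := Y.comap ι) (fun σ hσ x hx => ?_) (fun k => h4 (eq_bot_iff.2 fun y hy => ?_))
      (ne_top_of_pgroup Nat.prime_three Nat.prime_two (by norm_num) ?_ (h5.comap_of_injective ι hι))).le
      (mem_normalizer_iff.2 fun y => ?_), rfl⟩
    · obtain ⟨s, k1, k2⟩ := hs' σ hσ
      rw [mem_comap, k2]
      exact h6 s k1 _ hx
    · obtain ⟨y, rfl⟩ := hr y (h1 hy)
      have h7 : y ∈ Y.comap ι := hy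
      rw [k, mem_bot] at h7
      rw [h7, map_one]
      exact one_mem _
    · rw [Nat.card_congr e.toEquiv]
      exact (S1698.result.2 : Nat.card (commutator Fi24) = _) ▸ by norm_num
    · have := mem_normalizer_iff.1 hg.2 (ι y)
      rwa [← map_inv, ← map_mul, ← map_mul] at this
  · rintro _ ⟨a, ha, rfl⟩
    rw [orderOf_injective ι hι]
    exact n3 a ha
  · rintro _ ⟨a, ha, rfl⟩
    rw [orderOf_injective ι hι]
    exact n13 a ha
  · obtain ⟨σ, k1, k2⟩ := hs s h1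
    exact hc _ ⟨σ z, inv_core h 3 σ k1 z hzA, k2 z⟩

end mi

end Cfsg.Agent.N2.Sp4
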