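import Cfsg.Agent.N2.Sp4.F3
import Cfsg.Agent.N2.Sp2.Mi
import Cfsg.Agent.N2.Sp.Eng
import Cfsg.Agent.S0664

/-!
# S3519, sporadic rows: tools for the `p`-local cases, `p` odd (helper15)
-/

set_option autoImplicit false
set_option linter.unusedSectionVars false

namespace Cfsg.Agent.N2.Sp4

open Subgroup Cfsg Cfsg.Agent.FP3 Cfsg.Agent.SB Cfsg.Agent.N2.Sp Cfsg.Agent.N2.Sp2
open Cfsg.Agent.TAB.Eng Cfsg.Agent.TAB.Use Cfsg.Agent.SB.SporL Cfsg.Agent.TH.Spor

section grp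

variable {G : Type*} [Group G] [Finite G]

theorem one_of_three {t : G} (h : ∀ g : G, g ^ 3 = 1 → Commute t g → g = 1) {u : G} (hu : Commute t u) (k : ℕ) :
    u ^ 3 ^ k = 1 → u = 1 := by
  induction k with
  | zero => simp
  | succ k ih => exact fun e => ih (h _ (by rw [← pow_mul, ← pow_succ, e]) (hu.pow_right _))

/-- an involution which commutes with no element of order three -/
theorem normal_of_inv (hc : centralizer (pCore 3 G : Set G) ≤ pCore 3 G) {t : G} (ht : t * t = 1)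
    (h : ∀ g : G, g ^ 3 = 1 → Commute t g → g = 1) (P : Sylow 3 G) : (P : Subgroup G).Normal := by
  have : Fact (Nat.Prime 3) := ⟨Nat.prime_three⟩
  have hN := Lib.Cores.pCore_normal (G := G) 3
  have hY := Lib.Cores.pCore_isPGroup (G := G) 3
  have hle : pCore 3 G ≤ P := hY.le_sylow_of_normal P
  have h1 : ∀ u ∈ (P : Subgroup G), Commute t u → u = 1 := fun u hu hc => by
    obtain ⟨k, hk⟩ := P.isPGroup' ⟨u, hu⟩
    exact one_of_three h hc k (congrArg Subtype.val hk)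
  have hi : t⁻¹ = t := inv_eq_of_mul_eq_one_right ht
  have h2 : ∀ y ∈ pCore 3 G, t * y * t⁻¹ = y⁻¹ := fun y hy =>
    congrArg Subtype.val (congrFun (MonoidHom.FixedPointFree.coe_eq_inv_of_involutive
      (φ := (MulAut.conjNormal t : MulAut (pCore 3 G)))
      (fun g hg => Subtype.ext (h1 g (hle g.2) (mul_inv_eq_iff_eq_mul.1 (congrArg Subtype.val hg))))
      fun g => Subtype.ext (by
        show t * (t * g * t⁻¹) * t⁻¹ = g
        rw [hi, ← mul_assoc, ← mul_assoc, ht, one_mul, mul_assoc, ht, mul_one])) ⟨y, hy⟩)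
  suffices h3 : (P : Subgroup G) ≤ pCore 3 G from le_antisymm h3 hle ▸ hN
  intro p hp
  have h3 : t⁻¹ * (p * t * p⁻¹) ∈ pCore 3 G := hc (mem_centralizer_iff.2 fun y hy => by
    have h4 := h2 _ (hN.conj_mem y hy p⁻¹)
    have h5 := h2 y hy
    calc y * (t⁻¹ * (p * t * p⁻¹)) = t⁻¹ * (t * y * t⁻¹) * (p * t * p⁻¹) := by group
      _ = t⁻¹ * (p * (p⁻¹ * y * p⁻¹⁻¹)⁻¹ * p⁻¹) * (p * t * p⁻¹) := by rw [h5]; group
      _ = _ := by rw [← h4]; group)
  obtain ⟨k, hk⟩ := hY ⟨_, h3⟩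
  obtain ⟨j, hj⟩ : Odd (3 ^ k) := Odd.pow (by decide)
  have h4 := pow_mem h3 (j + 1)
  have h5 : (t⁻¹ * (p * t * p⁻¹)) ^ (j + 1) * (t⁻¹ * (p * t * p⁻¹)) ^ (j + 1) = t⁻¹ * (p * t * p⁻¹) := by
    have h6 : (t⁻¹ * (p * t * p⁻¹)) ^ 3 ^ k = 1 := congrArg Subtype.val hk
    rw [← pow_add, show j + 1 + (j + 1) = 3 ^ k + 1 by omega, pow_succ, h6, one_mul]
  generalize (t⁻¹ * (p * t * p⁻¹)) ^ (j + 1) = u at h4 h5
  have h6 := h1 (u * p) (mul_mem (hle h4) hp) (by
    have h7 : u * (t * u) = t := by rw [mul_inv_eq_iff_eq_mul.1 (h2 u h4), mul_inv_cancel_left]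
    have h8 : p * t = t * (u * u) * p := by rw [h5]; group
    show t * (u * p) = u * p * t
    rw [mul_assoc u, h8]
    nth_rewrite 1 [← h7]
    simp only [mul_assoc])
  rw [eq_inv_of_mul_eq_one_right h6]
  exact inv_mem h4

theorem exists_four {a : G} (h : 4 ∣ orderOf a) : ∃ k, orderOf (a ^ k) = 4 :=
  ⟨_, orderOf_pow_orderOf_div (orderOf_pos a).ne' h⟩

theorem qd_four : ∃ m : qd 3, orderOf m = 4 := by
  let m : Matrix.SpecialLinearGroup (Fin 3) (ZMod 3) := ⟨!![0, -1, 0; 1, 0, 0; 0, 0, 1], by decide⟩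
  have h1 : orderOf m = 2 ^ (1 + 1) := orderOf_eq_prime_pow (by decide) (by decide)
  exact ⟨⟨m, subset_closure ⟨rfl, rfl, rfl⟩⟩, (orderOf_coe _).symm.trans h1⟩

/-- no section `Qd(3)` -/
theorem zj_normal (hc : centralizer (pCore 3 G : Set G) ≤ pCore 3 G) (n4 : ∀ a : G, orderOf a ≠ 4) (P : Sylow 3 G) :
    (centerThompsonAOf (P : Subgroup G)).Normal := by
  have : Fact (Nat.Prime 3) := ⟨Nat.prime_three⟩
  refine S0664.result (by decide) ?_ hc P
  rintro ⟨K, R, hR, ⟨e⟩⟩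
  obtain ⟨m, h1⟩ := qd_four
  obtain ⟨k, hk⟩ := QuotientGroup.mk'_surjective _ (e.symm m)
  have h2 := orderOf_map_dvd (QuotientGroup.mk' (R.subgroupOf K)) k
  rw [hk, MulEquiv.orderOf_eq, h1, ← orderOf_coe k] at h2
  obtain ⟨j, hj⟩ := exists_four h2
  exact n4 _ hj

/-- a central element of a Sylow subgroup -/
theorem exists_central {p F : ℕ} (hp : p.Prime) {Y : Subgroup G} (hY : IsPGroup p Y) (hF : p ^ (F + 1) ∣ Nat.card G) :
    ∃ z : G, orderOf z = p ∧ p ^ (F + 1) ∣ cn z ∧ ∀ y ∈ Y, z * y = y * z := by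
  have := Fact.mk hp
  obtain ⟨P, hP⟩ := hY.exists_le_sylow
  have h1 := P.pow_dvd_card_of_pow_dvd_card hF
  have : Nontrivial P := (P : Subgroup G).nontrivial_iff_ne_bot.2
    (P.ne_bot_of_dvd_card ((dvd_pow_self p F.succ_ne_zero).trans hF))
  have := P.isPGroup'.center_nontrivial
  obtain ⟨z, hz⟩ := exists_prime_orderOf_dvd_card' (G := center P) p
    ((P.isPGroup'.to_subgroup _).card_eq_or_dvd.resolve_left Finite.one_lt_card.ne')
  have h2 : ∀ y ∈ (P : Subgroup G), y * z = z * y := fun y hy => congrArg Subtype.val (mem_center_iff.1 z.2 ⟨y, hy⟩)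
  exact ⟨z, by rw [orderOf_coe, orderOf_coe, hz], h1.trans (card_dvd_of_le fun y hy =>
    mem_centralizer_singleton_iff.2 (h2 y hy)), fun y hy => (h2 y (hP hy)).symm⟩

/-- groups with two primes -/
theorem card_le_two {H : Subgroup G} {p q a b : ℕ} (hp : p.Prime) (hq : q.Prime)
    (h : ∀ x ∈ H, (orderOf x).Prime → orderOf x = p ∨ orderOf x = q)
    (ha : ∀ E ≤ H, IsPGroup p E → Nat.card E ≤ a) (hb : ∀ E ≤ H, IsPGroup q E → Nat.card E ≤ b) :
    Nat.card H ≤ a * b := by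
  have := Fact.mk hp
  have := Fact.mk hq
  obtain ⟨P⟩ : Nonempty (Sylow p H) := inferInstance
  have h1 := Nat.eq_prime_pow_of_unique_prime_dvd (n := (P : Subgroup H).index) (p := q) index_ne_zero_of_finite
    fun {r} hr hd => by
      have := Fact.mk hr
      obtain ⟨x, hx⟩ := exists_prime_orderOf_dvd_card' r (hd.trans (P : Subgroup H).index_dvd_card)
      rw [← orderOf_coe] at hx
      exact hx ▸ (h x x.2 (hx ▸ hr)).resolve_left fun e => P.not_dvd_index (e ▸ hx ▸ hd)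
  obtain ⟨Q, hQ⟩ := Sylow.exists_subgroup_card_pow_prime q (h1 ▸ (P : Subgroup H).index_dvd_card :)
  rw [← (P : Subgroup H).card_mul_index, h1, ← hQ, ← card_map_of_injective H.subtype_injective,
    ← card_map_of_injective (K := Q) H.subtype_injective]
  exact Nat.mul_le_mul (ha _ (map_subtype_le _) (P.isPGroup'.map _))
    (hb _ (map_subtype_le _) ((IsPGroup.of_card hQ).map _))

/-- an involution on an abelian group -/
theorem exists_inv {V : Subgroup G} (hc : ∀ a ∈ V, ∀ b ∈ V, a * b = b * a) {t : G} (ht : t * t = 1)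
    (hn : ∀ v ∈ V, t * v * t⁻¹ ∈ V) : ∃ W : Subgroup G, (∀ w, w ∈ W ↔ w ∈ V ∧ t * w * t⁻¹ = w⁻¹) ∧
      Nat.card V ≤ Nat.card ↥(V ⊓ centralizer {t}) * Nat.card W := by
  let W : Subgroup G :=
    { carrier := {w | w ∈ V ∧ t * w * t⁻¹ = w⁻¹}
      one_mem' := ⟨one_mem _, by simp⟩
      mul_mem' := fun {a b} ha hb => ⟨mul_mem ha.1 hb.1, by
        rw [← conj_mul, ha.2, hb.2, hc a ha.1 b hb.1, mul_inv_rev]⟩
      inv_mem' := fun {a} ha => ⟨inv_mem ha.1, by rw [← conj_inv, ha.2]⟩ }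
  have hi : t⁻¹ = t := inv_eq_of_mul_eq_one_right ht
  let f : V →* W := MonoidHom.mk' (fun v => ⟨(v : G)⁻¹ * (t * v * t⁻¹), mul_mem (inv_mem v.2) (hn _ v.2), by
    have e : t * (t * v * t⁻¹) * t⁻¹ = v := by
      rw [hi, ← mul_assoc t, ← mul_assoc t, ht, one_mul, mul_assoc (v : G), ht, mul_one]
    rw [← conj_mul, e]
    group⟩) fun a b => Subtype.ext (by
    show ((a : G) * b)⁻¹ * (t * (a * b) * t⁻¹) = (a : G)⁻¹ * (t * a * t⁻¹) * ((b : G)⁻¹ * (t * b * t⁻¹))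
    have e := hc _ (inv_mem b.2) _ (hn _ a.2)
    rw [← conj_mul, mul_inv_rev, hc _ (inv_mem b.2) _ (inv_mem a.2)]
    generalize t * a * t⁻¹ = c at e
    rw [mul_assoc, ← mul_assoc (b : G)⁻¹, e]
    simp only [mul_assoc])
  refine ⟨W, fun _ => Iff.rfl, ?_⟩
  rw [← f.ker.card_mul_index, index_ker]
  refine Nat.mul_le_mul (Nat.card_le_card_of_injective (fun v => ⟨v.1, v.1.2, mem_centralizer_singleton_iff.2 ?_⟩)
    fun a b e => Subtype.ext (Subtype.ext (congrArg (fun z => z.1) e))) (card_le_card_group _)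
  have h1 : (v.1 : G)⁻¹ * (t * v.1 * t⁻¹) = 1 := congrArg Subtype.val (MonoidHom.mem_ker.1 v.2)
  exact (mul_inv_eq_iff_eq_mul.1 (inv_mul_eq_one.1 h1).symm).symm

/-- the extension by an involution -/
def ext2 (W : Subgroup G) (t : G) (ht : t * t = 1) (hn : ∀ w ∈ W, t * w * t⁻¹ ∈ W) : Subgroup G where
  carrier := {x | x ∈ W ∨ t * x ∈ W}
  one_mem' := Or.inl (one_mem _)
  mul_mem' := fun {a b} ha hb => by
    have hi : t⁻¹ = t := inv_eq_of_mul_eq_one_right ht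
    rcases ha with ha | ha <;> rcases hb with hb | hb
    · exact Or.inl (mul_mem ha hb)
    · exact Or.inr (by simpa [mul_assoc] using mul_mem (hn a ha) hb)
    · exact Or.inr (mul_assoc t a b ▸ mul_mem ha hb)
    · have h1 := mul_mem (hn _ ha) hb
      rw [← mul_assoc t, ht, one_mul, mul_assoc, inv_mul_cancel_left] at h1
      exact Or.inl h1
  inv_mem' := fun {a} ha => ha.imp inv_mem fun ha => by
    have h1 := hn _ (inv_mem ha)
    rwa [mul_inv_rev, mul_assoc, mul_assoc, ← mul_inv_rev, ht, inv_one, mul_one] at h1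

end grp

section mi

variable {K : Type} [Group K] [Finite K] [IsSimpleGroup K] {A : Subgroup K} {Γ : Subgroup (MulAut K)}

theorem hc_of {p : ℕ} (h : ∀ z : K, (∀ u ∈ Mon.core p A, z * u = u * z) → z ∈ Mon.core p A) :
    centralizer (pCore p A : Set A) ≤ pCore p A := fun a ha => by
  obtain ⟨b, hb, e⟩ := h a (by
    rintro _ ⟨u, hu, rfl⟩
    exact congrArg Subtype.val (mem_centralizer_iff.1 ha u hu).symm)
  exact (Subtype.ext e : b = a) ▸ hb

/-- **involutions which commute with no element of order three** -/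
theorem dead_inv (h : MI A Γ) (h3 : 3 ∣ Nat.card A) (hc : centralizer (pCore 3 A : Set A) ≤ pCore 3 A) {t : K}
    (ht : t ∈ A) (h2 : t * t = 1) (hf : ∀ g ∈ A, orderOf g = 3 → ¬ Commute t g) : ¬ 3 ∣ A.index := by
  have : Fact (Nat.Prime 3) := ⟨Nat.prime_three⟩
  obtain ⟨P⟩ : Nonempty (Sylow 3 A) := inferInstance
  have := normal_of_inv hc (t := ⟨t, ht⟩) (Subtype.ext h2) (fun g h4 h5 => by_contra fun h6 =>
    hf g g.2 (by rw [orderOf_coe, orderOf_eq_prime h4 h6]) (congrArg Subtype.val h5.eq)) P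
  exact not_dvd_of_norm P (norm_of_normal h P h3)

/-- **no elements of order four** -/
theorem zj (h : MI A Γ) (h3 : 3 ∣ Nat.card A) (hc : centralizer (pCore 3 A : Set A) ≤ pCore 3 A)
    (n4 : ∀ a ∈ A, orderOf a ≠ 4) : ¬ 3 ∣ A.index := by
  have : Fact (Nat.Prime 3) := ⟨Nat.prime_three⟩
  obtain ⟨P⟩ : Nonempty (Sylow 3 A) := inferInstance
  have : Nontrivial P := (P : Subgroup A).nontrivial_iff_ne_bot.2 (P.ne_bot_of_dvd_card h3)
  have : (centerThompsonAOf (⊤ : Subgroup P)).Characteristic := characteristic_iff_map_eq.2 fun φ => by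
    rw [PLocal.ThompsonJA.map_centerThompsonAOf _ φ.injective, map_top_of_surjective _ φ.surjective]
  refine not_dvd_of_norm P (norm_char h P (centerThompsonAOf ⊤)
    (PLocal.ThompsonJA.centerThompsonAOf_ne_bot _ (P.isPGroup'.to_subgroup _) top_ne_bot) ?_)
  rw [PLocal.ThompsonJA.map_centerThompsonAOf _ (subtype_injective _), ← MonoidHom.range_eq_map, range_subtype]
  exact zj_normal hc (fun a e => n4 a a.2 (by rw [orderOf_coe, e])) P

end mi

section tab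

variable {K : Type} [Group K] [Finite K] {D : Dat} {T : TD K D} {R : Rows} {ν : List ℕ} {A : Subgroup K}

theorem vf_sum (Y : Subgroup K) [Fintype K] [DecidablePred (· ∈ Y)] (ψ : ℕ → ℤ) :
    vf T Y ψ = ∑ y ∈ Finset.univ.filter (· ∈ Y), ψ (T.ty y) := by
  rw [Finset.sum_subtype (p := (· ∈ Y)) _ (by simp), sum_num Y ψ, vf]
  exact Finset.sum_congr rfl fun t _ => (nsmul_eq_mul _ _).symm

theorem vf_le {Z Y : Subgroup K} (h : Z ≤ Y) {ψ : ℕ → ℤ} {a : ℤ} (ha : ∀ y ∈ Y, y ∉ Z → ψ (T.ty y) ≤ a) :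
    vf T Y ψ ≤ vf T Z ψ + (Nat.card Y - Nat.card Z) * a := by
  classical
  have := Fintype.ofFinite K
  have h1 : Finset.univ.filter (· ∈ Z) ⊆ Finset.univ.filter (· ∈ Y) := fun x hx => by
    simpa using h (by simpa using hx)
  have h2 : ∀ U : Subgroup K, Nat.card U = (Finset.univ.filter (· ∈ U)).card := fun U => by
    rw [Nat.card_eq_fintype_card, Fintype.card_subtype]
  rw [vf_sum, vf_sum, ← Finset.sum_sdiff h1, add_comm, h2, h2, ← Nat.cast_sub (Finset.card_le_card h1),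
    ← Finset.card_sdiff_of_subset h1, ← nsmul_eq_mul]
  refine add_le_add_right (Finset.sum_le_card_nsmul _ _ _ fun y hy => ?_) _
  simp only [Finset.mem_sdiff, Finset.mem_filter, Finset.mem_univ, true_and] at hy
  exact ha y hy.1 hy.2

theorem vf_eq {Z Y : Subgroup K} (h : Z ≤ Y) {ψ : ℕ → ℤ} {a : ℤ} (ha : ∀ y ∈ Y, y ∉ Z → ψ (T.ty y) = a) :
    vf T Y ψ = vf T Z ψ + (Nat.card Y - Nat.card Z) * a := by
  have h1 := vf_le h fun y h1 h2 => (ha y h1 h2).le
  have h2 := vf_le (T := T) h (ψ := fun t => -ψ t) (a := -a) fun y h1 h2 => (congrArg _ (ha y h1 h2)).le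
  simp only [vf, mul_neg, Finset.sum_neg_distrib] at h1 h2 ⊢
  linarith

theorem vf_bot (H : Hy T R ν) (ψ : ℕ → ℤ) : vf T ⊥ ψ = ψ 0 := by
  classical
  have := Fintype.ofFinite K
  rw [vf_sum, Finset.sum_eq_single 1 (fun y hy h => absurd (by simpa using hy) h) (by simp), (H.zero 1).2 rfl]

/-- a row -/
noncomputable def rw (R : Rows) (i : ℕ) : ℕ → ℤ := nth (ntd R.rel ([], []) i).2

/-- a combination of rows -/
noncomputable def cv (R : Rows) (c₀ : ℤ) (c : List (ℤ × ℕ)) (t : ℕ) : ℤ :=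
  List.rec c₀ (fun p _ ih => Int.add (Int.mul p.1 (rw R p.2 t)) ih) c

theorem dvd_cv (H : Hy T R ν) (hi : okIdx R = true) (c₀ : ℤ) (c : List (ℤ × ℕ)) (Y : Subgroup K) :
    (Nat.card Y : ℤ) ∣ vf T Y (cv R c₀ c) := by
  have := Fintype.ofFinite Y
  obtain ⟨χ, hE, hR⟩ := H.tab
  obtain ⟨m, hm, -⟩ := SM.Sp.exists_mults hE Y
  induction c with
  | nil => exact ⟨c₀, vf_const c₀⟩
  | cons p c ih =>
    have h1 : vf T Y (cv R c₀ (p :: c)) = p.1 * SM.Sp.val T Y (ntd R.rel ([], []) p.2).2 + vf T Y (cv R c₀ c) := by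
      rw [SM.Sp.val, Finset.mul_sum, vf, vf, ← Finset.sum_add_distrib]
      exact Finset.sum_congr rfl fun t _ => by
        show _ * (p.1 * nth _ t + cv R c₀ c t) = _
        ring
    rw [h1, (SM.Sp.val_mult hR hi hm p.2).2]
    exact dvd_add (Dvd.dvd.mul_left (dvd_mul_right _ _) _) ih

/-- **a bound for the order from the types** -/
theorem card_dvd (H : Hy T R ν) (hi : okIdx R = true) (c₀ : ℤ) (c : List (ℤ × ℕ)) {Y : Subgroup K} {z : K} (hz : z ∈ Y)
    {d : ℕ} {a : ℤ} (h1 : ∀ y ∈ zpowers z, y ≠ 1 → cv R c₀ c (T.ty y) = a)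
    (h2 : ∀ y ∈ Y, y ∉ zpowers z → cv R c₀ c (T.ty y) = 0) (hd : cv R c₀ c 0 + (orderOf z - 1) * a = d) :
    Nat.card Y ∣ d := by
  have h3 := dvd_cv H hi c₀ c Y
  rw [vf_eq (zpowers_le.2 hz) h2, vf_eq bot_le h1, vf_bot H, mul_zero, add_zero, card_bot, Nat.card_zpowers, Nat.cast_one,
    hd] at h3
  exact Int.natCast_dvd_natCast.1 h3

theorem mult_mono {χ : K → ℂ} (h : IsIrrCharacter K χ) {W Y : Subgroup K} [Fintype W] [Fintype Y] (hW : W ≤ Y)
    {m m' : ℕ} (h1 : ∑ s : W, χ s = (Nat.card W * m : ℕ)) (h2 : ∑ s : Y, χ s = (Nat.card Y * m' : ℕ)) : m' ≤ m := by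
  obtain ⟨n, ρ, rfl⟩ := Characters.Core.isIrr_isCharacter h
  have key : ∀ (U : Subgroup K) [Fintype U] (k : ℕ), ∑ s : U, ρ.character s = (Nat.card U * k : ℕ) →
      k = Module.finrank ℂ (Representation.invariants (ρ.comp U.subtype)) := fun U _ k hk => by
    have h0 : (Nat.card U : ℂ) ≠ 0 := Nat.cast_ne_zero.2 Nat.card_pos.ne'
    have := invertibleOfNonzero h0
    have h3 := Representation.card_inv_mul_sum_char_eq_finrank (ρ.comp U.subtype)
    rw [inv_mul_eq_iff_eq_mul₀ h0] at h3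
    have h4 : ((Nat.card U * k : ℕ) : ℂ) = _ := hk.symm.trans h3
    rw [Nat.cast_mul] at h4
    exact_mod_cast mul_left_cancel₀ h0 h4
  rw [key W m h1, key Y m' h2]
  exact Submodule.finrank_mono fun v hv w => hv ⟨w, hW w.2⟩

theorem row_mono (H : Hy T R ν) (hi : okIdx R = true) {W Y : Subgroup K} (hW : W ≤ Y) {i : ℕ}
    (hp : allL (fun p => decide (0 ≤ p.2)) (ntd R.rel ([], []) i).1 = true) :
    Nat.card W * vf T Y (rw R i) ≤ Nat.card Y * vf T W (rw R i) := by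
  have := Fintype.ofFinite W
  have := Fintype.ofFinite Y
  obtain ⟨χ, hE, hR⟩ := H.tab
  obtain ⟨m, hm, -⟩ := SM.Sp.exists_mults hE W
  obtain ⟨m', hm', -⟩ := SM.Sp.exists_mults hE Y
  obtain ⟨h1, h2⟩ := SM.Sp.val_mult hR hi hm i
  have h3 := (SM.Sp.val_mult hR hi hm' i).2
  show _ * SM.Sp.val T Y _ ≤ _ * SM.Sp.val T W _
  rw [h2, h3, mul_left_comm]
  refine mul_le_mul_of_nonneg_left (mul_le_mul_of_nonneg_left (List.sum_le_sum fun p h4 => ?_) (Int.natCast_nonneg _))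
    (Int.natCast_nonneg _)
  exact mul_le_mul_of_nonneg_left (Int.ofNat_le.2 (mult_mono (hE.irr _ (h1 p h4)) hW (hm _ (h1 p h4)) (hm' _ (h1 p h4))))
    (of_decide_eq_true (allL_spec hp p h4))

/-- **subgroups which are inverted by an involution** -/
theorem inv_le (H : Hy T R ν) (hi : okIdx R = true) {W : Subgroup K} {t : K} (ht : orderOf t = 2)
    (hW : ∀ w ∈ W, w ^ 3 = 1 ∧ t * w * t⁻¹ = w⁻¹) {i : ℕ}
    (hp : allL (fun p => decide (0 ≤ p.2)) (ntd R.rel ([], []) i).1 = true) {b : ℤ}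
    (hb : ∀ w ∈ W, w ≠ 1 → rw R i (T.ty w) ≤ b) : Nat.card W * rw R i (T.ty t) ≤ rw R i 0 + (Nat.card W - 1) * b := by
  have h2 : t * t = 1 := by rw [← pow_two, ← ht, pow_orderOf_eq_one]
  have hn : ∀ w ∈ W, t * w * t⁻¹ ∈ W := fun w hw => (hW w hw).2 ▸ inv_mem hw
  have hle : W ≤ ext2 W t h2 hn := fun w hw => Or.inl hw
  have h3 : Nat.card W < Nat.card (ext2 W t h2 hn) := by
    refine lt_of_le_of_ne (card_le_of_le hle) fun e => ?_
    have h4 : t ∈ W := (eq_of_le_of_card_ge hle e.ge).ge (Or.inr (h2 ▸ one_mem _))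
    exact absurd (ht ▸ orderOf_dvd_of_pow_eq_one (hW t h4).1) (by decide)
  have h4 := row_mono H hi hle hp
  rw [vf_eq hle (a := rw R i (T.ty t)) fun y hy h5 => ?_] at h4
  · have h5 := vf_le (T := T) bot_le hb
    rw [vf_bot H, card_bot, Nat.cast_one] at h5
    refine le_trans (le_of_mul_le_mul_left ?_ (sub_pos.2 (Int.ofNat_lt.2 h3))) h5
    linarith
  · obtain ⟨h6, h7⟩ := hW _ (hy.resolve_left h5)
    obtain ⟨w, rfl⟩ : ∃ w, y = t * w := ⟨t * y, by rw [← mul_assoc, h2, one_mul]⟩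
    rw [show t * (t * w) = w by rw [← mul_assoc, h2, one_mul]] at h6 h7
    have h8 : t * w = w * t * w⁻¹ := by
      calc t * w = w ^ 3 * w⁻¹ * t := by rw [mul_inv_eq_iff_eq_mul.1 h7, h6, one_mul]
        _ = w * (t * w * t⁻¹)⁻¹ * t := by rw [h7, inv_inv, pow_succ, mul_inv_cancel_right, pow_two]
        _ = _ := by group
    rw [h8, T.conj]

theorem not_dvd_cnt (hm : T.Mass) (hu : Unif T) {p F : ℕ} (hp : p.Prime) {x : K} (hx : orderOf x = p) (hF : p ^ F ∣ cn x)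
    (hN : ¬ p ^ (F + 1) ∣ D.N) : ¬ p ∣ D.cnt (T.ty x) := fun h => by
  have := Fintype.ofFinite {h : K // T.ty h = T.ty x}
  have h1 := sum_fx (T := T) (zpowers x) (T.ty x)
  have h2 : ∀ y z : K, (orderOf y).Prime → T.ty y = T.ty z → fx (zpowers x) y ≤ fx (zpowers x) z := fun y z h3 h4 => by
    obtain ⟨k, hk⟩ := hu y z h3 h4
    exact fx_conj _ hk ▸ fx_le_pow _ y k
  rw [Finset.sum_congr rfl (g := fun _ => cn x * cc (zpowers x) x) fun y _ => by
    rw [← fx_mul, le_antisymm (h2 y x (by rwa [T.ord, y.2, ← T.ord, hx]) y.2) (h2 x y (hx ▸ hp) y.2.symm)],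
    Finset.sum_const, Finset.card_univ, ← Nat.card_eq_fintype_card, hm.2 _ (T.lt x), smul_eq_mul, hm.1] at h1
  have h3 : p ^ (F + 1) ∣ D.N * num T (zpowers x) (T.ty x) := by
    rw [← h1, pow_succ']
    exact Nat.mul_dvd_mul h (hF.mul_right _)
  refine hN ((Nat.Coprime.pow_left _ (hp.coprime_iff_not_dvd.2 (Nat.not_dvd_of_pos_of_lt (num_pos (mem_zpowers x))
    ?_))).dvd_of_dvd_mul_right h3)
  rw [← hx, ← Nat.card_zpowers]
  refine Finite.card_subtype_lt (x := 1) fun e => hp.one_lt.ne' ?_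
  rw [← hx, T.ord, ← e, ← T.ord, orderOf_coe, orderOf_one]

theorem le_cn (hm : T.Mass) (x : K) : D.N ≤ D.cnt (T.ty x) * cn x := by
  rw [← hm.1, ← card_class x, ← hm.2 _ (T.lt x)]
  exact Nat.mul_le_mul_right _ (Nat.card_le_card_of_injective (fun y => ⟨y.1, TD.ty_isConj y.2⟩)
    fun _ _ e => Subtype.ext (congrArg Subtype.val e :))

/-- the types which are allowed up to the order `n` -/
def al (O : Sp.Out) (n : ℕ) : List ℕ := (O.filter fun e => e.2.1 ≤ n).map Prod.fst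

theorem sup_al {O : Sp.Out} {U n : ℕ} (h : Res T A O U) (hn : Nat.card A ≤ n) : Sup T A (al O n) := fun a ha =>
  (h.2 a ha).imp id fun ⟨e, h1, h2, h3, _⟩ => List.mem_map.2 ⟨e, List.mem_filter.2 ⟨h1, decide_eq_true (h3.trans hn)⟩, h2.symm⟩

end tab

end Cfsg.Agent.N2.Sp4
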