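import Cfsg.Agent.N2.Sp4.Odd
import Cfsg.Agent.N2.Sp4T.Two
import Cfsg.Agent.N2.Sp.GB

/-!
# S3519: the local subgroups of the Baby Monster (helper15)
-/

set_option autoImplicit false
set_option maxRecDepth 100000

namespace Cfsg.Agent.N2.Sp4

open Subgroup Cfsg Cfsg.Agent.FP3 Cfsg.Agent.N2.Sp Cfsg.Agent.N2.Sp4T
open Cfsg.Agent.TAB.Eng Cfsg.Agent.TAB.Use Cfsg.Agent.SB.SporL Cfsg.Agent.TH.Spor

namespace B

open Cfsg.Agent.N2.Sp.B

variable {K : Type} [Group K] [Finite K] [IsSimpleGroup K] {T : TD K D} {A : Subgroup K} {Γ : Subgroup (MulAut K)} {U : ℕ}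

theorem idx : okIdx R = true := by decide +kernel

theorem three (H : Hy T R nu) (hu : Unif T) (h : MI A Γ) (hr : Res T A O U) (hS : Sup T A S)
    (ho : ∀ a ∈ A, orderOf a ≤ 8) (h3 : pCore 3 A ≠ ⊥) (h2 : pCore 2 A = ⊥) : False := by
  obtain ⟨z, V, L⟩ := exists_L3 H.mass hu h h3 h2 ho (F := 12) (by decide +kernel) (by decide +kernel)
  have c3 : ∀ Y ≤ A, IsPGroup 3 Y → Nat.card Y ≤ 3 ^ 9 := fun Y h4 h5 => Nat.le_of_dvd (by norm_num)
    (card_dvd' H idx (-560) [(-43, 1), (14, 2), (-1, 3)] (fun y hy h6 => by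
      obtain ⟨h7, h8⟩ := mem_of' H hS (h4 hy) (ord_three ho h4 h5 hy h6) (by decide)
      exact (by decide +kernel : ∀ s ∈ S, D.ord s = 3 → cv R (-560) [(-43, 1), (14, 2), (-1, 3)] s = 0) _ h7 h8)
      (by decide +kernel))
  have hd := dvd_index H.mass (by decide +kernel) c3
  have tz : T.ty z = 6 := by
    obtain ⟨h4, h5⟩ := mem_of' H hS L.zA L.oz (by decide)
    exact (by decide +kernel : ∀ s ∈ S, D.ord s = 3 → ¬ 3 ∣ D.cnt s → s = 6) _ h4 h5 L.cz
  have S1 := sup_al hr (L.bound ho (a := 2 ^ 7) (fun E h4 h5 => Nat.le_of_dvd (by norm_num)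
    (pg_le (m := 3) Nat.prime_two h5 (card_two H idx hS ho L.zA L.oz 281064019 [(-14929749, 1), (-10962624, 2),
      (-21574833, 3), (-2520423, 4), (-3, 5), (14519871, 6), (-352602, 7), (-4930448, 8), (714319, 9)] tz
      (by decide +kernel) (by decide +kernel) (by decide +kernel) h4 h5) (by decide))) c3)
  have b2 := L.bound' H S1 ho (by rw [tz]; decide +kernel) c3
  have h4 : ∀ t ∈ A, orderOf t = 2 → T.ty t = 1 := fun t ht ot => by
    obtain ⟨s, h4, h5, h6⟩ := L.six H S1 h hd ht ot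
    refine (h6 ▸ (by decide +kernel : ∀ s ∈ al O (3 ^ 9 * (2 ^ 7 * 3 ^ 9)), D.ord s = 6 →
      D.pwf s 3 = 1 ∨ D.pwf s 3 = 2) s h4 h5).resolve_right fun h7 => ?_
    obtain ⟨W, -, k1, k2, k3⟩ := L.inv H idx S1 ho ht ot (i := 1) (by decide +kernel) (b := 78) (by decide +kernel)
    have k4 := Nat.le_of_dvd (by norm_num) (card_dvd' H idx 4173 [(-67, 1), (3, 2)] (d := 81) (fun c hc k4 => by
      obtain ⟨-, s, k5, k6, k7, k8⟩ := k3 c hc k4
      exact k8 ▸ (by decide +kernel : ∀ s ∈ al O (3 ^ 9 * (2 ^ 7 * 3 ^ 9)), D.ord s = 6 → D.pwf s 3 = 2 →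
        cv R 4173 [(-67, 1), (3, 2)] (D.pwf s 4) = 0) s k5 k6 (k7.trans h7)) (by decide +kernel))
    rw [h7, show rw R 1 2 = 275 by decide +kernel, show rw R 1 0 = 4371 by decide +kernel] at k2
    obtain ⟨s, k5, k6, k7⟩ := L.six H (sup_al hr (b2.trans (Nat.mul_le_mul_right _ (k1.trans
      (Nat.mul_le_mul k4 (by omega : Nat.card W ≤ 21)))))) h hd ht ot
    exact (by decide +kernel : ∀ s ∈ al O (81 * 21 * 3 ^ 9), D.ord s = 6 → D.pwf s 3 ≠ 2) s k5 k6 (k7.trans h7)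
  refine zj h L.h3 L.hc (fun a ha oa => ?_) hd
  obtain ⟨h5, h6⟩ := mem_of' H hS ha oa (by decide)
  refine (by decide +kernel : ∀ s ∈ S, D.ord s = 4 → D.pwf s 2 ≠ 1) _ h5 h6 ?_
  rw [← T.pow]
  exact h4 _ (pow_mem ha 2) (by rw [orderOf_pow, oa]; rfl)

end B

open Cfsg.Agent.N2.Sp.B in
/-- **the Baby Monster: a bad subgroup is not local** -/
theorem loc_B {K : Type} [Group K] [Finite K] [IsSimpleGroup K] (hK : Spor.IsoB K) {T : TD K D} (H : Hy T R nu)
    (hu : Unif T) {A : Subgroup K} {Γ : Subgroup (MulAut K)} (h : MI A Γ) (hb : ¬ Good A) {p : ℕ} (hp : p.Prime) :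
    pCore p A = ⊥ := by
  have hr := res H hb h.ne_top
  have hS := (sup H hb h.ne_top).2
  have ho : ∀ a ∈ A, orderOf a ≤ 8 ∧ orderOf a ≠ 7 := fun a ha =>
    ord_of H hS (P := fun n => n ≤ 8 ∧ n ≠ 7) (by decide) (by decide +kernel) ha
  have h2 : pCore 2 A = ⊥ := by
    by_contra h2
    rcases two_B hK h h2 with h3 | ⟨a, ha, r, -, h3, h4⟩ | ⟨a, ha, h3, h4, h5⟩
    · obtain ⟨a, ha, h4⟩ := exists_of_dvd (by norm_num) h3
      exact (ho a ha).2 h4
    · have := (ho a ha).1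
      omega
    · obtain ⟨e, h6, h7, h8, -⟩ := (hr.2 a ha).resolve_left fun e => by
        rw [(H.zero a).1 e, orderOf_one] at h3
        omega
      have h9 := (le_cn H.mass (a ^ 3)).trans (Nat.mul_le_mul_left _ h4)
      have h10 := cn_le H a
      rw [T.pow, h7] at h9
      rw [h7, h3] at h10
      have h11 := (by decide +kernel : ∀ e ∈ O, D.ord e.1 = 6 → D.N ≤ D.cnt (D.pwf e.1 3) * 26489012826931200 →
        2916 * (D.N * 6) < e.2.1 * ntd nu 0 e.1) e h6 (by rw [← h7, ← T.ord, h3]) h9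
      exact absurd ((Nat.mul_le_mul_right _ (h8.trans h5)).trans (by rw [mul_assoc]; exact Nat.mul_le_mul_left _ h10))
        (not_le.2 h11)
  by_contra h0
  obtain ⟨a, ha, oa⟩ := exists_of_core hp h0
  have h3 := ho a ha
  rw [oa] at h3
  obtain rfl | rfl | rfl : p = 2 ∨ p = 3 ∨ p = 5 := by
    obtain ⟨h3, h4⟩ := h3
    revert hp h4
    clear * - h3
    interval_cases p <;> decide
  · exact h0 h2
  · exact B.three H hu h hr hS (fun a ha => (ho a ha).1) h0 h2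
  · obtain ⟨e, h4, h5, h6, h7⟩ := five H.mass hu h (F := 5) (m := D.N / 5 ^ 6) hp h0 (fun a ha r hr e => by
      have := (ho a ha).1
      have := hr.two_le
      omega) (by decide +kernel) (by decide +kernel)
    obtain ⟨h8, h9⟩ := mem_of' H (sup_al hr h7) h4 h5 (by decide)
    exact h6 ((by decide +kernel : ∀ s ∈ al O (5 ^ (5 + 1) * 5 ^ (5 + 1)), D.ord s = 5 → 5 ∣ D.cnt s) _ h8 h9)

end Cfsg.Agent.N2.Sp4
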