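import Mathlib.GroupTheory.PGroup
import Mathlib.Tactic.Group

/-!
# S3519, `Co1`, `p = 3`: quadratic action (helper15)
-/

set_option autoImplicit false

namespace Cfsg.Agent.N2.Sp4.CoT

open Subgroup

variable {G : Type*} [Group G] {A Y W : Subgroup G} {x x' y z : G}

/-- the commutator -/
def cm (x y : G) : G := x * y * x⁻¹ * y⁻¹

theorem cm_mul (x y : G) : cm x y * y = x * y * x⁻¹ := inv_mul_cancel_right _ _

theorem cm_eq_one : cm x y = 1 ↔ Commute x y := mul_inv_eq_one.trans mul_inv_eq_iff_eq_mul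

theorem cm_left (x x' y : G) : cm (x * x') y = x * cm x' y * x⁻¹ * cm x y := by simp only [cm]; group

theorem cm_right (x y y' : G) : cm x (y * y') = cm x y * (y * cm x y' * y⁻¹) := by simp only [cm]; group

theorem cm_inv (x y : G) : cm x⁻¹ y = x⁻¹ * (cm x y)⁻¹ * x⁻¹⁻¹ := by simp only [cm]; group

theorem cm_conj (g x y : G) : cm (g * x * g⁻¹) (g * y * g⁻¹) = g * cm x y * g⁻¹ := by simp only [cm]; group

theorem cj_mul (s a b : G) : s * (a * b) * s⁻¹ = s * a * s⁻¹ * (s * b * s⁻¹) := conj_mul.symm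

theorem cj_inv (s a : G) : s * a⁻¹ * s⁻¹ = (s * a * s⁻¹)⁻¹ := conj_inv.symm

theorem fix (h : Commute x y) : x * y * x⁻¹ = y := by rw [h.eq, mul_inv_cancel_right]

theorem cjc (h : Commute x y) (g : G) : Commute (g * x * g⁻¹) (g * y * g⁻¹) := h.map (MulAut.conj g)

theorem back (g x : G) : g * (g⁻¹ * x * g⁻¹⁻¹) * g⁻¹ = x := by group

/-- `Y = O₃(A)` is self-centralising, `A = N(Y)` has no element of order nine -/
structure Cr (A Y : Subgroup G) : Prop where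
  le : Y ≤ A
  nrm : ∀ s ∈ A, ∀ y ∈ Y, s * y * s⁻¹ ∈ Y
  cen : ∀ x, (∀ y ∈ Y, Commute x y) → x ∈ Y
  full : ∀ x, (∀ y ∈ Y, x * y * x⁻¹ ∈ Y) → x ∈ A
  cube : ∀ x ∈ A, ∀ k, x ^ 3 ^ k = 1 → x ^ 3 = 1
  pg : IsPGroup 3 Y
  max : ∀ X ≤ A, (∀ s ∈ A, ∀ x ∈ X, s * x * s⁻¹ ∈ X) → IsPGroup 3 X → X ≤ Y

/-- quadratic elements -/
def Qd (A Y : Subgroup G) (x : G) : Prop := x ∈ A ∧ ∀ y ∈ Y, Commute x (cm x y)

namespace Cr

variable (h : Cr A Y)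
include h

theorem cub (hy : y ∈ Y) : y ^ 3 = 1 := by
  obtain ⟨k, hk⟩ := h.pg ⟨y, hy⟩
  exact h.cube y (h.le hy) k (congrArg Subtype.val hk)

theorem cm_mem (hx : x ∈ A) (hy : y ∈ Y) : cm x y ∈ Y := mul_mem (h.nrm x hx y hy) (inv_mem hy)

theorem conj_all {p : G → Prop} {g : G} (hg : g ∈ A) (k : ∀ y ∈ Y, p (g * y * g⁻¹)) : ∀ y ∈ Y, p y := fun y hy =>
  back g y ▸ k _ (h.nrm _ (inv_mem hg) y hy)

theorem nine (hx : x ∈ A) (k : ∀ y ∈ Y, x ^ 3 * y * (x ^ 3)⁻¹ = y) : x ^ 3 = 1 :=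
  h.cube x hx 2 (by rw [pow_two, pow_mul, h.cub (h.cen _ fun y hy => mul_inv_eq_iff_eq_mul.1 (k y hy))])

theorem _root_.Cfsg.Agent.N2.Sp4.CoT.Qd.cube (q : Qd A Y x) : x ^ 3 = 1 := h.nine q.1 fun y hy => by
  have h1 := fix (q.2 y hy)
  rw [show x ^ 3 * y * (x ^ 3)⁻¹ = x * (x * (x * y * x⁻¹) * x⁻¹) * x⁻¹ by simp only [pow_three]; group]
  have h2 := (cm_mul x y).symm
  have h3 := h.cub (h.cm_mem q.1 hy)
  generalize cm x y = w at h1 h2 h3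
  rw [h2, cj_mul x w, h1, h2, cj_mul x w, cj_mul x w, h1, h2, ← mul_assoc, ← mul_assoc, ← pow_three', h3, one_mul]

/-- **the stabiliser of a chain** -/
theorem rad (h2 : ∀ s ∈ A, ∀ w ∈ W, s * w * s⁻¹ ∈ W) (hx : x ∈ A) (h3 : ∀ y ∈ Y, cm x y ∈ W)
    (h4 : ∀ w ∈ W, Commute x w) : x ∈ Y := by
  let X : Subgroup G :=
    { carrier := {x | x ∈ A ∧ (∀ y ∈ Y, cm x y ∈ W) ∧ ∀ w ∈ W, Commute x w}
      one_mem' := ⟨one_mem _, fun y _ => by rw [cm_eq_one.2 (Commute.one_left y)]; exact one_mem _, fun w _ => Commute.one_left w⟩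
      mul_mem' := fun {a b} ha hb => ⟨mul_mem ha.1 hb.1, fun y hy => cm_left a b y ▸
        mul_mem (h2 a ha.1 _ (hb.2.1 y hy)) (ha.2.1 y hy), fun w hw => (ha.2.2 w hw).mul_left (hb.2.2 w hw)⟩
      inv_mem' := fun {a} ha => ⟨inv_mem ha.1, fun y hy => cm_inv a y ▸ h2 _ (inv_mem ha.1) _ (inv_mem (ha.2.1 y hy)),
        fun w hw => (ha.2.2 w hw).inv_left⟩ }
  refine h.max X (fun _ k => k.1) (fun s hs a ha => ⟨mul_mem (mul_mem hs ha.1) (inv_mem hs), h.conj_all hs fun y hy =>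
    cm_conj s a y ▸ h2 s hs _ (ha.2.1 y hy), fun w hw => back s w ▸ cjc (ha.2.2 _ (h2 _ (inv_mem hs) w hw)) s⟩)
    (fun a => ⟨1, Subtype.ext (Qd.cube h ⟨a.2.1, fun y hy => a.2.2.2 _ (a.2.2.1 y hy)⟩)⟩) ⟨hx, h3, h4⟩

/-- the stabiliser of the chain which is defined by an element -/
theorem rad' (hx : x ∈ A) (k : ∀ g ∈ A, ∀ y ∈ Y, Commute (g * x * g⁻¹) (cm x y)) : x ∈ Y := by
  refine h.rad (W := closure {w | ∃ g ∈ A, ∃ y ∈ Y, w = g * cm x y * g⁻¹})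
    (fun s hs w hw => mem_comap.1 ((closure_le (Subgroup.comap (MulAut.conj s).toMonoidHom (closure _))).2 ?_ hw)) hx
    (fun y hy => subset_closure ⟨1, one_mem _, y, hy, by group⟩)
    fun w hw => (mem_centralizer_singleton_iff.1 ((closure_le (centralizer {x})).2 ?_ hw)).symm
  · rintro _ ⟨g, hg, y, hy, rfl⟩
    exact subset_closure ⟨s * g, mul_mem hs hg, y, hy, by simp [mul_assoc]⟩
  · rintro _ ⟨g, hg, y, hy, rfl⟩
    exact mem_centralizer_singleton_iff.2 (back g x ▸ cjc (k _ (inv_mem hg) y hy) g).symm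

variable (ab : ∀ a ∈ Y, ∀ b ∈ Y, Commute a b)
include ab

theorem quad (hx : x ∈ A) (h3 : x ^ 3 = 1) : Qd A Y x := ⟨hx, fun y hy => by
  have h1 : (y * x) ^ 3 = y * (x * y * x⁻¹) * (x * (x * y * x⁻¹) * x⁻¹) := by
    rw [← mul_one (y * _ * _), ← h3]
    simp only [pow_three]
    group
  have h2 := h.nrm x hx y hy
  have h4 := h.cube _ (mul_mem (h.le hy) hx) 2 (by
    rw [pow_two, pow_mul, h1, h.cub (mul_mem (mul_mem hy h2) (h.nrm x hx _ h2))])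
  rw [h1] at h4
  have h5 := ab _ hy _ h2
  have h6 := h.cub h2
  rw [← mul_inv_eq_iff_eq_mul.trans (Iff.rfl : _ ↔ Commute x (cm x y)), cm, cj_mul x _ y⁻¹, cj_inv x y]
  generalize x * y * x⁻¹ = u at h4 h5 h6
  rw [eq_inv_of_mul_eq_one_right h4, mul_inv_rev, mul_assoc, h5.inv_inv.eq, ← mul_assoc,
    ← mul_inv_rev, inv_eq_of_mul_eq_one_right ((pow_three' u).symm.trans h6)]⟩

/-- **the symmetry** -/
theorem sym (q : Qd A Y x) (q' : Qd A Y x') (k : ∀ y ∈ Y, Commute x (cm x' y)) : ∀ y ∈ Y, Commute x' (cm x y) := by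
  have h1 : ∀ y, x * x' * y * (x * x')⁻¹ = x * (cm x' y * y) * x⁻¹ := fun y => by rw [cm_mul]; group
  have h2 : ∀ y ∈ Y, x * x' * y * (x * x')⁻¹ = cm x' y * (cm x y * y) := fun y hy => by
    rw [h1, cj_mul x (cm x' y), fix (k y hy), cm_mul]
  have h3 : ∀ y ∈ Y, x * x' * cm x' y * (x * x')⁻¹ = cm x' y := fun y hy => fix ((k y hy).mul_left (q'.2 y hy))
  have h4 : ∀ y ∈ Y, x * x' * cm x y * (x * x')⁻¹ = cm x' (cm x y) * cm x y := fun y hy => by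
    rw [h2 _ (h.cm_mem q.1 hy), cm_eq_one.2 (q.2 y hy), one_mul]
  have hs := mul_mem q.1 q'.1
  have h5 := h.quad ab hs (h.nine hs fun y hy => by
    have m1 := h.cm_mem q.1 hy
    have m2 := h.cm_mem q'.1 hy
    have m3 := h.cm_mem q'.1 m1
    have k1 := h2 y hy
    have k2 := h3 y hy
    have k3 := h4 y hy
    have k4 := h3 _ m1
    generalize x * x' = s at k1 k2 k3 k4
    rw [show s ^ 3 * y * (s ^ 3)⁻¹ = s * (s * (s * y * s⁻¹) * s⁻¹) * s⁻¹ by simp only [pow_three]; group]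
    generalize cm x' (cm x y) = w at *
    generalize cm x y = u at *
    generalize cm x' y = v at *
    rw [k1, cj_mul s v, cj_mul s u, k1, k2, k3, cj_mul s v, cj_mul s (w * u), cj_mul s w, cj_mul s v, cj_mul s u, k1, k2, k3, k4]
    calc _ = w ^ 3 * (v ^ 3 * (u ^ 3 * y)) := by
          simp only [pow_three, mul_assoc, (ab v m2 w m3).left_comm, (ab u m1 w m3).left_comm, (ab u m1 v m2).left_comm]
      _ = y := by rw [h.cub m1, h.cub m2, h.cub m3, one_mul, one_mul, one_mul])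
  intro y hy
  have h6 := fix (h5.2 y hy)
  rw [cm, h2 y hy, ← mul_assoc (cm x' y), mul_inv_cancel_right, cj_mul (x * x') (cm x' y), h3 y hy, h4 y hy, mul_right_inj,
    mul_eq_right] at h6
  exact cm_eq_one.1 h6

/-- **transvections with a common centre** -/
theorem tv1 {x₁ x₂ : G} (hz : z ∈ Y) (a1 : x₁ ∈ A) (a2 : x₂ ∈ A) (c1 : Commute x₁ z) (c2 : Commute x₂ z)
    (k1 : ∀ y ∈ Y, cm x₁ y = 1 ∨ cm x₁ y = z ∨ cm x₁ y = z⁻¹) (k2 : ∀ y ∈ Y, cm x₂ y = 1 ∨ cm x₂ y = z ∨ cm x₂ y = z⁻¹)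
    (n : x₁ ∉ Y ∧ x₂ ∉ Y ∧ x₁ * x₂ ∉ Y ∧ x₁ * x₂⁻¹ ∉ Y) : False := by
  have z3 := h.cub hz
  have cz : ∀ {x w}, Commute x z → w ∈ zpowers z → Commute x w := by
    rintro x _ k ⟨i, rfl⟩
    exact k.zpow_right i
  have mz : ∀ {w}, w = 1 ∨ w = z ∨ w = z⁻¹ → w ∈ zpowers z := by
    rintro _ (rfl | rfl | rfl)
    exacts [one_mem _, mem_zpowers _, inv_mem (mem_zpowers _)]
  have e1 : ∀ y ∈ Y, cm (x₁ * x₂) y = cm x₂ y * cm x₁ y := fun y hy => by rw [cm_left, fix (cz c1 (mz (k2 y hy)))]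
  have e2 : ∀ y ∈ Y, cm (x₁ * x₂⁻¹) y = (cm x₂ y)⁻¹ * cm x₁ y := fun y hy => by
    rw [cm_left, cm_inv, fix (cz c2 (mz (k2 y hy))).inv_inv, fix (cz c1 (mz (k2 y hy))).inv_right]
  refine n.1 (h.rad' a1 fun g hg y hy => cz ?_ (mz (k1 y hy)))
  have hz' := h.nrm g hg z hz
  have key : ∀ x ∈ A, x ∉ Y → Commute x z → (∀ y ∈ Y, cm x y ∈ zpowers z) → cm x (g * z * g⁻¹) = 1 →
      Commute (g * x₁ * g⁻¹) z := fun x m1 m2 m3 m4 m5 => by
    have m6 : ∀ {u}, Commute u (g * z * g⁻¹) → ∀ y ∈ Y, Commute u (cm (g * x₁ * g⁻¹) y) := fun {u} k =>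
      h.conj_all hg fun y hy => by
        rw [cm_conj]
        rcases k1 y hy with e | e | e <;> rw [e]
        exacts [by simp, k, cj_inv g z ▸ k.inv_right]
    have m7 := h.sym ab ⟨m1, fun y hy => cz m3 (m4 y hy)⟩ ⟨mul_mem (mul_mem hg a1) (inv_mem hg), m6 (cjc c1 g)⟩
      (m6 (cm_eq_one.1 m5))
    by_contra m8
    refine m2 (h.cen x fun y hy => cm_eq_one.1 ?_)
    obtain ⟨i, hi⟩ := m4 y hy
    have m9 := m7 y hy
    simp only at hi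
    rw [← hi, zpow_eq_zpow_emod' i z3] at m9 ⊢
    obtain e | e | e : i % (3 : ℕ) = 0 ∨ i % (3 : ℕ) = 1 ∨ i % (3 : ℕ) = 2 := by omega
    · rw [e, zpow_zero]
    · exact absurd (by rwa [e, zpow_one] at m9) m8
    · rw [e] at m9
      refine absurd ?_ m8
      have := m9.mul_right m9
      rwa [← zpow_add, show (2 + 2 : ℤ) = (3 : ℕ) + 1 by norm_num, zpow_add_one, zpow_natCast, z3, one_mul] at this
  have t3 := key _ (mul_mem a1 a2) n.2.2.1 (c1.mul_left c2) fun y hy => e1 y hy ▸ mul_mem (mz (k2 y hy)) (mz (k1 y hy))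
  have t4 := key _ (mul_mem a1 (inv_mem a2)) n.2.2.2 (c1.mul_left c2.inv_left)
    fun y hy => e2 y hy ▸ mul_mem (inv_mem (mz (k2 y hy))) (mz (k1 y hy))
  rw [e1 _ hz'] at t3
  rw [e2 _ hz'] at t4
  rcases k1 _ hz' with e | e | e
  · exact key _ a1 n.1 c1 (fun y hy => mz (k1 y hy)) e
  all_goals rcases k2 _ hz' with f | f | f
  exacts [key _ a2 n.2.1 c2 (fun y hy => mz (k2 y hy)) f, t4 (by rw [e, f, inv_mul_cancel]), t3 (by rw [e, f, inv_mul_cancel]),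
    key _ a2 n.2.1 c2 (fun y hy => mz (k2 y hy)) f, t3 (by rw [e, f, mul_inv_cancel]), t4 (by rw [e, f, inv_mul_cancel])]

/-- **transvections with a common axis** -/
theorem tv2 {x₁ x₂ y₀ : G} {C : Subgroup G} (hy : y₀ ∈ Y) (a1 : x₁ ∈ A) (a2 : x₂ ∈ A) (c1 : ∀ c ∈ C, Commute x₁ c)
    (c2 : ∀ c ∈ C, Commute x₂ c) (hC : ∀ y ∈ Y, y ∈ C ∨ y * y₀⁻¹ ∈ C ∨ y * y₀ ∈ C) (k1 : cm x₁ y₀ ∈ C) (k2 : cm x₂ y₀ ∈ C)
    (n : x₁ ∉ Y ∧ x₂ ∉ Y ∧ x₁ * x₂ ∉ Y ∧ x₁ * x₂⁻¹ ∉ Y) : False := by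
  have cy : ∀ x ∈ A, (∀ c ∈ C, Commute x c) → ∀ y ∈ Y, cm x y = 1 ∧ y ∈ C ∨ cm x y = cm x y₀ ∨ cm x y = (cm x y₀)⁻¹ :=
    fun x m1 m2 y k => by
      have m3 := ab _ k _ (h.cm_mem m1 hy)
      refine (hC y k).imp (fun e => ⟨cm_eq_one.2 (m2 y e), e⟩) (Or.imp (fun e => ?_) fun e => ?_)
      · have m4 := cm_right x (y * y₀⁻¹) y₀
        rwa [inv_mul_cancel_right, cm_eq_one.2 (m2 _ e), one_mul,
          fix (ab _ (mul_mem k (inv_mem hy)) _ (h.cm_mem m1 hy))] at m4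
      · have m4 := cm_right x y y₀
        rw [cm_eq_one.2 (m2 _ e), fix m3] at m4
        exact eq_inv_of_mul_eq_one_left m4.symm
  have cz : ∀ x ∈ A, (∀ c ∈ C, Commute x c) → ∀ u, Commute u (cm x y₀) → ∀ y ∈ Y, Commute u (cm x y) :=
    fun x m1 m2 u m3 y k => by
      rcases cy x m1 m2 y k with e | e | e
      exacts [e.1 ▸ Commute.one_right u, e ▸ m3, e ▸ m3.inv_right]
  have e1 : cm (x₁ * x₂) y₀ = cm x₂ y₀ * cm x₁ y₀ := by rw [cm_left, fix (c1 _ k2)]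
  have e2 : cm (x₁ * x₂⁻¹) y₀ = (cm x₂ y₀)⁻¹ * cm x₁ y₀ := by rw [cm_left, cm_inv, fix (c2 _ k2).inv_inv, fix (c1 _ k2).inv_right]
  refine n.1 (h.rad' a1 fun g hg y k => ?_)
  have key : ∀ x ∈ A, x ∉ Y → (∀ c ∈ C, Commute x c) → cm x y₀ ∈ C → g * cm x y₀ * g⁻¹ ∈ C →
      Commute (g * x₁ * g⁻¹) (cm x₁ y) := fun x m1 m2 m3 m4 m5 => by
    have m6 := h.sym ab ⟨a1, cz _ a1 c1 _ (c1 _ k1)⟩ (x' := g * x * g⁻¹) ⟨mul_mem (mul_mem hg m1) (inv_mem hg),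
      h.conj_all hg fun y k => cm_conj g x y ▸ cjc (cz x m1 m3 _ (m3 _ m4) y k) g⟩ (h.conj_all hg fun y k => by
        have := cjc (cz x m1 m3 (g⁻¹ * x₁ * g⁻¹⁻¹) (by simpa [mul_assoc] using cjc (c1 _ m5) g⁻¹) y k) g
        rwa [back, ← cm_conj] at this) y k
    have m7 := h.nrm _ (inv_mem hg) _ (h.cm_mem a1 k)
    have m8 : cm x (g⁻¹ * cm x₁ y * g⁻¹⁻¹) = 1 := cm_eq_one.2 (by simpa [mul_assoc] using cjc m6 g⁻¹)
    have m9 : cm x y₀ ≠ 1 := fun e => m2 (h.cen x fun y k => cm_eq_one.1 (by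
      rcases cy x m1 m3 y k with f | f | f
      exacts [f.1, f.trans e, by rw [f, e, inv_one]]))
    rcases cy x m1 m3 _ m7 with e | e | e
    · exact back g (cm x₁ y) ▸ cjc (c1 _ e.2) g
    · exact absurd (e.symm.trans m8) m9
    · exact absurd (inv_eq_one.1 (e.symm.trans m8)) m9
  have t3 := key _ (mul_mem a1 a2) n.2.2.1 (fun c hc => (c1 c hc).mul_left (c2 c hc)) (e1 ▸ mul_mem k2 k1)
  have t4 := key _ (mul_mem a1 (inv_mem a2)) n.2.2.2 (fun c hc => (c1 c hc).mul_left (c2 c hc).inv_left)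
    (e2 ▸ mul_mem (inv_mem k2) k1)
  rw [e1, cj_mul g (cm x₂ y₀)] at t3
  rw [e2, cj_mul g (cm x₂ y₀)⁻¹, cj_inv g] at t4
  have m1 := h.nrm g hg _ (h.cm_mem a1 hy)
  have m2 := h.nrm g hg _ (h.cm_mem a2 hy)
  have t1 := key _ a1 n.1 c1 k1
  have t2 := key _ a2 n.2.1 c2 k2
  generalize g * cm x₁ y₀ * g⁻¹ = u at *
  generalize g * cm x₂ y₀ * g⁻¹ = v at *
  have f1 : ∀ w ∈ Y, v * w⁻¹ ∈ C → u * w ∈ C → v * u ∈ C := fun w hw e f => by
    have := mul_mem e f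
    rwa [(ab u m1 w hw).eq, mul_assoc, inv_mul_cancel_left] at this
  have f2 : ∀ w ∈ Y, v * w ∈ C → u * w ∈ C → v⁻¹ * u ∈ C := fun w hw e f => by
    have := mul_mem (inv_mem e) f
    rwa [(ab u m1 w hw).eq, (ab v m2 w hw).eq, mul_inv_rev, mul_assoc, inv_mul_cancel_left] at this
  rcases hC u m1 with e | e | e
  · exact t1 e
  all_goals rcases hC v m2 with f | f | f
  exacts [t2 f, t4 (f2 _ (inv_mem hy) f e), t3 (f1 _ (inv_mem hy) (by rwa [inv_inv]) e), t2 f, t3 (f1 _ hy f e),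
    t4 (f2 _ hy f e)]

end Cr

end Cfsg.Agent.N2.Sp4.CoT
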