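import Cfsg.Agent.N2.Sp4.Co1A
import Cfsg.Agent.H776.Co.Model

/-!
# S3519, `Co1`, `p = 3`: the Sylow subgroup (helper15)
-/

set_option autoImplicit false
set_option synthInstance.maxSize 1000
set_option synthInstance.maxHeartbeats 200000

namespace Cfsg.Agent.N2.Sp4.CoT

open Subgroup Cfsg.Agent.H776.Co Cfsg.Agent.H776.Co.P

/-- the facts on the subgroup of the model -/
structure Md (Y : Subgroup P) : Prop where
  cen : ∀ x, (∀ y ∈ Y, cm x y = 1) → x ∈ Y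
  cube : ∀ x, (∀ y ∈ Y, cm x y ∈ Y) → x ^ 3 = 1
  radZ : ∀ x, (∀ y ∈ Y, ∀ y' ∈ Y, cm (cm x y) y' = 1) → (∀ z ∈ Y, (∀ y ∈ Y, Commute z y) → cm x z = 1) → x ∈ Y
  radC : ∀ x, ∀ a ∈ Y, ∀ b ∈ Y, (∀ y ∈ Y, cm x y ∈ zpowers (cm a b)) → (∀ a ∈ Y, ∀ b ∈ Y, cm x (cm a b) = 1) → x ∈ Y
  tv1 : (∀ a ∈ Y, ∀ b ∈ Y, Commute a b) → ∀ x₁ x₂, ∀ z ∈ Y, Commute x₁ z → Commute x₂ z →
    (∀ y ∈ Y, cm x₁ y = 1 ∨ cm x₁ y = z ∨ cm x₁ y = z⁻¹) → (∀ y ∈ Y, cm x₂ y = 1 ∨ cm x₂ y = z ∨ cm x₂ y = z⁻¹) →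
    x₁ ∉ Y ∧ x₂ ∉ Y ∧ x₁ * x₂ ∉ Y ∧ x₁ * x₂⁻¹ ∉ Y → False
  tv2 : (∀ a ∈ Y, ∀ b ∈ Y, Commute a b) → ∀ x₁ ∈ A, ∀ x₂ ∈ A, ∀ y₀ ∈ Y, (∀ y ∈ Y, cm x₁ y ∈ Y) → (∀ y ∈ Y, cm x₂ y ∈ Y) →
    (∀ y ∈ Y, y ∈ A ∨ y * y₀⁻¹ ∈ A ∨ y * y₀ ∈ A) → x₁ ∉ Y ∧ x₂ ∉ Y ∧ x₁ * x₂ ∉ Y ∧ x₁ * x₂⁻¹ ∉ Y → False

/-- the elements of `3 ^ 6` -/
abbrev j (p q r s t u : ZMod 3) : P := ⟨0, 0, 0, p, q, r, s, t, u⟩

theorem cm_of {G : Type*} [Group G] {x y d : G} (h : x * y = d * (y * x)) : cm x y = d := by rw [cm, h]; group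

theorem cm_j (p q r s t u : ZMod 3) (y : P) : cm (j p q r s t u) y =
    j (-(2 * y.a * q + 2 * y.c * s + y.a ^ 2 * r + 2 * y.a * y.c * t + y.c ^ 2 * u))
      (-(y.a * r + y.c * t + y.b * (s + y.a * t + y.c * u))) (-(2 * y.b * t + y.b ^ 2 * u)) (-(y.a * t + y.c * u))
      (-(y.b * u)) 0 := cm_of (by ext <;> simp <;> ring)

theorem conj_j (p q r s t u : ZMod 3) (y : P) : y * j p q r s t u * y⁻¹ =
    j (p + 2 * y.a * q + 2 * y.c * s + y.a ^ 2 * r + 2 * y.a * y.c * t + y.c ^ 2 * u)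
      (q + y.a * r + y.c * t + y.b * (s + y.a * t + y.c * u)) (r + 2 * y.b * t + y.b ^ 2 * u) (s + y.a * t + y.c * u)
      (t + y.b * u) u := mul_inv_eq_iff_eq_mul.2 (by ext <;> simp <;> ring)

theorem commA {x y : P} (hx : x ∈ A) (hy : y ∈ A) : Commute x y := by
  obtain ⟨h1, h2, h3⟩ := hx
  obtain ⟨h4, h5, h6⟩ := hy
  show x * y = y * x
  ext <;> simp [h1, h2, h3, h4, h5, h6, add_comm]

theorem cmA {x : P} (hx : x ∈ A) (y : P) : cm x y ∈ A := by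
  obtain ⟨h1, h2, h3⟩ := hx
  refine ⟨?_, ?_, ?_⟩ <;> simp [cm, h1, h2, h3]

theorem c33 {y : P} (ha : y.a = 0) (h : y ^ 3 = 1) : y.b = 0 ∧ y.c = 0 ∨ y.m33 = 0 := by
  have h1 := congrArg P.m11 h
  have h2 := congrArg P.m22 h
  obtain ⟨a, b, c, p, q, r, s, t, u⟩ := y
  simp only at ha
  simp only [pow_three, mul_m11, mul_m12, mul_m13, mul_m22, mul_m23, mul_m33, one_m11, one_m22, ha, mul_zero, zero_mul,
    add_zero, pow_two] at h1 h2 ⊢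
  clear h
  revert b c p r s t u
  decide +kernel

section tr

variable {G : Type*} [Group G] {B Y : Subgroup G}

theorem map_cm (ι : P →* G) (x y : P) : ι (cm x y) = cm (ι x) (ι y) := by simp [cm]

theorem md_of (h : Cr B Y) (ι : P →* G) (hi : Function.Injective ι) (hY : Y ≤ ι.range) : Md (Y.comap ι) := by
  have all : ∀ {p : G → Prop}, (∀ y ∈ Y.comap ι, p (ι y)) → ∀ y ∈ Y, p y := fun k y hy => by
    obtain ⟨y, rfl⟩ := hY hy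
    exact k y hy
  have one : ∀ {x y}, cm x y = 1 → Commute (ι x) (ι y) := fun k => (cm_eq_one.1 k).map ι
  have mem : ∀ {x}, (∀ y ∈ Y.comap ι, cm x y ∈ Y.comap ι) → ι x ∈ B := fun {x} k =>
    h.full _ (all fun y hy => by rw [← cm_mul, ← map_cm]; exact mul_mem (k y hy) hy)
  have cen : ∀ x, (∀ y ∈ Y.comap ι, cm x y = 1) → x ∈ Y.comap ι := fun x k => h.cen _ (all fun y hy => one (k y hy))
  have ab : (∀ a ∈ Y.comap ι, ∀ b ∈ Y.comap ι, Commute a b) → ∀ a ∈ Y, ∀ b ∈ Y, Commute a b := fun k =>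
    all fun a ha => all fun b hb => (k a ha b hb).map ι
  have ne : ∀ {x₁ x₂}, x₁ ∉ Y.comap ι ∧ x₂ ∉ Y.comap ι ∧ x₁ * x₂ ∉ Y.comap ι ∧ x₁ * x₂⁻¹ ∉ Y.comap ι →
      ι x₁ ∉ Y ∧ ι x₂ ∉ Y ∧ ι x₁ * ι x₂ ∉ Y ∧ ι x₁ * (ι x₂)⁻¹ ∉ Y := fun k => by simpa using k
  refine ⟨cen, fun x k => hi ?_, fun x k1 k2 => ?_, fun x a ha b hb k1 k2 => ?_, fun k0 x₁ x₂ z hz c1 c2 k1 k2 n => ?_,
    fun k0 x₁ a1 x₂ a2 y₀ hy k1 k2 k3 n => ?_⟩
  · obtain ⟨n, hn⟩ := isPGroup_P x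
    rw [map_pow, map_one]
    exact h.cube _ (mem k) n (by rw [← map_pow, hn, map_one])
  · have k3 := fun y hy => cen _ (k1 y hy)
    refine h.rad (W := Y ⊓ centralizer Y) (fun s hs w hw => ⟨h.nrm s hs w hw.1, mem_centralizer_iff.2
      (h.conj_all hs fun y hy => cjc (mem_centralizer_iff.1 hw.2 y hy) s)⟩) (mem k3)
      (all fun y hy => map_cm ι x y ▸ ⟨k3 y hy, mem_centralizer_iff.2 (all fun u hu => (one (k1 y hy u hu)).symm)⟩)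
      fun w hw => ?_
    obtain ⟨w, rfl⟩ := hY hw.1
    exact one (k2 w hw.1 fun y hy => Commute.of_map hi (Eq.symm (mem_centralizer_iff.1 hw.2 _ hy)))
  · have k3 : cm a b ∈ Y.comap ι := mul_mem (mul_mem (mul_mem ha hb) (inv_mem ha)) (inv_mem hb)
    refine h.rad (W := closure {w | ∃ a ∈ Y, ∃ b ∈ Y, w = cm a b})
      (fun s hs w hw => mem_comap.1 ((closure_le (Subgroup.comap (MulAut.conj s).toMonoidHom (closure _))).2 ?_ hw))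
      (mem fun y hy => zpowers_le.2 k3 (k1 y hy)) (all fun y hy => ?_)
      fun w hw => (mem_centralizer_singleton_iff.1 ((closure_le (centralizer {ι x})).2 ?_ hw)).symm
    · rintro _ ⟨a, ha, b, hb, rfl⟩
      exact subset_closure ⟨_, h.nrm s hs a ha, _, h.nrm s hs b hb, (cm_conj s a b).symm⟩
    · obtain ⟨i, e⟩ := k1 y hy
      rw [← map_cm, ← e, map_zpow, map_cm]
      exact zpow_mem (subset_closure (by exact ⟨_, ha, _, hb, rfl⟩)) i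
    · rintro _ ⟨a, ha, b, hb, rfl⟩
      obtain ⟨a, rfl⟩ := hY ha
      obtain ⟨b, rfl⟩ := hY hb
      exact mem_centralizer_singleton_iff.2 (map_cm ι a b ▸ (one (k2 a ha b hb)).symm)
  · have k3 : ∀ {x}, (∀ y ∈ Y.comap ι, cm x y = 1 ∨ cm x y = z ∨ cm x y = z⁻¹) → ι x ∈ B ∧ ∀ y ∈ Y, cm (ι x) y = 1 ∨
        cm (ι x) y = ι z ∨ cm (ι x) y = (ι z)⁻¹ := fun {x} k => ⟨mem fun y hy => by
      rcases k y hy with e | e | e <;> rw [e]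
      exacts [one_mem _, hz, inv_mem hz], all fun y hy => by
        rw [← map_cm]
        rcases k y hy with e | e | e <;> simp [e]⟩
    exact h.tv1 (ab k0) hz (k3 k1).1 (k3 k2).1 (c1.map ι) (c2.map ι) (k3 k1).2 (k3 k2).2 (ne n)
  · have k4 : ∀ x ∈ A, ∀ c ∈ A.map ι, Commute (ι x) c := by
      rintro x hx _ ⟨c, hc, rfl⟩
      exact (commA hx hc).map ι
    refine h.tv2 (ab k0) (C := A.map ι) hy (mem k1) (mem k2) (k4 _ a1) (k4 _ a2) (all fun y hy => ?_)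
      ⟨_, cmA a1 _, map_cm ι _ _⟩ ⟨_, cmA a2 _, map_cm ι _ _⟩ (ne n)
    exact (k3 y hy).imp (fun e => ⟨_, e, rfl⟩) (Or.imp (fun e => ⟨_, e, by simp⟩) fun e => ⟨_, e, by simp⟩)

end tr

namespace Md

variable {Y : Subgroup P} (h : Md Y) {x y : P}
include h

theorem cub (hy : y ∈ Y) : y ^ 3 = 1 :=
  h.cube y fun _ hu => mul_mem (mul_mem (mul_mem hy hu) (inv_mem hy)) (inv_mem hu)

theorem sum3 (k : ∀ y ∈ Y, cm x y ∈ Y) (hy : y ∈ Y) : x * (y * x * y⁻¹) * (y * (y * x * y⁻¹) * y⁻¹) = 1 := by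
  have h1 := h.cube (x * y) fun u hu => by
    rw [show cm (x * y) u = cm x (y * u * y⁻¹) * (y * u * y⁻¹) * u⁻¹ by simp only [cm]; group]
    have := mul_mem (mul_mem hy hu) (inv_mem hy)
    exact mul_mem (mul_mem (k _ this) this) (inv_mem hu)
  rwa [show (x * y) ^ 3 = x * (y * x * y⁻¹) * (y * (y * x * y⁻¹) * y⁻¹) * y ^ 3 by simp only [pow_three]; group, h.cub hy,
    mul_one] at h1

theorem z_mem (p : ZMod 3) : j p 0 0 0 0 0 ∈ Y := h.cen _ fun y _ => by rw [cm_j]; simp [one_def]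

/-- the cyclic case -/
theorem cyc {y₀ x₁ x₂ : P} (hy : y₀ ∈ Y) (hc : ∀ y ∈ Y, Commute y₀ y) (k : ∀ y ∈ Y, y ∈ A ∨ y * y₀⁻¹ ∈ A ∨ y * y₀ ∈ A)
    (a1 : x₁ ∈ A) (a2 : x₂ ∈ A) (k1 : cm (cm x₁ y₀) y₀ = 1) (k2 : cm (cm x₂ y₀) y₀ = 1)
    (n : cm x₁ y₀ ≠ 1 ∧ cm x₂ y₀ ≠ 1 ∧ cm (x₁ * x₂) y₀ ≠ 1 ∧ cm (x₁ * x₂⁻¹) y₀ ≠ 1) : False := by
  have h1 : ∀ S : Subgroup P, y₀ ∈ S → (∀ y ∈ Y, y ∈ A → y ∈ S) → ∀ y ∈ Y, y ∈ S := fun S k3 k4 y k5 => by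
    rcases k y k5 with e | e | e
    exacts [k4 y k5 e, (mul_mem_cancel_right (inv_mem k3)).1 (k4 _ (mul_mem k5 (inv_mem hy)) e),
      (mul_mem_cancel_right k3).1 (k4 _ (mul_mem k5 hy) e)]
  have h2 : ∀ x ∈ A, Commute y₀ x → ∀ y ∈ Y, Commute y x := fun x k3 k4 y k5 => mem_centralizer_singleton_iff.1
    (h1 (centralizer {x}) (mem_centralizer_singleton_iff.2 k4)
      (fun u _ k6 => mem_centralizer_singleton_iff.2 (commA k6 k3)) y k5)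
  have h3 : ∀ x ∈ A, cm (cm x y₀) y₀ = 1 → ∀ y ∈ Y, cm x y ∈ Y := fun x k3 k4 y k5 =>
    mul_mem (h1 (Y.comap (MulAut.conj x).toMonoidHom) (show x * y₀ * x⁻¹ ∈ Y from cm_mul x y₀ ▸ mul_mem
      (h.cen _ fun u hu => cm_eq_one.2 (h2 _ (cmA k3 _) (cm_eq_one.1 k4).symm u hu).symm) hy)
      (fun u k6 k7 => show x * u * x⁻¹ ∈ Y by rwa [fix (commA k3 k7)]) y k5) (inv_mem k5)
  have h4 : ∀ {x}, cm x y₀ ≠ 1 → x ∉ Y := fun k3 k4 => k3 (cm_eq_one.2 (hc _ k4).symm)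
  exact h.tv2 (fun a ha b hb => mem_centralizer_singleton_iff.1 (h1 (centralizer {b})
    (mem_centralizer_singleton_iff.2 (hc b hb)) (fun u k3 k4 => mem_centralizer_singleton_iff.2
      (h2 u k4 (hc u k3) b hb).symm) a ha)) _ a1 _ a2 _ hy (h3 _ a1 k1) (h3 _ a2 k2) k ⟨h4 n.1, h4 n.2.1, h4 n.2.2.1, h4 n.2.2.2⟩

theorem one (h1 : y ∈ Y) (h2 : y.a ≠ 0) : False := by
  have n12 : ∀ p q, j p q 0 0 0 0 ∈ Y → q = 0 := fun p q k => by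
    by_contra k1
    have k2 := h.sum3 (x := j 0 0 1 0 0 0) (fun u _ => by
      rw [cm_j]
      simp only [mul_zero, add_zero, neg_zero]
      obtain ⟨i, r, e⟩ := (by decide +kernel : ∀ p q p' q' : ZMod 3, q ≠ 0 → ∃ (i : Fin 3) (r : ZMod 3),
        j p' q' 0 0 0 0 = j p q 0 0 0 0 ^ i.1 * j r 0 0 0 0 0) p q _ _ k1
      exact e ▸ mul_mem (pow_mem k _) (h.z_mem r)) h1
    rw [conj_j, conj_j] at k2
    generalize y.a = a, y.b = b, y.c = c at k2 h2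
    revert a b c
    decide +kernel
  have n1 : j 0 1 0 0 0 0 ∉ Y := fun k => absurd (n12 _ _ k) (by decide)
  have e1 : ∀ u : P, cm (j 0 1 0 0 0 0) u = j (-(2 * u.a)) 0 0 0 0 0 := fun u => by rw [cm_j]; simp
  obtain ⟨y₀, hy, hc, ha⟩ : ∃ y₀ ∈ Y, (∀ y ∈ Y, Commute y₀ y) ∧ y₀.a ≠ 0 := by
    by_contra! k
    exact n1 (h.radZ _ (fun u _ v _ => by rw [e1, cm_j]; simp [one_def]) fun u hu k1 => by rw [e1, k u hu k1]; rfl)
  have hb : ∀ u ∈ Y, y₀.a * u.b = u.a * y₀.b := fun u hu => by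
    have := congrArg P.c (hc u hu).eq
    simp only [mul_c] at this
    linear_combination this
  have dec : ∀ u ∈ Y, ∃ v ∈ Y, v.a = 0 ∧ v.b = 0 ∧ (v = u ∨ v = u * y₀⁻¹ ∨ v = u * y₀) := fun u hu => by
    have k : ∀ v ∈ Y, v.a = 0 → v.a = 0 ∧ v.b = 0 := fun v hv e =>
      ⟨e, (mul_eq_zero.1 (by rw [hb v hv, e, zero_mul])).resolve_left ha⟩
    rcases (by decide : ∀ a b : ZMod 3, b ≠ 0 → a = 0 ∨ a + -b = 0 ∨ a + b = 0) u.a y₀.a ha with e | e | e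
    · exact ⟨u, hu, (k u hu e).1, (k u hu e).2, Or.inl rfl⟩
    · have := mul_mem hu (inv_mem hy)
      exact ⟨_, this, (k _ this e).1, (k _ this e).2, Or.inr (Or.inl rfl)⟩
    · have := mul_mem hu hy
      exact ⟨_, this, (k _ this e).1, (k _ this e).2, Or.inr (Or.inr rfl)⟩
  have com : ∀ u ∈ Y, ∀ v ∈ Y, ∃ p, cm u v = j p 0 0 0 0 0 := by
    have k1 : ∀ u ∈ Y, ∀ v ∈ Y, ∀ w, w = u ∨ w = u * y₀⁻¹ ∨ w = u * y₀ → cm u v = cm w v ∧ cm v u = cm v w := by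
      rintro u hu v hv _ (rfl | rfl | rfl)
      · exact ⟨rfl, rfl⟩
      · simp [cm_left, cm_right, cm_eq_one.2 (hc v hv).inv_left, cm_eq_one.2 (hc v hv).symm.inv_right]
      · simp [cm_left, cm_right, cm_eq_one.2 (hc v hv), cm_eq_one.2 (hc v hv).symm]
    intro u hu v hv
    obtain ⟨u', hu', a1, b1, e1⟩ := dec u hu
    obtain ⟨v', hv', a2, b2, e2⟩ := dec v hv
    rw [(k1 u hu v hv _ e1).1, (k1 v hv u' hu' _ e2).2]
    have k2 := c33 a1 (h.cub hu')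
    have k3 := c33 a2 (h.cub hv')
    have k4 := c33 (y := u' * v') (by simp [a1, a2]) (h.cub (mul_mem hu' hv'))
    have k5 : cm u' v' = j (2 * u'.c * v'.m13 + u'.c ^ 2 * v'.m33 - 2 * v'.c * u'.m13 - v'.c ^ 2 * u'.m33)
        (u'.c * v'.m23 - v'.c * u'.m23) 0 (u'.c * v'.m33 - v'.c * u'.m33) 0 0 :=
      cm_of (by ext <;> simp [a1, a2, b1, b2] <;> ring)
    have k6 : u'.c * v'.m33 - v'.c * u'.m33 = 0 := by
      simp only [mul_b, mul_c, mul_m33, a1, b1, b2, true_and, add_zero, mul_zero] at k2 k3 k4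
      generalize u'.c = a, v'.c = b, u'.m33 = c, v'.m33 = d at k2 k3 k4
      revert a b c d
      decide +kernel
    rw [k6] at k5
    have k7 : cm u' v' ∈ Y := mul_mem (mul_mem (mul_mem hu' hv') (inv_mem hu')) (inv_mem hv')
    rw [k5] at k7
    rw [n12 _ _ k7] at k5
    exact ⟨_, k5⟩
  have ab : ∀ u ∈ Y, ∀ v ∈ Y, Commute u v := fun u hu v hv => by
    by_contra k
    obtain ⟨p, e⟩ := com u hu v hv
    refine n1 (h.radC _ u hu v hv (fun w _ => ?_) fun a k1 b k2 => ?_)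
    · obtain ⟨i, f⟩ := (by decide +kernel : ∀ p q : ZMod 3, j p 0 0 0 0 0 ≠ 1 → ∃ i : Fin 3,
        j q 0 0 0 0 0 = j p 0 0 0 0 0 ^ i.1) p (-(2 * w.a)) fun f => k (cm_eq_one.1 (e.trans f))
      rw [e1, e, f]
      exact npow_mem_zpowers _ _
    · obtain ⟨q, f⟩ := com a k1 b k2
      rw [f, e1]
      simp [one_def]
  have zz : ∀ p : ZMod 3, j p 0 0 0 0 0 = 1 ∨ j p 0 0 0 0 0 = j 1 0 0 0 0 0 ∨ j p 0 0 0 0 0 = (j 1 0 0 0 0 0)⁻¹ := by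
    decide +kernel
  by_cases h3 : ∃ u ∈ Y, u.a = 0 ∧ u.b = 0 ∧ u.c ≠ 0
  · obtain ⟨u, hu, k1, k2, k3⟩ := h3
    have k4 : ∀ q r s, j 0 q r s 0 0 ∈ Y → s = 0 := fun q r s k => by
      have := congrArg P.m11 (cm_eq_one.2 (ab _ k u hu))
      rw [cm_j] at this
      simpa [k1, k3, show (2 : ZMod 3) ≠ 0 by decide] using this
    refine h.tv1 ab _ (j 0 0 (-(y₀.a * y₀.b)) 1 0 0) _ (h.z_mem 1) (commA ⟨rfl, rfl, rfl⟩ ⟨rfl, rfl, rfl⟩)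
      (commA ⟨rfl, rfl, rfl⟩ ⟨rfl, rfl, rfl⟩) (fun v _ => e1 v ▸ zz _) (fun v hv => ?_)
      ⟨n1, fun k => absurd (k4 _ _ _ k) (by decide), fun k => absurd (k4 1 (-(y₀.a * y₀.b)) 1 (by convert k using 1; ext <;> simp))
        (by decide), fun k => absurd (k4 1 (y₀.a * y₀.b) (-1) (by convert k using 1; ext <;> simp)) (by decide)⟩
    rw [cm_j]
    simp only [mul_zero, add_zero, neg_zero, mul_one]
    rw [(by decide +kernel : ∀ a b c d : ZMod 3, a ≠ 0 → a * d = c * b → -(c * -(a * b) + d) = 0) _ _ _ _ ha (hb v hv)]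
    exact zz _
  · obtain ⟨r, s, t, u, k⟩ := (by decide +kernel : ∀ a b c : ZMod 3, a ≠ 0 → ∃ r s t u : ZMod 3,
      2 * a * (a * r + c * t + b * (s + a * t + c * u)) + 2 * c * (a * t + c * u) + a ^ 2 * (2 * b * t + b ^ 2 * u) +
        2 * a * c * (b * u) = 0 ∧ a * (2 * b * t + b ^ 2 * u) + c * (b * u) + b * (a * t + c * u + a * (b * u)) = 0 ∧
        2 * b * (b * u) = 0 ∧ a * (b * u) = 0 ∧
        (a * r + c * t + b * (s + a * t + c * u) ≠ 0 ∨ a * t + c * u ≠ 0)) y₀.a y₀.b y₀.c ha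
    have k5 : ∀ q e : ZMod 3, e ≠ 0 → cm (j 0 q (e * r) (e * s) (e * t) (e * u)) y₀ ≠ 1 := fun q e he f => by
      rw [cm_j] at f
      have f1 := congrArg P.m12 f
      have f2 := congrArg P.m13 f
      simp only [one_m12, one_m13] at f1 f2
      exact k.2.2.2.2.elim (fun g => mul_ne_zero he g (by linear_combination -f1))
        fun g => mul_ne_zero he g (by linear_combination -f2)
    refine h.cyc (x₁ := j 0 1 0 0 0 0) (x₂ := j 0 0 r s t u) hy hc (fun v hv => ?_) ⟨rfl, rfl, rfl⟩ ⟨rfl, rfl, rfl⟩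
      (by rw [e1, cm_j]; simp [one_def]) ?_ ⟨fun f => ha ?_, by simpa using k5 0 1 (by decide),
        by convert k5 1 1 (by decide) using 2; ext <;> simp, by convert k5 1 (-1) (by decide) using 2; ext <;> simp⟩
    · obtain ⟨w, hw, k1, k2, e⟩ := dec v hv
      have k3 : w ∈ A := ⟨k1, k2, by_contra fun f => h3 ⟨w, hw, k1, k2, f⟩⟩
      rcases e with rfl | rfl | rfl
      exacts [Or.inl k3, Or.inr (Or.inl k3), Or.inr (Or.inr k3)]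
    · rw [cm_j, cm_j]
      ext <;> simp only [one_a, one_b, one_c, one_m11, one_m12, one_m13, one_m22, one_m23, one_m33]
      exacts [by linear_combination k.1, by linear_combination k.2.1, by linear_combination k.2.2.1,
        by linear_combination k.2.2.2.1, by ring]
    · have := congrArg P.m11 ((e1 _).symm.trans f)
      simpa [show (2 : ZMod 3) ≠ 0 by decide] using this

theorem no : False := by
  have ha : ∀ y ∈ Y, y.a = 0 := fun y hy => by_contra (h.one hy)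
  have c0 : ∀ p q r, ∀ y ∈ Y, cm (j p q r 0 0 0) y = 1 := fun p q r y hy => by rw [cm_j]; simp [one_def, ha y hy]
  have nx : (⟨1, 0, 0, 0, 0, 1, 0, 0, 0⟩ : P) ^ 3 ≠ 1 := by decide +kernel
  obtain ⟨y, hy, h1⟩ : ∃ y ∈ Y, ¬ (y.b = 0 ∧ y.c = 0) := by
    by_contra! k
    refine nx (h.cube _ fun u hu => h.cen _ fun v hv => cm_eq_one.2 (commA ?_ ⟨ha v hv, k v hv⟩))
    refine ⟨?_, ?_, ?_⟩ <;> simp [cm, ha u hu, k u hu]
  have e1 : ∀ s t, ∀ u ∈ Y, cm (j 0 0 0 s t 0) u = j (-(2 * u.c * s)) (-(u.c * t + u.b * s)) (-(2 * u.b * t)) 0 0 0 :=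
    fun s t u hu => by rw [cm_j]; simp [ha u hu]
  obtain ⟨y₀, hy₀, hc, h2⟩ : ∃ y₀ ∈ Y, (∀ y ∈ Y, Commute y₀ y) ∧ ¬ (y₀.b = 0 ∧ y₀.c = 0) := by
    by_contra! k
    have k1 : ∀ s t, j 0 0 0 s t 0 ∈ Y := fun s t => h.radZ _ (fun u hu v hv => by rw [e1 s t u hu, c0 _ _ _ v hv])
      fun u hu k2 => cm_eq_one.2 (commA ⟨rfl, rfl, rfl⟩ ⟨ha u hu, k u hu k2⟩)
    have k2 := h.sum3 (x := j 0 0 0 0 0 1) (fun u _ => by
      rw [cm_j, show ∀ p q r s t : ZMod 3, j p q r s t 0 = j p q r 0 0 0 * j 0 0 0 s t 0 from fun _ _ _ _ _ => by ext <;> simp]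
      exact mul_mem (h.cen _ (c0 _ _ _)) (k1 _ _)) hy
    rw [conj_j, conj_j, ha y hy] at k2
    generalize y.b = b, y.c = c at k2 h1
    revert b c
    decide +kernel
  have h3 := (c33 (ha _ hy₀) (h.cub hy₀)).resolve_left h2
  have h4 : ∀ u ∈ Y, u.m33 = 0 ∧ y₀.c * u.m13 = u.c * y₀.m13 ∧ y₀.b * u.m23 = u.b * y₀.m23 ∧
      y₀.c * u.m23 + y₀.b * u.m13 = u.c * y₀.m23 + u.b * y₀.m13 := fun u hu => by
    have k := P.ext_iff.1 (hc u hu).eq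
    simp only [mul_m11, mul_m12, mul_m13, mul_m22, mul_m23, ha u hu, ha _ hy₀, h3] at k
    obtain ⟨-, -, -, k1, k2, k3, k4, k5, -⟩ := k
    have k6 : u.m33 = 0 := by_contra fun f => h2 ⟨(mul_eq_zero.1 (by linear_combination k5)).resolve_right f,
      (mul_eq_zero.1 (by linear_combination k4)).resolve_right f⟩
    rw [k6] at k1 k2 k3
    have k7 : (3 : ZMod 3) = 0 := rfl
    exact ⟨k6, by linear_combination -k1 + (y₀.c * u.m13 - u.c * y₀.m13) * k7,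
      by linear_combination -k3 + (y₀.b * u.m23 - u.b * y₀.m23) * k7, by linear_combination k2⟩
  by_cases h5 : ∃ α, y₀.m13 = α * y₀.c ∧ y₀.m23 = α * y₀.b
  · obtain ⟨α, k1, k2⟩ := h5
    have k3 : ∀ u ∈ Y, u.m13 = α * u.c ∧ u.m23 = α * u.b := fun u hu => by
      have k4 := (h4 u hu).2
      rw [k1, k2] at k4
      generalize y₀.b = a, y₀.c = b, u.b = c, u.c = d, u.m13 = e, u.m23 = f at k4 h2
      clear k1 k2
      revert α a b c d e f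
      decide +kernel
    refine nx (h.cube _ fun u hu => h.cen _ fun v hv => cm_eq_one.2 ?_)
    have k4 : cm (⟨1, 0, 0, 0, 0, 1, 0, 0, 0⟩ : P) u = ⟨0, 0, u.b, (cm (⟨1, 0, 0, 0, 0, 1, 0, 0, 0⟩ : P) u).m11,
        (cm (⟨1, 0, 0, 0, 0, 1, 0, 0, 0⟩ : P) u).m12, (cm (⟨1, 0, 0, 0, 0, 1, 0, 0, 0⟩ : P) u).m22, α * u.b, 0, 0⟩ := by
      ext <;> simp [cm, ha u hu, k3 u hu, (h4 u hu).1]
    rw [k4]
    show _ * v = v * _
    ext <;> simp [ha v hv, k3 v hv, (h4 v hv).1] <;> ring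
  · have k5 : ∀ s t : ZMod 3, ¬ (s = 0 ∧ t = 0) → cm (j 0 0 0 s t 0) y₀ ≠ 1 := fun s t k => by
      rw [e1 s t _ hy₀]
      generalize y₀.b = b, y₀.c = c at h2
      revert s t b c
      decide +kernel
    refine h.cyc (x₁ := j 0 0 0 1 0 0) (x₂ := j 0 0 0 0 1 0) hy₀ hc (fun v hv => ?_) ⟨rfl, rfl, rfl⟩ ⟨rfl, rfl, rfl⟩
      (by rw [e1 _ _ _ hy₀, c0 _ _ _ _ hy₀]) (by rw [e1 _ _ _ hy₀, c0 _ _ _ _ hy₀])
      ⟨k5 _ _ (by decide), k5 _ _ (by decide), k5 1 1 (by decide), k5 1 (-1) (by decide)⟩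
    have k4 := (h4 v hv).2
    have k6 : (v.b = 0 ∧ v.c = 0) ∨ (v.b + -y₀.b = 0 ∧ v.c + -y₀.c = 0) ∨ (v.b + y₀.b = 0 ∧ v.c + y₀.c = 0) := by
      generalize y₀.b = a, y₀.c = b, v.b = c, v.c = d, v.m13 = e, v.m23 = f, y₀.m13 = g, y₀.m23 = i at k4 h2 h5
      revert a b c d e f g i
      decide +kernel
    exact k6.imp (fun e => ⟨ha v hv, e⟩) (Or.imp (fun e => ⟨by simp [ha v hv, ha _ hy₀], e.1, by simpa [ha v hv, ha _ hy₀] using e.2⟩)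
      fun e => ⟨by simp [ha v hv, ha _ hy₀], e.1, by simpa [ha v hv] using e.2⟩)

end Md

end Cfsg.Agent.N2.Sp4.CoT
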