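import Cfsg.Agent.N2.Sp4.F2A
import Cfsg.Agent.N2.Sp4.F3
import Cfsg.Agent.SB.SporD.Fi.Two
import Cfsg.Agent.SB.SporD.Fi.D22
import Cfsg.Agent.SB.SporD.Fi.D23

/-!
# S3519: the 2-local subgroups of `Fi22` and `Fi23` (helper15)

The proof of `SB/SporD/Fi/Two` with other leaves.
-/

set_option autoImplicit false
set_option linter.unusedSectionVars false

namespace Cfsg.Agent.N2.Sp4.FT

open Subgroup Cfsg Cfsg.Agent.FP3 Cfsg.Agent.H251 Cfsg.Agent.SB.SporD.Fi
open Cfsg.Agent.SB.SporB (norm_of conj_of_norm mem_cent norm_cent)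
open Cfsg.Agent.H831.Short (NoRel)

variable {G : Type*} [Group G] [Finite G] {D : Set G}

theorem eight {a b c x y z w : G} (a2 : a * a = 1) (b2 : b * b = 1) (c2 : c * c = 1) (ab : a * b * a = b * a * b)
    (bc : b * c * b = c * b * c) (ac : Commute a c)
    (ax : ∀ u, a * (x * u) = x * (a * u)) (ay : ∀ u, a * (y * u) = y * (x * (a * u))) (az : ∀ u, a * (z * u) = z * (a * u))
    (aw : ∀ u, a * (w * u) = w * (a * u)) (bx : ∀ u, b * (x * u) = x * (y * (b * u))) (bY : ∀ u, b * (y * u) = y * (b * u))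
    (bz : ∀ u, b * (z * u) = z * (y * (b * u))) (bw : ∀ u, b * (w * u) = w * (b * u)) (cx : ∀ u, c * (x * u) = x * (c * u))
    (cy : ∀ u, c * (y * u) = y * (z * (c * u))) (cz : ∀ u, c * (z * u) = z * (c * u))
    (cw : ∀ u, c * (w * u) = w * (z * (c * u))) (yx : ∀ u, y * (x * u) = x * (y * u))
    (wx : ∀ u, w * (x * u) = x * (w * u)) (zy : ∀ u, z * (y * u) = y * (z * u)) (wy : ∀ u, w * (y * u) = y * (w * u))
    (wz : ∀ u, w * (z * u) = z * (w * u)) (x2 : ∀ u, x * (x * u) = u) (y2 : ∀ u, y * (y * u) = u)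
    (z2 : ∀ u, z * (z * u) = u) (w2 : ∀ u, w * (w * u) = u) : (w * (a * b * c)) ^ 4 = x * z := by
  have sq : ∀ {u : G}, u * u = 1 → ∀ x, u * (u * x) = x := fun hu x => by rw [← mul_assoc, hu, one_mul]
  have r1 : ∀ x, b * (a * (b * x)) = a * (b * (a * x)) := fun x => by
    rw [← mul_assoc, ← mul_assoc, ← ab, mul_assoc, mul_assoc]
  have r2 : ∀ x, c * (b * (c * x)) = b * (c * (b * x)) := fun x => by
    rw [← mul_assoc, ← mul_assoc, ← bc, mul_assoc, mul_assoc]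
  have r4 : ∀ x, c * (a * x) = a * (c * x) := fun x => ac.symm.left_comm x
  have r7 : ∀ x, c * (b * (a * (c * x))) = b * (c * (b * (a * x))) := fun x => by rw [← r4, r2]
  have k : ∀ u, (w * (a * b * c)) ^ 4 * u = x * (z * ((a * b * c) ^ 4 * u)) := fun u => by
    simp only [pow_succ, pow_zero, one_mul, mul_assoc, ax, ay, az, aw, bx, bY, bz, bw, cx, cy, cz, cw, yx, wx, zy, wy, wz,
      x2, y2, z2, w2]
  have k' : ∀ u, (a * b * c) ^ 4 * u = u := fun u => by
    simp only [pow_succ, pow_zero, one_mul, mul_assoc, sq a2, sq b2, sq c2, r1, r2, r4, r7]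
  simpa [k'] using k 1

/-- an element of order five which normalises a group with a central transposition -/
theorem five_inv (T : Two D) (rel : NoRel D 5) {X : Subgroup G} {g e : G} (hg : g ∈ normalizer (X : Set G)) (g5 : g ^ 5 = 1)
    (he : e ∈ D) (h1 : e ∈ X) (h2 : ∀ x ∈ X, Commute x e) : ∃ i ∈ X, i * i = 1 ∧ i ≠ 1 ∧ i * g = g * i := by
  by_cases h : e * g = g * e
  · exact ⟨e, h1, T.sq e he, T.ne e he, h⟩
  let f : ℕ → G := fun k => g ^ k * e * (g ^ k)⁻¹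
  have f1 : ∀ k, f k ∈ X := fun k => conj_of_norm (pow_mem hg k) h1
  have f2 : ∀ k, f k ∈ D := fun k => T.conj he _
  have f3 : ∀ k, ∀ x ∈ X, Commute x (f k) := fun k x hx => by
    have h3 := (h2 _ (conj_of_norm (inv_mem (pow_mem hg k)) hx)).map (MulAut.conj (g ^ k))
    rwa [MulAut.conj_apply, MulAut.conj_apply, show g ^ k * ((g ^ k)⁻¹ * x * (g ^ k)⁻¹⁻¹) * (g ^ k)⁻¹ = x by group] at h3
  have f4 : ∀ k, g * f k * g⁻¹ = f (k + 1) := fun k => by
    simp only [f, pow_succ']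
    group
  have f5 : f 5 = f 0 := by simp only [f, g5, pow_zero]
  have f6 : ∀ j k, j < k → k < 5 → f j ≠ f k := fun j k h3 h4 h5 => h (by
    have h6 : Commute (g ^ (k - j)) e := by
      have h7 : g ^ k = g ^ j * g ^ (k - j) := by rw [← pow_add, Nat.add_sub_cancel' h3.le]
      simp only [f, h7, mul_inv_rev, ← mul_assoc, mul_left_inj] at h5
      simp only [mul_assoc, mul_right_inj] at h5
      rw [← mul_assoc, eq_mul_inv_iff_mul_eq] at h5
      exact h5.symm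
    obtain ⟨m, n, h8⟩ : ∃ m n, (k - j) * m = 5 * n + 1 := by
      have : k - j = 1 ∨ k - j = 2 ∨ k - j = 3 ∨ k - j = 4 := by omega
      rcases this with e | e | e | e <;> rw [e]
      exacts [⟨1, 0, rfl⟩, ⟨3, 1, rfl⟩, ⟨2, 1, rfl⟩, ⟨4, 3, rfl⟩]
    have h9 := h6.pow_left m
    rw [← pow_mul, h8, pow_succ, pow_mul, g5, one_pow, one_mul] at h9
    exact h9.symm)
  clear_value f
  have c : ∀ j k u, f j * (f k * u) = f k * (f j * u) := fun j k u => (f3 k _ (f1 j)).left_comm u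
  have s : ∀ j u, f j * (f j * u) = u := fun j u => by rw [← mul_assoc, T.sq _ (f2 j), one_mul]
  refine ⟨f 0 * (f 1 * (f 2 * (f 3 * (f 4 * 1)))), 
    mul_mem (f1 _) (mul_mem (f1 _) (mul_mem (f1 _) (mul_mem (f1 _) (mul_mem (f1 _) (one_mem _))))), ?_, fun k => ?_, ?_⟩
  · simp only [mul_assoc, one_mul]
    rw [c 4 0, c 3 0, c 2 0, c 1 0, s, c 4 1, c 3 1, c 2 1, s, c 4 2, c 3 2, s, c 4 3, s, s]
  · refine absurd (rel [f 0, f 1, f 2, f 3, f 4] ?_ (by simp [f2]) (fun a ha b hb => ?_) k le_rfl) (by simp)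
    · simp [f6]
    · simp only [List.mem_cons, List.not_mem_nil, or_false] at ha hb
      rcases ha with rfl | rfl | rfl | rfl | rfl <;> rcases hb with rfl | rfl | rfl | rfl | rfl <;> exact f3 _ _ (f1 _)
  · refine (mul_inv_eq_iff_eq_mul.1 ?_).symm
    rw [← conj_mul, ← conj_mul, ← conj_mul, ← conj_mul, ← conj_mul, f4, f4, f4, f4, f4, f5, mul_one g, mul_inv_cancel,
      c 4 0, c 3 0, c 2 0, c 1 0]

/-- the context -/
structure Cx (D : Set G) (S : Subgroup (MulAut G)) (A Q V : Subgroup G) : Prop where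
  T : Two D
  rel : NoRel D 5
  sm : F2.Sm A
  n8 : ∀ g ∈ A, orderOf g ≠ 8
  max : ∀ (X : Subgroup G) (e : G), e ∈ X → e ≠ 1 → (∀ x ∈ X, Commute x e) → (∀ σ ∈ S, ∀ x ∈ X, σ x ∈ X) →
    normalizer (X : Set G) ≤ A
  ne : ∃ v ∈ V, v ≠ 1
  inv : ∀ σ ∈ S, ∀ v ∈ V, σ v ∈ V
  pg : IsPGroup 2 Q
  sq : ∀ v ∈ V, v * v = 1
  comm : ∀ v ∈ V, ∀ w ∈ V, Commute v w
  cent : ∀ q ∈ Q, ∀ v ∈ V, Commute q v
  core : ∀ r ∈ V, ∀ B : Subgroup G, IsPGroup 2 B → (∀ g, Commute g r → ∀ s ∈ B, g * s * g⁻¹ ∈ B) →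
    ∀ s ∈ B, s * s = 1 → (∀ q ∈ Q, Commute q s) → s ∈ V

namespace Cx

variable {S : Subgroup (MulAut G)} {A Q V : Subgroup G} (C : Cx D S A Q V)
include C

/-- no invariant clique -/
theorem no_clique {E : Set G} (h1 : E ⊆ D) (h2 : ∀ a ∈ E, ∀ b ∈ E, Commute a b) (h3 : ∀ σ ∈ S, ∀ a ∈ E, σ a ∈ E) {e : G}
    (he : e ∈ E) : False := by
  have k1 : e ∈ closure (CD D E) := subset_closure ⟨h1 he, h2 e he⟩
  have k2 : ∀ x ∈ closure (CD D E), Commute x e := closure_comm fun x hx => hx.2 e he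
  have hN := C.max _ e k1 (C.T.ne e (h1 he)) k2 (closure_inv fun σ hσ x hx => ⟨C.T.aut σ x hx.1, fun a ha => by
    have h4 := (hx.2 _ (h3 σ⁻¹ (inv_mem hσ) a ha)).map σ
    rwa [MulAut.apply_inv_self] at h4⟩)
  obtain ⟨g, hg, og⟩ := (C.sm.mono hN).five (C.T.clique E h1 ⟨e, he⟩ h2)
  obtain ⟨i, k3, k4, k5, k6⟩ := five_inv C.T C.rel hg (og ▸ pow_orderOf_eq_one g) (h1 he) k1 k2
  exact C.sm.ten (hN hg) og (hN (le_normalizer k3)) k4 k5 k6

theorem not_mem {v : G} (hv : v ∈ V) : v ∉ D := fun h =>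
  C.no_clique (E := D ∩ V) Set.inter_subset_left (fun a ha b hb => C.comm a ha.2 b hb.2)
    (fun σ hσ a ha => ⟨C.T.aut σ a ha.1, C.inv σ hσ a ha.2⟩) ⟨h, hv⟩

theorem exists_nbr {h k : G} (p : Pr D V h k) : ∃ c d, Pr D V c d ∧ ¬ Commute h c := by
  by_contra hc
  push Not at hc
  refine C.no_clique (E := {x | (∃ y, Pr D V x y) ∧ ∀ c d, Pr D V c d → Commute x c}) (fun x ⟨⟨_, q⟩, _⟩ => q.l)
    (fun a ha b ⟨⟨y, q⟩, _⟩ => ha.2 b y q) (fun σ hσ a ⟨⟨y, q⟩, ha⟩ => ⟨⟨_, q.map C.T (C.inv σ hσ)⟩, fun c d q' => ?_⟩)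
    (e := h) ⟨⟨k, p⟩, hc⟩
  have h4 := (ha _ _ (q'.map C.T (C.inv _ (inv_mem hσ)))).map σ
  rwa [MulAut.apply_inv_self] at h4

/-- the factors attached to an element of `V` -/
theorem star {r : G} (hr : r ∈ V) (h1 : r ≠ 1) : ∃ h k, Pr D V h k ∧ (∀ d ∈ D, Commute d r → Commute d h) ∧
    ∀ x y, Pr D V x y → r * (h * k) ≠ x * y := by
  obtain ⟨H, k1, k2, k3, k4, k5⟩ := C.T.invol r (C.sq r hr) h1 (C.not_mem hr)
  have hc : ∀ x ∈ closure (H : Set G), ∀ y ∈ closure (H : Set G), Commute x y := fun x hx y hy =>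
    closure_comm (fun z hz => (closure_comm (fun w hw => k2 w hw z hz) y hy).symm) x hx
  have hs : ∀ x ∈ closure (H : Set G), x * x = 1 := fun x hx => by
    induction hx using closure_induction with
    | mem x hx => exact C.T.sq x (k1 x hx)
    | one => exact mul_one 1
    | mul x y hx hy h2 h3 => rw [(hc y hy x hx).mul_mul_mul_comm, h2, h3, mul_one]
    | inv x hx h2 => rw [← mul_inv_rev, h2, inv_one]
  have key := C.core r hr (closure (H : Set G)) (isPGroup_of_pow_two fun x hx => by rw [pow_two, hs x hx])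
    fun g hg => show closure (H : Set G) ≤ (closure (H : Set G)).comap (MulAut.conj g).toMonoidHom from
      (closure_le _).2 fun x hx => subset_closure (k4 g hg x hx)
  obtain ⟨h, hh, k, hk, ⟨q, hq, l1⟩, l2⟩ := exists_orbit C.pg k3 fun q hq => k4 q (C.cent q hq r hr)
  have hne : h ≠ k := by
    rintro rfl
    exact C.not_mem (key h (subset_closure hh) (C.T.sq h (k1 h hh)) fun p hp =>
      mul_inv_eq_iff_eq_mul.1 ((l2 p hp).elim id id)) (k1 h hh)
  have hm : h * k ∈ closure (H : Set G) := mul_mem (subset_closure hh) (subset_closure hk)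
  refine ⟨h, k, ⟨k1 h hh, k1 k hk, hne, k2 h hh k hk, key _ hm (hs _ hm) fun p hp => ?_⟩,
    fun d hd l => C.T.comm_of (k1 h hh) hd (k2 _ (k4 d l h hh) h hh),
    fun x y p => mul_assoc r h k ▸ k5 h hh k hk hne x p.l y p.r p.ne p.comm⟩
  have l3 := l2 _ (mul_mem hp hq)
  rw [show p * q * h * (p * q)⁻¹ = p * (q * h * q⁻¹) * p⁻¹ by group, l1] at l3
  have l4 : p * h * p⁻¹ ≠ p * k * p⁻¹ := fun e => hne (by simpa using e)
  refine mul_inv_eq_iff_eq_mul.1 ?_
  rw [← conj_mul]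
  rcases l2 p hp with e1 | e1 <;> rcases l3 with e2 | e2
  · exact absurd (e1.trans e2.symm) l4
  · rw [e1, e2]
  · rw [e1, e2, (k2 h hh k hk).eq]
  · exact absurd (e1.trans e2.symm) l4

theorem swap {a b g : G} (p : Pr D V a b) (hg : Commute g (a * b)) : g * a * g⁻¹ = a ∨ g * a * g⁻¹ = b :=
  C.T.uniq a p.l b p.r _ (C.T.conj p.l g) _ (C.T.conj p.r g) p.ne p.comm (p.comm.map (MulAut.conj g))
    (by rw [conj_mul, hg.eq, mul_inv_cancel_right])

theorem act {a b v : G} (p : Pr D V a b) (hv : v ∈ V) (h : ¬ Commute a v) : a * v * a⁻¹ = v * (a * b) := by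
  have h1 := (C.swap p (C.comm v hv _ p.mem)).resolve_left fun k => h (mul_inv_eq_iff_eq_mul.1 k).symm
  have h2 : v⁻¹ = v := inv_eq_of_mul_eq_one_right (C.sq v hv)
  rw [h2] at h1
  rw [C.T.inv p.l, p.comm.eq, ← h1, ← mul_assoc, ← mul_assoc, ← mul_assoc, C.sq v hv, one_mul]

theorem norm {a b : G} (p : Pr D V a b) : ∀ v ∈ V, a * v * a⁻¹ ∈ V := fun v hv => by
  by_cases h : Commute a v
  · rwa [h.eq, mul_inv_cancel_right]
  · rw [C.act p hv h]
    exact mul_mem hv p.mem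

theorem both {a b v w : G} (p : Pr D V a b) (hv : v ∈ V) (hw : w ∈ V) (h1 : ¬ Commute a v) (h2 : ¬ Commute a w) :
    Commute a (v * w) := by
  refine mul_inv_eq_iff_eq_mul.1 ?_
  rw [← conj_mul, C.act p hv h1, C.act p hw h2, (C.comm _ p.mem w hw).mul_mul_mul_comm, C.sq _ p.mem, mul_one]

theorem comm_iff {a b c d : G} (p : Pr D V a b) (q : Pr D V c d) : Commute a (c * d) ↔ Commute a c := by
  refine ⟨fun h => C.T.comm_of q.l p.l ?_, fun h => h.mul_right (C.T.comm_of p.l q.r ?_).symm⟩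
  · rcases C.swap q h with k | k
    · rw [k]
    · rw [k]
      exact q.comm.symm
  · have h1 : Commute (c * d * a * (c * d)⁻¹) a := by
      rcases C.swap p (C.comm _ q.mem _ p.mem) with k | k
      · rw [k]
      · rw [k]
        exact p.comm.symm
    have h2 := h1.map (MulAut.conj c⁻¹)
    rwa [MulAut.conj_apply, MulAut.conj_apply, show c⁻¹ * (c * d * a * (c * d)⁻¹) * c⁻¹⁻¹ = d * a * d⁻¹ by group,
      ← h.inv_right.eq, mul_inv_cancel_right] at h2

theorem le_A : normalizer (V : Set G) ≤ A := by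
  obtain ⟨v, hv, h1⟩ := C.ne
  exact C.max V v hv h1 (fun x hx => C.comm x hx v hv) C.inv

theorem mem_norm {a b : G} (p : Pr D V a b) : a ∈ normalizer (V : Set G) := mem_normalizer_fintype (C.norm p)

/-- a path of length three gives an element of order eight -/
theorem path {a a' b b' c c' d d' : G} (p : Pr D V a a') (q : Pr D V b b') (r : Pr D V c c') (s : Pr D V d d')
    (ab : ¬ Commute a b) (bc : ¬ Commute b c) (cd : ¬ Commute c d) (ac : Commute a c) (ad : Commute a d)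
    (bd : Commute b d) : False := by
  have f1 : ∀ {x x' y y' : G}, Pr D V x x' → Pr D V y y' → ¬ Commute x y → ∀ u, x * (y * y' * u) = y * y' * (x * x' * (x * u)) :=
    fun {x x' y y'} p q h u => by
      have := C.act p q.mem fun k => h ((C.comm_iff p q).1 k)
      rw [← mul_assoc, ← mul_assoc (y * y'), ← mul_assoc _ x, ← this, inv_mul_cancel_right]
  have f2 : ∀ {x x' y y' : G}, Pr D V x x' → Pr D V y y' → Commute x y → ∀ u, x * (y * y' * u) = y * y' * (x * u) :=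
    fun p q h u => ((C.comm_iff p q).2 h).left_comm u
  have f3 : ∀ {x x' y y' : G}, Pr D V x x' → Pr D V y y' → ∀ u, x * x' * (y * y' * u) = y * y' * (x * x' * u) :=
    fun p q u => (C.comm _ p.mem _ q.mem).left_comm u
  have f4 : ∀ {x x' : G}, Pr D V x x' → ∀ u, x * x' * (x * x' * u) = u := fun p u => by
    rw [← mul_assoc, C.sq _ p.mem, one_mul]
  have h1 := eight (C.T.sq a p.l) (C.T.sq b q.l) (C.T.sq c r.l) (C.T.three a p.l b q.l ab) (C.T.three b q.l c r.l bc) ac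
    (f2 p p (.refl a)) (f1 p q ab) (f2 p r ac) (f2 p s ad) (f1 q p fun k => ab k.symm) (f2 q q (.refl b)) (f1 q r bc)
    (f2 q s bd) (f2 r p ac.symm) (f1 r q fun k => bc k.symm) (f2 r r (.refl c)) (f1 r s cd) (f3 q p) (f3 s p)
    (f3 r q) (f3 s q) (f3 s r) (f4 p) (f4 q) (f4 r) (f4 s)
  have h2 : a * a' ≠ c * c' := fun k => cd ((C.comm_iff s r).1 (k ▸ (C.comm_iff s p).2 ad.symm)).symm
  have : Fact (Nat.Prime 2) := ⟨Nat.prime_two⟩
  refine C.n8 _ (C.le_A (mul_mem (le_normalizer s.mem) (mul_mem (mul_mem (C.mem_norm p) (C.mem_norm q)) (C.mem_norm r))))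
    (orderOf_eq_prime_pow (p := 2) (n := 2) (fun k => h2 ?_) ?_)
  · exact mul_right_cancel ((h1.symm.trans k).trans (C.sq _ r.mem).symm)
  · rw [show 2 ^ (2 + 1) = 4 * 2 from rfl, pow_mul, h1, pow_two, C.sq _ (mul_mem p.mem r.mem)]

/-- a neighbour of `h` is a neighbour of one of two factors, and not of the other -/
theorem nbr {a b c d h k : G} (p : Pr D V a b) (q : Pr D V c d) (s : Pr D V h k)
    (hh : ∀ x ∈ D, Commute x (a * b * (c * d)) → Commute x h) :
    ∃ x y, Pr D V x y ∧ ¬ Commute h x ∧ (¬ Commute x a ∧ Commute x c ∨ Commute x a ∧ ¬ Commute x c) := by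
  obtain ⟨x, y, u, hx⟩ := C.exists_nbr s
  have h1 : ¬ Commute x (a * b * (c * d)) := fun h => hx (hh x u.l h).symm
  refine ⟨x, y, u, hx, ?_⟩
  rw [← C.comm_iff u p, ← C.comm_iff u q]
  by_cases k1 : Commute x (a * b) <;> by_cases k2 : Commute x (c * d)
  · exact absurd (k1.mul_right k2) h1
  · exact Or.inr ⟨k1, k2⟩
  · exact Or.inl ⟨k1, k2⟩
  · exact absurd (C.both u p.mem q.mem k1 k2) h1

theorem ne_one {v w : G} (hw : w ∈ V) (h : v ≠ w) : v * w ≠ 1 := fun k =>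
  h (mul_right_cancel (k.trans (C.sq w hw).symm))

/-- paths of length two -/
theorem two {a b c d e f : G} (p : Pr D V a b) (q : Pr D V c d) (s : Pr D V e f) (h1 : ¬ Commute a e) (h2 : ¬ Commute e c)
    (h3 : Commute a c) : a * b = c * d := by
  by_contra hne
  obtain ⟨h, k, u, k1, -⟩ := C.star (mul_mem p.mem q.mem) (C.ne_one q.mem hne)
  have l1 := k1 a p.l (((Commute.refl a).mul_right p.comm).mul_right ((C.comm_iff p q).2 h3))
  have l2 := k1 c q.l (((C.comm_iff q p).2 h3.symm).mul_right ((Commute.refl c).mul_right q.comm))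
  have l3 := k1 e s.l (C.both s p.mem q.mem (fun k => h1 ((C.comm_iff s p).1 k).symm) fun k => h2 ((C.comm_iff s q).1 k))
  have key : ∀ {a b c d x y : G}, Pr D V a b → Pr D V c d → Pr D V x y → ¬ Commute a e → ¬ Commute e c → Commute a h →
      Commute c h → ¬ Commute h x → ¬ Commute x c → Commute x a → False := by
    intro a b c d x y p q w h1 h2 l1 l2 m1 m2 m3
    by_cases m4 : Commute x e
    · exact C.path u w q s m1 m2 (fun k => h2 k.symm) l2.symm l3.symm m4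
    · exact C.path p s w u h1 (fun k => m4 k.symm) (fun k => m1 k.symm) m3.symm l1 l3
  obtain ⟨x, y, w, m1, ⟨m2, m3⟩ | ⟨m2, m3⟩⟩ := C.nbr p q u k1
  · exact key q p w (fun k => h2 k.symm) (fun k => h1 k.symm) l2 l1 m1 m2 m3
  · exact key p q w h1 h2 l1 l2 m1 m3 m2

/-- commuting factors -/
theorem eq_of_comm {a b c d : G} (p : Pr D V a b) (q : Pr D V c d) (h3 : Commute a c) : a * b = c * d := by
  by_contra hne
  obtain ⟨h, k, u, k1, k2⟩ := C.star (mul_mem p.mem q.mem) (C.ne_one q.mem hne)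
  have l1 := k1 a p.l (((Commute.refl a).mul_right p.comm).mul_right ((C.comm_iff p q).2 h3))
  have l2 := k1 c q.l (((C.comm_iff q p).2 h3.symm).mul_right ((Commute.refl c).mul_right q.comm))
  obtain ⟨x, y, w, m1, ⟨m2, -⟩ | ⟨-, m3⟩⟩ := C.nbr p q u k1
  · refine k2 c d q ?_
    rw [← C.two p u w (fun k => m2 k.symm) (fun k => m1 k.symm) l1, (C.comm _ p.mem _ q.mem).eq, mul_assoc (c * d),
      C.sq _ p.mem, mul_one]
  · refine k2 a b p ?_
    rw [← C.two q u w (fun k => m3 k.symm) (fun k => m1 k.symm) l2, mul_assoc (a * b), C.sq _ q.mem, mul_one]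

theorem no : False := by
  obtain ⟨v, hv, h1⟩ := C.ne
  obtain ⟨a, b, p, -⟩ := C.star hv h1
  obtain ⟨c, d, q, hac⟩ := C.exists_nbr p
  have h2 : ¬ Commute c (a * b) := fun k => hac ((C.comm_iff q p).1 k).symm
  have s : Pr D V (c * a * c⁻¹) (c * b * c⁻¹) := p.map C.T (σ := MulAut.conj c) (C.norm q)
  have hs : c * a * c⁻¹ * (c * b * c⁻¹) = a * b * (c * d) := by rw [conj_mul, C.act q p.mem h2]
  have h3 : ∀ x y, Pr D V x y → x * y = a * b ∨ x * y = c * d ∨ x * y = a * b * (c * d) := fun x y w => by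
    by_cases k1 : Commute x (a * b)
    · exact Or.inl (C.eq_of_comm w p ((C.comm_iff w p).1 k1))
    by_cases k2 : Commute x (c * d)
    · exact Or.inr (Or.inl (C.eq_of_comm w q ((C.comm_iff w q).1 k2)))
    · exact Or.inr (Or.inr (hs ▸ C.eq_of_comm w s ((C.comm_iff w s).1 (hs ▸ C.both w p.mem q.mem k1 k2))))
  have h5 : a * b ≠ 1 := fun k => p.ne (by rw [← C.T.inv p.r, ← mul_eq_one_iff_eq_inv, k])
  have h4 := C.max (closure {t | ∃ x y, Pr D V x y ∧ t = x * y}) (a * b) (subset_closure ⟨a, b, p, rfl⟩) h5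
    (closure_comm fun t ⟨x, y, w, e⟩ => e ▸ C.comm _ w.mem _ p.mem)
    (closure_inv fun σ hσ t ⟨x, y, w, e⟩ => ⟨_, _, w.map C.T (C.inv σ hσ), e ▸ map_mul σ x y⟩)
  refine C.T.tri a p.l c q.l b p.r p.ne p.comm hac
    (fun k => hac ((C.comm_iff p q).1 ?_)) (solv_le (fun g hg => ?_)
      (C.sm.cent (C.le_A (le_normalizer p.mem)) (C.sq _ p.mem) h5))
  · have k1 := ((C.comm_iff p.symm q).2 k).mul_left (C.comm _ p.symm.mem _ q.mem)
    rwa [← mul_assoc, C.T.sq b p.r, one_mul] at k1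
  · have k1 : Commute a g := mem_centralizer_iff.1 hg a (by simp)
    have k2 : Commute c g := mem_centralizer_iff.1 hg c (by simp)
    have k3 : Commute b g := mem_centralizer_iff.1 hg b (by simp)
    have k4 := k1.mul_left k3
    have k5 : Commute d g := by
      rw [← (C.swap q (C.comm _ p.mem _ q.mem)).resolve_left fun k => h2 (mul_inv_eq_iff_eq_mul.1 k).symm]
      exact (k4.mul_left k2).mul_left k4.inv_left
    refine ⟨h4 (mem_normalizer_fintype fun t ht => ?_), mem_centralizer_singleton_iff.2 k4.symm⟩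
    have k6 : Commute t g := closure_comm (E := {t | ∃ x y, Pr D V x y ∧ t = x * y}) (fun t ⟨x, y, w, e⟩ => by
      rcases h3 x y w with l | l | l <;> rw [e, l]
      exacts [k4, k2.mul_left k5, k4.mul_left (k2.mul_left k5)]) t ht
    rwa [← k6.eq, mul_inv_cancel_right]

end Cx

/-- **`O₂(A) = 1`.** -/
theorem two {K : Type} [Group K] [Finite K] [IsSimpleGroup K] {D : Set K} {A : Subgroup K} {Γ : Subgroup (MulAut K)}
    (T : Two D) (rel : NoRel D 5) (h : MI A Γ) (hA : F2.Sm A) (h8 : ∀ g ∈ A, orderOf g ≠ 8) : pCore 2 A = ⊥ := by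
  by_contra h0
  have hmax : ∀ (X : Subgroup K) (e : K), e ∈ X → e ≠ 1 → (∀ x ∈ X, Commute x e) → (∀ σ ∈ Γ, ∀ x ∈ X, σ x ∈ X) →
      normalizer (X : Set K) ≤ A := by
    intro X e k1 k2 k3 k4
    refine (mi_norm h k4 (fun k => k2 (mem_bot.1 (k ▸ k1))) fun k => ?_).le
    have k5 : e ∈ center K := mem_center_iff.2 fun x => k3 x (k ▸ mem_top x)
    rcases (inferInstance : (center K).Normal).eq_bot_or_eq_top with k6 | k6
    · exact k2 (mem_bot.1 (k6 ▸ k5))
    · exact (Normal.eq_bot_or_eq_top (H := A) ⟨fun n hn g => by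
        rwa [(mem_center_iff.1 (k6 ▸ mem_top n) g), mul_inv_cancel_right]⟩).elim h.ne_bot h.ne_top
  have hQ : ∀ σ ∈ Γ, ∀ q ∈ pCoreOf 2 A, σ q ∈ pCoreOf 2 A := inv_core h 2
  have hV : ∀ σ ∈ Γ, ∀ v ∈ omegaCenterOf (pCoreOf 2 A), σ v ∈ omegaCenterOf (pCoreOf 2 A) := fun σ hσ v hv => by
    obtain ⟨k1, k2, k3⟩ := mem_omegaCenterOf.1 hv
    refine mem_omegaCenterOf.2 ⟨hQ σ hσ v k1, mem_cent.2 fun x hx => ?_, by rw [← map_pow, k3, map_one]⟩
    have k4 := congrArg σ (mem_cent.1 k2 _ (hQ _ (inv_mem hσ) x hx))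
    simpa using k4
  have hne : pCoreOf 2 A ≠ ⊥ := fun e => h0 ((map_eq_bot_iff_of_injective _ A.subtype_injective).1 e)
  obtain ⟨⟨v, hv⟩, hv1⟩ := ne_bot_iff_exists_ne_one.1 (omegaCenterOf_ne_bot (pCoreOf_isPGroup A) hne)
  have hv2 : v ≠ 1 := fun k => hv1 (Subtype.ext k)
  have hcent : ∀ q ∈ pCoreOf 2 A, ∀ v ∈ omegaCenterOf (pCoreOf 2 A), Commute q v := fun q hq v hv =>
    (mem_cent.1 (mem_omegaCenterOf.1 hv).2.1 q hq).symm
  have hcomm : ∀ v ∈ omegaCenterOf (pCoreOf 2 A), ∀ w ∈ omegaCenterOf (pCoreOf 2 A), Commute v w := fun v hv =>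
    hcent v (mem_omegaCenterOf.1 hv).1
  refine Cx.no (D := D) (S := Γ) (Q := pCoreOf 2 A) (V := omegaCenterOf (pCoreOf 2 A)) ⟨T, rel, hA, h8, hmax,
    ⟨v, hv, hv2⟩, hV, pCoreOf_isPGroup A, fun v hv => by rw [← pow_two, (mem_omegaCenterOf.1 hv).2.2], hcomm, hcent,
    fun r hr B k1 k2 s k3 k4 k5 => ?_⟩
  have k6 : s ∈ centralizer (pCoreOf 2 A : Set K) := mem_cent.2 fun q hq => (k5 q hq).symm
  have k7 : centralizer (pCoreOf 2 A : Set K) ≤ A := cent_core_le h h0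
  refine mem_omegaCenterOf.2 ⟨pCoreOf_mono_of_normal k7 ((le_normalizer_pCoreOf A).trans norm_cent)
    (le_pCoreOf (U := B ⊓ centralizer (pCoreOf 2 A : Set K)) k1.to_inf_left inf_le_right (norm_of fun g hg x hx =>
      ⟨k2 g (mem_cent.1 hg r (mem_omegaCenterOf.1 hr).1) x hx.1,
        Subgroup.mul_mem _ (Subgroup.mul_mem _ hg hx.2) (Subgroup.inv_mem _ hg)⟩) ⟨k3, k6⟩), k6, by rw [pow_two, k4]⟩

open D22 in
theorem d22 : ∃ D : Set Spor.Fi22, Two D ∧ NoRel D 5 := by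
  have K := OddHalf.D8.Fi22.kTrans0
  have hT := R01.Fi22Facts.isThreeTranspositionClass_T.1
  have := model.finite
  refine ⟨R01.Fi22Facts.T, ⟨K.sq, K.ne1, K.aut, fun a ha b hb h => (K.three a ha b hb).resolve_left h,
    fun a ha b hb c hc d hd => K.uniq a ha b hb c hc d hd,
    invol inv0 hT (H831.Short.noRel_six hT H830.Con22.isT6), fun E hD hne hc => ?_,
    fun a ha b hb c hc n h1 h2 h3 => tri model K ha hb hc n h1 h2 h3⟩, H831.Short.noRel_six hT H830.Con22.isT6⟩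
  obtain ⟨u, v, h1, h2, h3⟩ := gd model K hD hne hc
  exact h1.not_solv h2.norm h3.norm

open D23 Cfsg.Agent.H837.Base23 in
theorem d23 : ∃ D : Set Spor.Fi23, Two D ∧ NoRel D 5 :=
  ⟨R08.FiTwentyThree.D,
    { sq := fun _ => sq_of
      ne := fun _ => ne_one_of
      aut := fun σ a ha => by
        obtain ⟨g, rfl⟩ := KFacts.FiTTh.Has.inn σ
        exact isConj_conj ha g
      three := fun _ ha _ hb => braid_of ha hb
      uniq := fun a ha b hb c hc d hd hne h1 h2 e => by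
        have h3 : c ≠ d := by
          rintro rfl
          exact hne ((eq_inv_of_mul_eq_one_left (e.trans (sq_of hc))).trans (inv_of hb))
        simpa using (uq (good2 ha hb hne h1) (good2 hc hd h3 h2) (by simp) (by simp) (by simpa using e) c).2 (by simp)
      invol := invol
      clique := fun E hE _ => clique E hE
      tri := tri }, (H831.Short.noRel_seven tt H830.Con23.isT7).mono (by norm_num)⟩

/-- transport -/
theorem two_of {K L : Type} [Group K] [Finite K] [IsSimpleGroup K] [Group L] (e : K ≃* L)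
    (hL : ∃ D : Set L, Two D ∧ NoRel D 5) {A : Subgroup K} {Γ : Subgroup (MulAut K)} (h : MI A Γ) (hA : F2.Sm A)
    (h8 : ∀ g ∈ A, orderOf g ≠ 8) : pCore 2 A = ⊥ := by
  obtain ⟨D, T, rel⟩ := hL
  have : Finite L := Finite.of_equiv K e.toEquiv
  have : IsSimpleGroup L := e.symm.isSimpleGroup
  have k : ∀ g ∈ A.comap e.symm.toMonoidHom, ∃ a ∈ A, orderOf g = orderOf a := fun g hg =>
    ⟨_, hg, (orderOf_injective e.symm.toMonoidHom e.symm.injective g).symm⟩
  have h1 := two T rel (mi_comap e.symm h) (fun g hg => by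
    obtain ⟨a, ha, k⟩ := k g hg
    exact k ▸ hA a ha) fun g hg => by
    obtain ⟨a, ha, k⟩ := k g hg
    exact k ▸ h8 a ha
  have h2 := Lib.Cores.map_equiv_pCore (e.subgroupMap A) 2
  rw [← map_equiv_eq_comap_symm'] at h1
  exact (map_eq_bot_iff_of_injective _ (e.subgroupMap A).injective).1 (h2.trans h1)

end Cfsg.Agent.N2.Sp4.FT
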