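import Cfsg.Agent.N2.Sp4.FS
import Cfsg.Agent.N2.Sp4.FT
import Cfsg.Agent.N2.Sp.GFi22
import Cfsg.Agent.N2.Sp.GFi23

/-!
# S3519: the local subgroups of `Fi23` and `Fi22` (helper15)
-/

set_option autoImplicit false
set_option maxRecDepth 100000

namespace Cfsg.Agent.N2.Sp4

open Subgroup Cfsg Cfsg.Agent.FP3 Cfsg.Agent.N2.Sp Cfsg.Agent.N2.Sp4T
open Cfsg.Agent.TAB.Eng Cfsg.Agent.TAB.Use Cfsg.Agent.SB.SporL Cfsg.Agent.TH.Spor

variable {K : Type} [Group K] [Finite K] [IsSimpleGroup K] {A : Subgroup K} {Γ : Subgroup (MulAut K)}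

/-- the common part -/
theorem loc_F {D : Dat} {T : TD K D} {R : Rows} {ν : List ℕ} {S : List ℕ} {O : Sp.Out} {U : ℕ} (H : Hy T R ν) (hu : Unif T)
    (h : MI A Γ) (hi : okIdx R = true) (hr : Res T A O U) (hS : Sup T A S)
    (h1 : ∀ s ∈ S, D.ord s ≤ 6 ∨ D.ord s = 9 ∨ D.ord s = 12) (c₀ : ℤ) (c : List (ℤ × ℕ)) {m n : ℕ}
    (h2 : ∀ s ∈ S, (D.ord s).Coprime 10 → cv R c₀ c s = 0) (h3 : cv R c₀ c 0 = (3 ^ m : ℕ)) (h4 : D.N = 5 ^ (1 + 1) * n)
    (h5 : ¬ 5 ∣ n) (h6 : ∀ s ∈ al O (5 ^ (1 + 1) * 5 ^ (1 + 1)), D.ord s ≠ 5)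
    (two : F2.Sm A → (∀ g ∈ A, orderOf g ≠ 8) → pCore 2 A = ⊥)
    (three : pCore 3 A ≠ ⊥ → pCore 2 A = ⊥ → (∀ a ∈ A, ∀ r : ℕ, r.Prime → 5 ≤ r → orderOf a ≠ 3 * r) →
      (∀ Y ≤ A, IsPGroup 3 Y → Nat.card Y ≤ 3 ^ m) → (∀ a ∈ A, (orderOf a).Prime → orderOf a ≤ 5) → False)
    {p : ℕ} (hp : p.Prime) : pCore p A = ⊥ := by
  have ho : ∀ a ∈ A, orderOf a ≤ 6 ∨ orderOf a = 9 ∨ orderOf a = 12 := fun a ha =>
    ord_of H hS (P := fun n => n ≤ 6 ∨ n = 9 ∨ n = 12) (by decide) h1 ha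
  have hq : ∀ a ∈ A, (orderOf a).Prime → orderOf a ≤ 5 := fun a ha k => by
    rcases ho a ha with e | e | e
    · have : orderOf a ≠ 6 := fun e => absurd (e ▸ k) (by norm_num)
      omega
    all_goals exact absurd (e ▸ k) (by norm_num)
  have k2 := two (fun a ha => ⟨by have := ho a ha; omega, hq a ha⟩) fun a ha => by have := ho a ha; omega
  by_contra h0
  obtain ⟨a, ha, oa⟩ := exists_of_core hp h0
  have k3 := hq a ha (oa ▸ hp)
  rw [oa] at k3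
  obtain rfl | rfl | rfl : p = 2 ∨ p = 3 ∨ p = 5 := by
    revert hp
    clear * - k3
    interval_cases p <;> decide
  · exact h0 k2
  · refine three h0 k2 (fun a ha r _ hr e => ?_) (fun Y k4 k5 => Nat.le_of_dvd (by positivity)
      (card_dvd' H hi c₀ c (fun y hy k6 => ?_) h3)) hq
    · have := ho a ha
      omega
    · obtain ⟨j, hj⟩ := IsPGroup.iff_orderOf.1 k5 ⟨y, hy⟩
      obtain ⟨k7, k8⟩ := mem_of' H hS (k4 hy) ((orderOf_mk y hy).symm.trans hj) fun e =>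
        k6 (orderOf_eq_one_iff.1 ((orderOf_mk y hy).symm.trans (hj.trans e)))
      exact h2 _ k7 (k8 ▸ Nat.Coprime.pow_left j (by decide))
  · obtain ⟨e, k4, k5, -, k7⟩ := five H.mass hu h (F := 1) hp h0 (fun a ha r hr e => by
      have := ho a ha
      have := hr.two_le
      omega) h4 h5
    obtain ⟨k8, k9⟩ := mem_of' H (sup_al hr k7) k4 k5 (by decide)
    exact h6 _ k8 k9

open Cfsg.Agent.N2.Sp.Fi22 in
/-- **`Fi22`: a bad subgroup is not local** -/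
theorem loc_F22 (hK : Spor.IsoFi22 K) {T : TD K D} (H : Hy T R nu) (hu : Unif T) (h : MI A Γ) (hb : ¬ Good A) {p : ℕ}
    (hp : p.Prime) : pCore p A = ⊥ :=
  loc_F H hu h (by decide +kernel) (res H hb h.ne_top) (sup H hb h.ne_top).2 (by decide +kernel) (-10)
    [(-3, 1), (1, 3), (1, 4)] (m := 7) (n := D.N / 5 ^ 2) (by decide +kernel) (by decide +kernel) (by decide +kernel)
    (by decide +kernel) (by decide +kernel) (hK.elim fun e => FT.two_of e FT.d22 h)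
    (fun k1 k2 k3 k4 _ => FR.three_F22 hK h k1 k2 k3 (H.mass.1.trans (by decide +kernel)) k4) hp

open Cfsg.Agent.N2.Sp.Fi23 in
/-- **`Fi23`: a bad subgroup is not local** -/
theorem loc_F23 (hK : Spor.IsoFi23 K) {T : TD K D} (H : Hy T R nu) (hu : Unif T) (h : MI A Γ) (hb : ¬ Good A) {p : ℕ}
    (hp : p.Prime) : pCore p A = ⊥ :=
  loc_F H hu h (by decide +kernel) (res H hb h.ne_top) (sup H hb h.ne_top).2 (by decide +kernel) (-22)
    [(3, 1), (-5, 2), (-2, 3), (-1, 4), (2, 6), (1, 7)] (m := 11) (n := D.N / 5 ^ 2) (by decide +kernel) (by decide +kernel)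
    (by decide +kernel) (by decide +kernel) (by decide +kernel) (hK.elim fun e => FT.two_of e FT.d23 h)
    (fun k1 k2 k3 k4 => FR.three_F23 hK h k1 k2 k3 (H.mass.1.trans (by decide +kernel)) k4) hp

end Cfsg.Agent.N2.Sp4
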