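import Cfsg.Agent.N2.Sp4.F2A
import Cfsg.Agent.N2.Sp4.F3
import Cfsg.Agent.SB.SporB.RowF24

/-!
# S3519: the 2-local case in `Fi24'` (helper15)
-/

set_option autoImplicit false
set_option maxRecDepth 100000
set_option linter.unusedSectionVars false

namespace Cfsg.Agent.N2.Sp4.F2

open Subgroup Cfsg Cfsg.Agent.H786.FC Cfsg.Agent.SB Cfsg.Agent.SB.SporB
open Cfsg.Agent.R2.M7 Cfsg.Agent.R2.M7.Geo

section

open Cfsg.Agent.MonsterU.Lam2 (L2)
open Cfsg.Agent.R2.H4.Mon.Frm Cfsg.Agent.R2.H4.Mon.GeoInst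
open Cfsg.Spor (Co1)

theorem ext3_of {G : Type*} [Group G] [Finite G] {Q : Subgroup G} {z : G} {eta : G → L2}
    {pi : centralizer ({z} : Set G) →* Co1} {y τ : G} (o : golayCode) (F : Fr Q z eta pi y τ) : Ext3 (geo F.ch o) := by
  intro x hx v hv h hne
  obtain ⟨eta', pi', τ', F'⟩ := F.at_pair hx hv h hne
  have h1 : (geo F.ch o).QQ x ⊓ (geo F.ch o).QQ v = MonsterU.AmalGen.EE F'.ch := by
    ext q
    have h2 := F'.QQ_y
    rw [QQ_base' F.ch.large hx hv] at h2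
    rw [MonsterU.AmalInf.mem_EE_iff F'.ch F'.hyQ F'.hy F'.τz F'.τy, ← h2]
    rfl
  rw [h1, H848.NormFour.card_pre, MonsterU.CoFrameIrr.card_W12]
  rfl

theorem exists_ext3 : ∃ Γ : Geo MG, Ext Γ ∧ Ext2 Γ ∧ Ext3 Γ := by
  have : Finite MG := Nat.finite_of_card_ne_zero (by rw [card_MG]; norm_num)
  obtain ⟨eta, pi, y, τ, o, ho, F, hE, E⟩ := exists_frame
  exact ⟨_, E, ext2_of ho F hE E, ext3_of o F⟩

end

variable {G F : Type*} [Group G] [Group F] [Finite G] [Finite F] {Γ : Geo G} {y : G} {N : Subgroup G} {ψ : N →* F}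
  {D : Set F} {d₀ : F}

theorem ord_eq {T : Subgroup F} (C : Cov y N ψ T) (n : N) (h : Nat.Coprime (orderOf (n : G)) 3) :
    orderOf (ψ n) = orderOf (n : G) := by
  refine Nat.dvd_antisymm (orderOf_coe n ▸ orderOf_map_dvd ψ n) (h.dvd_of_dvd_mul_right (orderOf_dvd_of_pow_eq_one ?_))
  rw [pow_mul]
  exact (C.zp ((C.ker (n ^ orderOf (ψ n))).1 (by rw [map_pow, pow_orderOf_eq_one]))).1

theorem sm_pre {T : Subgroup F} (C : Cov y N ψ T) {B : Subgroup F} (h : Sm B) : Sm ((B.comap ψ).map N.subtype) := by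
  rintro _ ⟨n, hn, rfl⟩
  have h1 := h _ hn
  have h2 := ord_eq C n
  rw [coe_subtype]
  refine ⟨fun e => h1.1 ((h2 (by rw [e]; norm_num)).trans e), fun hp => ?_⟩
  by_cases h3 : orderOf (n : G) = 3
  · omega
  · rw [h2 ((Nat.coprime_primes hp Nat.prime_three).2 h3)] at h1
    exact h1.2 hp

theorem ctx (C : Cov y N ψ (commutator F)) (E : Ext Γ) (K : FiC D d₀) (hT : AS (commutator F))
    (h13 : 13 ∣ Nat.card ↥(commutator F)) {S : Subgroup F} (hS : Sm (S ⊓ commutator F)) (hm : MaxInv (commutator F) S) :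
    CtxS Γ y ((S.comap ψ).map N.subtype) := by
  have hy : y ∈ (S.comap ψ).map N.subtype :=
    ⟨⟨y, C.cent y rfl⟩, by rw [SetLike.mem_coe, mem_comap, (C.ker _).2 (mem_zpowers y)]; exact one_mem _, rfl⟩
  have hne : ∀ t : N, t * t = 1 → (t : G) ≠ 1 → ψ t ≠ 1 := fun t k1 k2 k3 =>
    k2 (congrArg Subtype.val (C.uniq (k3 ▸ one_mem _) k1 (mul_one 1) (by rw [k3, map_one])))
  have h2 : ∀ t : N, IsA Γ (t : G) → (t : G) * y = y * t → Pm D 2 (ψ t) := fun t k1 k2 =>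
    (K.types ((C.pre t).2 k2) (by rw [← map_mul, show t * t = 1 from Subtype.ext k1.1, map_one])
      (hne t (Subtype.ext k1.1) k1.2.1)).resolve_right (C.notA E K k1)
  refine ⟨C.y3, hy, ?_, fun U hU => ?_, fun U hU k1 k2 => ?_, ?_, fun t k1 k2 k3 H hH => ?_,
    fun t d k1 k2 k3 k4 k5 k6 H hH => ?_⟩
  · rintro _ ⟨s, -, rfl⟩ g hg
    refine (C.pre (s * ⟨g, C.cent g hg⟩ * s⁻¹)).1 ?_
    rw [map_mul, map_mul, map_inv]
    exact hT.normal.conj_mem _ ((C.pre _).2 hg) _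
  · have h1 := SB.SporB.norm_of hU
    have h3 : ∀ n : N, ψ n ∈ ((normalizer (U : Set G)).subgroupOf N).map ψ → (n : G) ∈ normalizer (U : Set G) := by
      rintro n ⟨m, k1, k2⟩
      have k3 := zpowers_le.2 (h1 hy) ((C.ker (m⁻¹ * n)).1 (by rw [map_mul, map_inv, k2, inv_mul_cancel]))
      exact (mul_mem_cancel_left (inv_mem k1)).1 k3
    by_cases h : commutator F ≤ ((normalizer (U : Set G)).subgroupOf N).map ψ
    · refine Or.inl fun g hg => ?_
      have k := mem_centralizer_singleton_iff.1 hg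
      exact h3 ⟨g, C.cent g k⟩ (h ((C.pre _).2 k))
    · refine Or.inr ((sm_pre C hS).mono fun g hg => ?_)
      have k := mem_centralizer_singleton_iff.1 hg.2
      refine ⟨⟨g, C.cent g k⟩, ⟨hm.inf_le hT.normal (fun s hs => ?_) h ⟨⟨⟨g, C.cent g k⟩, hg.1, rfl⟩, (C.pre _).2 k⟩,
        (C.pre _).2 k⟩, rfl⟩
      obtain ⟨n, rfl⟩ := C.surj s
      exact ⟨n, h1 ⟨n, hs, rfl⟩, rfl⟩
  · have _ : Fact (Nat.Prime 2) := ⟨Nat.prime_two⟩
    have h1 := (hT.eq_bot_or_le (X := (U.subgroupOf N).map ψ) ?_).resolve_right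
      (AS.not_le_of_pgroup hT ((hU.comap_of_injective N.subtype Subtype.val_injective).map ψ))
    · refine (eq_bot_iff_forall _).2 fun u hu => ?_
      have k := mem_centralizer_singleton_iff.1 (k1 hu)
      have h3 := (C.zp ((C.ker ⟨u, C.cent u k⟩).1 (mem_bot.1 (h1 ▸ mem_map_of_mem ψ hu)))).1
      obtain ⟨m, h4⟩ := hU ⟨u, hu⟩
      exact (pow_eq_one_iff_of_coprime (Nat.Coprime.pow_right m (by norm_num : Nat.Coprime 3 2))).1 ⟨h3, congrArg Subtype.val h4⟩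
    · rintro f hf _ ⟨u, hu, rfl⟩
      obtain ⟨n, rfl⟩ := C.surj f
      exact ⟨n * u * n⁻¹, conj_of_norm (X := U) (k2 (mem_centralizer_singleton_iff.2 ((C.pre n).1 hf))) hu, by simp⟩
  · have h1 : commutator F = ((centralizer ({y} : Set G)).subgroupOf N).map ψ := by
      ext f
      obtain ⟨n, rfl⟩ := C.surj f
      refine ⟨fun h => ⟨n, mem_centralizer_singleton_iff.2 ((C.pre n).1 h), rfl⟩, ?_⟩
      rintro ⟨m, k1, k2⟩
      exact k2 ▸ (C.pre m).2 (mem_centralizer_singleton_iff.1 k1)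
    rw [h1] at h13
    refine (h13.trans (card_map_dvd _ _)).trans ?_
    rw [Nat.card_congr (subgroupOfEquivOfLe fun g hg => C.cent g (mem_centralizer_singleton_iff.1 hg)).toEquiv]
  · obtain ⟨t, rfl⟩ : ∃ n : N, (n : G) = t := ⟨⟨t, C.cent t k3⟩, rfl⟩
    have k4 : t * t = 1 := Subtype.ext k1
    refine fun hs => K.cent ((C.pre t).2 k3) (by rw [← map_mul, k4, map_one]) (hne t k4 k2)
      (solv_le (fun f hf => ?_) (Cov.img (ψ := ψ) hs))
    obtain ⟨n, rfl⟩ := C.surj f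
    exact ⟨n, hH n ((C.pre n).1 hf.1)
      (congrArg Subtype.val (C.comm ((C.pre t).2 k3) k4 (mem_centralizer_singleton_iff.1 hf.2))), rfl⟩
  · obtain ⟨t, rfl⟩ : ∃ n : N, (n : G) = t := ⟨⟨t, C.cent t k5⟩, rfl⟩
    obtain ⟨d, rfl⟩ : ∃ n : N, (n : G) = d := ⟨⟨d, C.cent d k6⟩, rfl⟩
    have t2 : t * t = 1 := Subtype.ext k1.1
    have d2 : d * d = 1 := Subtype.ext k2.1
    have ht := (C.pre t).2 k5
    have hd := (C.pre d).2 k6
    intro hs
    refine K.four (h2 t k1 k5) (h2 d k2 k6) (fun h => C.notA E K (t := t * d) k3 (by rwa [map_mul]))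
      (by rw [← map_mul, show t * d = d * t from Subtype.ext k4, map_mul])
      (fun h => k3.2.1 (by rw [C.uniq hd d2 t2 h]; exact k1.1)) (H := (H.subgroupOf N).map ψ) (fun g l1 l2 l3 => ?_)
      (Cov.img hs)
    obtain ⟨n, rfl⟩ := C.surj g
    have l4 : n * d * n⁻¹ * (n * d * n⁻¹) = 1 := by rw [conj_mul, d2, mul_one, mul_inv_cancel]
    refine ⟨n, hH n ((C.pre n).1 l1) (congrArg Subtype.val (C.comm ht t2 l2)) (l3.imp (fun l => ?_) fun l => ?_), rfl⟩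
    · exact (congrArg Subtype.val (C.uniq hd d2 l4 (by rw [map_mul, map_mul, map_inv, l]))).symm
    · exact (congrArg Subtype.val (C.uniq (a := t * d) (by rw [map_mul]; exact mul_mem ht hd) (Subtype.ext k3.1) l4
        (by rw [map_mul, map_mul, map_mul, map_inv, l]))).symm

theorem no (C : Cov y N ψ (commutator F)) (E : Ext Γ) (E2 : Ext2 Γ) (E3 : Ext3 Γ) (K : FiC D d₀) (hT : AS (commutator F))
    (h13 : 13 ∣ Nat.card ↥(commutator F)) {S : Subgroup F} (hS : Sm (S ⊓ commutator F)) (hm : MaxInv (commutator F) S) :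
    NPar 2 (commutator F) S := by
  intro X h1 h2 h3
  have _ : Fact (Nat.Prime 2) := ⟨Nat.prime_two⟩
  obtain ⟨Y, k1, k2, k3⟩ := H906.exists_lift 2 (τ := ψ.subgroupComap (commutator F))
    (ψ.subgroupComap_surjective_of_surjective _ C.surj)
    (fun k hk g => Subtype.ext (Subtype.ext ((C.zp ((C.ker k).1 (congrArg Subtype.val hk))).2 _ ((C.pre g).1 g.2)))) (d := 3)
    (fun k hk => Subtype.ext (Subtype.ext (C.zp ((C.ker k).1 (congrArg Subtype.val hk))).1)) (by norm_num)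
    (X.subgroupOf _) (h2.comap_of_injective _ Subtype.val_injective)
  by_contra h0
  refine (ctx C E K hT h13 hS hm).no E E2 E3 (X := Y.map (N.subtype.comp (Subgroup.subtype _))) (fun h => h0 ?_) (k3.map _)
    ?_ ?_
  · refine (eq_bot_iff_forall _).2 fun u hu => ?_
    obtain ⟨v, l1, l2⟩ := k2 ⟨u, (h1 hu).2⟩ hu
    have l3 : ((v : N) : G) = 1 := mem_bot.1 (h ▸ mem_map_of_mem _ l1)
    have l4 : ψ v = u := congrArg Subtype.val l2
    rw [← l4, show (v : N) = 1 from Subtype.ext l3, map_one]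
  · rintro _ ⟨v, -, rfl⟩
    exact mem_centralizer_singleton_iff.2 ((C.pre v).1 v.2)
  · rintro _ ⟨s, hs, rfl⟩ _ ⟨v, hv, rfl⟩
    obtain ⟨l1, m, l2⟩ := (k1 v).1 hv
    have l3 : ψ (s * v * s⁻¹) = ψ s * ψ v * (ψ s)⁻¹ := by rw [map_mul, map_mul, map_inv]
    refine ⟨⟨s * v * s⁻¹, mem_comap.2 (l3 ▸ hT.normal.conj_mem _ v.2 _)⟩, (k1 _).2 ⟨?_, m, Subtype.ext ?_⟩, rfl⟩
    · exact mem_subgroupOf.2 (show ψ (s * v * s⁻¹) ∈ X from l3 ▸ h3 _ hs _ l1)
    · show (s * v * s⁻¹) ^ 2 ^ m = 1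
      rw [conj_pow, show (v : N) ^ 2 ^ m = 1 from congrArg Subtype.val l2, mul_one, mul_inv_cancel]

theorem npar {S : Subgroup Spor.Fi24} (hS : Sm (S ⊓ commutator Spor.Fi24)) (hm : MaxInv (commutator Spor.Fi24) S) :
    NPar 2 (commutator Spor.Fi24) S := by
  have := Cfsg.Agent.R2.H4.Mon.MonFr.finite_model
  have := R08.FiTwentyFour.finite_Fi24
  obtain ⟨x, t, π, D⟩ := H849.FiModel.exists_data
  obtain ⟨N, ψ, C⟩ := exists_cov D F24.as24 R08.FiTwentyFour.index_commutator H830.MonData.center_commutator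
    KFacts.FiTF.exists_conj
  obtain ⟨Γ, E, E2, E3⟩ := exists_ext3
  obtain ⟨d₀, K⟩ := exists_fiC
  exact no C E E2 E3 K F24.as24 (by rw [R08.FiTwentyFour.card_commutator]; norm_num) hS hm

open Cfsg.Spor (Fi24) in
/-- **`Fi24'`, `O₂(A) ≠ 1`.** -/
theorem two_F24 {K : Type} [Group K] [Finite K] [IsSimpleGroup K] {A : Subgroup K} {Γ : Subgroup (MulAut K)}
    (hK : Spor.IsoFi24' K) (h : FP3.MI A Γ) (hA : Sm A) : pCore 2 A = ⊥ := by
  have := R08.FiTwentyFour.finite_Fi24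
  obtain ⟨e⟩ := hK
  let ι : K →* Fi24 := (commutator Fi24).subtype.comp e.toMonoidHom
  have hι : Function.Injective ι := Subtype.val_injective.comp e.injective
  have hr : ∀ x ∈ commutator Fi24, ∃ k, ι k = x := fun x hx => ⟨e.symm ⟨x, hx⟩, congrArg Subtype.val (e.apply_symm_apply _)⟩
  let S : Subgroup Fi24 := Γ.comap ((MulAut.congr e).symm.toMonoidHom.comp MulAut.conjNormal)
  have hs : ∀ s ∈ S, ∃ σ ∈ Γ, ∀ k, ι (σ k) = s * ι k * s⁻¹ := fun s hs =>
    ⟨_, hs, fun k => congrArg Subtype.val (e.apply_symm_apply _)⟩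
  have hs' : ∀ σ ∈ Γ, ∃ s ∈ S, ∀ k, ι (σ k) = s * ι k * s⁻¹ := fun σ hσ => by
    obtain ⟨s, h1⟩ := KFacts.FiTF.exists_conj (MulAut.congr e σ)
    have h4 : MulAut.conjNormal s = MulAut.congr e σ := MulEquiv.ext fun t => Subtype.ext (h1 t).symm
    refine ⟨s, ?_, fun k => ?_⟩
    · show (MulAut.congr e).symm (MulAut.conjNormal s) ∈ Γ
      rwa [h4, MulEquiv.symm_apply_apply]
    · have h5 := h1 (e k)
      simpa [ι] using h5
  have hm : ∀ a, ι a ∈ S ↔ a ∈ A := fun a => by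
    have h1 : (MulAut.congr e).symm (MulAut.conjNormal (ι a)) = MulAut.conj a := MulEquiv.ext fun k => hι (by
      rw [MulAut.conj_apply, map_mul, map_mul, map_inv]
      exact congrArg Subtype.val (e.apply_symm_apply _))
    rw [← h.conj, ← h1]
    rfl
  have h1 := npar (S := S) (fun g hg => ?_) (fun Y h1 h2 h3 => ?_) ((Mon.core 2 A).map ι) ?_
    ((Mon.core_pgroup (S := A) 2).map ι) ?_
  · exact (map_eq_bot_iff_of_injective _ A.subtype_injective).1 ((map_eq_bot_iff_of_injective _ hι).1 h1)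
  · obtain ⟨a, rfl⟩ := hr g hg.2
    rw [orderOf_injective ι hι]
    exact hA a ((hm a).1 hg.1)
  · refine (h.max (Y.comap ι) (fun a ha => h1 ⟨(hm a).2 ha, (e a).2⟩) fun σ hσ b hb => ?_).symm.imp
      (fun k => le_antisymm h2 fun x hx => ?_) fun k x hx => ?_
    · obtain ⟨s, k1, k2⟩ := hs' σ hσ
      rw [mem_comap, k2]
      exact h3 s k1 _ hb
    · obtain ⟨a, rfl⟩ := hr x hx
      exact (k ▸ mem_top a : a ∈ Y.comap ι)
    · obtain ⟨a, rfl⟩ := hr x (h2 hx)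
      exact (hm a).2 (k ▸ hx)
  · rintro _ ⟨a, ha, rfl⟩
    exact ⟨(hm a).2 (map_subtype_le _ ha), (e a).2⟩
  · rintro s k _ ⟨a, ha, rfl⟩
    obtain ⟨σ, k1, k2⟩ := hs s k
    exact ⟨σ a, inv_core h 2 σ k1 a ha, k2 a⟩

end Cfsg.Agent.N2.Sp4.F2
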