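import Cfsg.Agent.N2.Sp4.Odd
import Cfsg.Agent.N2.Sp4.F2B
import Cfsg.Agent.N2.Sp.GFi24

/-!
# S3519: the local subgroups of `Fi24'` (helper15)
-/

set_option autoImplicit false
set_option maxRecDepth 100000

namespace Cfsg.Agent.N2.Sp4

open Subgroup Cfsg Cfsg.Agent.FP3 Cfsg.Agent.N2.Sp Cfsg.Agent.N2.Sp4T
open Cfsg.Agent.TAB.Eng Cfsg.Agent.TAB.Use Cfsg.Agent.SB.SporL Cfsg.Agent.TH.Spor

open Cfsg.Agent.N2.Sp.Fi24 in
/-- **`Fi24'`: a bad subgroup is not local** -/
theorem loc_F24 {K : Type} [Group K] [Finite K] [IsSimpleGroup K] (hK : Spor.IsoFi24' K) {T : TD K D} (H : Hy T R nu)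
    (hu : Unif T) {A : Subgroup K} {Γ : Subgroup (MulAut K)} (h : MI A Γ) (hb : ¬ Good A) {p : ℕ} (hp : p.Prime) :
    pCore p A = ⊥ := by
  have hr := res H hb h.ne_top
  have hS := (sup H hb h.ne_top).2
  have ho : ∀ a ∈ A, orderOf a ≤ 6 ∨ orderOf a = 9 ∨ orderOf a = 12 := fun a ha =>
    ord_of H hS (P := fun n => n ≤ 6 ∨ n = 9 ∨ n = 12) (by decide) (by decide +kernel) ha
  have hq : ∀ a ∈ A, (orderOf a).Prime → orderOf a ≤ 5 := fun a ha k => by
    rcases ho a ha with e | e | e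
    · have : orderOf a ≠ 6 := fun e => absurd (e ▸ k) (by norm_num)
      omega
    all_goals exact absurd (e ▸ k) (by norm_num)
  have h2 : pCore 2 A = ⊥ := F2.two_F24 hK h fun a ha => ⟨by have := ho a ha; omega, hq a ha⟩
  by_contra h0
  obtain ⟨a, ha, oa⟩ := exists_of_core hp h0
  have h3 := hq a ha (oa ▸ hp)
  rw [oa] at h3
  obtain rfl | rfl | rfl : p = 2 ∨ p = 3 ∨ p = 5 := by
    revert hp
    clear * - h3
    interval_cases p <;> decide
  · exact h0 h2
  · refine three_F24 hK h h0 h2 (fun a ha r _ hr e => ?_) fun a ha e => ?_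
    · have := ho a ha
      omega
    · have := ho a ha
      have := Nat.le_of_dvd (orderOf_pos a) e
      omega
  · obtain ⟨e, h4, h5, -, h7⟩ := five H.mass hu h (F := 1) (m := D.N / 5 ^ 2) hp h0 (fun a ha r hr e => by
      have := ho a ha
      have := hr.two_le
      omega) (by decide +kernel) (by decide +kernel)
    obtain ⟨h8, h9⟩ := mem_of' H (sup_al hr h7) h4 h5 (by decide)
    exact (by decide +kernel : ∀ s ∈ al O (5 ^ (1 + 1) * 5 ^ (1 + 1)), D.ord s ≠ 5) _ h8 h9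

end Cfsg.Agent.N2.Sp4
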