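import Cfsg.Agent.N2.Sp4T.Geo
import Cfsg.Agent.N2.Sp4T.Mx
import Cfsg.Agent.SB.SporB.F24Geo

/-!
# S3519: the 2-local subgroups of `Fi24'`, abstract part (helper15)

The proof of `SB/SporB/F24Geo` with other leaves.
-/

set_option autoImplicit false
set_option linter.unusedSectionVars false

namespace Cfsg.Agent.N2.Sp4.F2

open Subgroup Cfsg Cfsg.Agent.Co2Type.Quad Cfsg.Agent.SB.SporB Cfsg.Agent.N2.Sp4T
open Cfsg.Agent.H251 (omegaCenterOf_ne_bot mem_omegaCenterOf pCoreOf_isPGroup le_pCoreOf le_normalizer_pCoreOf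
  normalizer_le_normalizer_omegaCenterOf pCoreOf_le)
open Cfsg.Agent.R2.M7 Cfsg.Agent.R2.M7.Geo Cfsg.Agent.R2.M7.Elem Cfsg.Agent.R2.M7.Ark

variable {G : Type*} [Group G]

/-- no element of order ten, no prime above five -/
def Sm (H : Subgroup G) : Prop := ∀ g ∈ H, orderOf g ≠ 10 ∧ ((orderOf g).Prime → orderOf g ≤ 5)

theorem Sm.mono {H K : Subgroup G} (h : Sm K) (hle : H ≤ K) : Sm H := fun g hg => h g (hle hg)

theorem Sm.ten {H : Subgroup G} (h : Sm H) {g i : G} (hg : g ∈ H) (og : orderOf g = 5) (hi : i ∈ H) (i2 : i * i = 1)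
    (i1 : i ≠ 1) (hc : i * g = g * i) : False := by
  have oi : orderOf i = 2 := orderOf_eq_prime (by rw [pow_two, i2]) i1
  refine (h _ (mul_mem hi hg)).1 ?_
  rw [(show Commute i g from hc).orderOf_mul_eq_mul_orderOf_of_coprime (by rw [oi, og]; norm_num), oi, og]

variable [Finite G] {Γ : Geo G} {y : G} {S : Subgroup G}

theorem Sm.prime {H : Subgroup G} (h : Sm H) {r : ℕ} (hr : r.Prime) (hd : r ∣ Nat.card H) :
    r ≤ 5 ∧ ∃ g ∈ H, orderOf g = r := by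
  have := Fact.mk hr
  obtain ⟨x, hx⟩ := exists_prime_orderOf_dvd_card' (G := H) r hd
  have h1 : orderOf (x : G) = r := by rw [orderOf_coe, hx]
  exact ⟨h1 ▸ (h x x.2).2 (h1 ▸ hr), x, x.2, h1⟩

theorem Sm.five {H : Subgroup G} (h : Sm H) (ns : ¬ Group.IsSolvable H) : ∃ g ∈ H, orderOf g = 5 := by
  by_contra h5
  refine ns (solv_of_primes fun r hr hd => ?_)
  obtain ⟨k, hg⟩ := h.prime hr hd
  have h1 : r ≠ 5 := fun e => h5 (e ▸ hg)
  have h2 := hr.two_le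
  have h3 : r ≠ 4 := fun e => absurd (e ▸ hr) (by norm_num)
  omega

theorem Sm.n7 {H : Subgroup G} (h : Sm H) : N7 H := fun h7 => by
  have := (h.prime (by norm_num) h7).1
  omega

/-- a central involution -/
theorem Sm.cent {H : Subgroup G} (h : Sm H) {t : G} (ht : t ∈ H) (t2 : t * t = 1) (t1 : t ≠ 1) :
    Group.IsSolvable ↥(H ⊓ centralizer {t}) := by
  by_contra ns
  obtain ⟨g, hg, og⟩ := (h.mono inf_le_left).five ns
  exact h.ten hg.1 og ht t2 t1 (mem_centralizer_singleton_iff.1 hg.2).symm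

theorem card_mod5 {g : G} (hg : g ^ 5 = 1) {U : Subgroup G} (hU : ∀ a ∈ U, g * a * g⁻¹ ∈ U)
    (h : ∀ a ∈ U, a * g = g * a → a = 1) : Nat.card U % 5 = 1 := by
  classical
  have _ : Fintype U := Fintype.ofFinite U
  have _ : Fact (Nat.Prime 5) := ⟨by norm_num⟩
  let f : Function.End U := fun a => ⟨g * a * g⁻¹, hU a a.2⟩
  have hf : f ^ 5 ^ 1 = 1 := by
    funext a
    refine Subtype.ext ?_
    show g * (g * (g * (g * (g * a * g⁻¹) * g⁻¹) * g⁻¹) * g⁻¹) * g⁻¹ = a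
    calc _ = g ^ 5 * a * (g ^ 5)⁻¹ := by simp only [pow_succ, pow_zero, one_mul, mul_inv_rev, mul_assoc]
      _ = a := by rw [hg]; group
  have h1 := Equiv.Perm.card_fixedPoints_modEq hf
  have h2 : Fintype.card (Function.fixedPoints f) = 1 := Fintype.card_eq_one_iff.2
    ⟨⟨1, Subtype.ext (by simp [f])⟩, fun a => Subtype.ext (Subtype.ext (h _ a.1.2
      (mul_inv_eq_iff_eq_mul.1 (congrArg Subtype.val a.2)).symm))⟩
  rwa [h2, ← Nat.card_eq_fintype_card] at h1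

theorem exists_inv {R : Subgroup G} (hR : Nat.card R = 2 ^ 13) {g : G} (hy : y * y * y = 1) (hg : g ^ 5 = 1)
    (hc : g * y = y * g) (h1 : ∀ a ∈ R, y * a * y⁻¹ ∈ R) (h2 : ∀ a ∈ R, g * a * g⁻¹ ∈ R) :
    ∃ i ∈ R, i * i = 1 ∧ i ≠ 1 ∧ i * y = y * i ∧ i * g = g * i := by
  have h3 := ncard_mod3 hy (A := (R : Set G)) h1
  have h4 : {a | a ∈ (R : Set G) ∧ a * y = y * a} = ((R ⊓ centralizer {y} : Subgroup G) : Set G) :=
    Set.ext fun _ => and_congr_right fun _ => mem_centralizer_singleton_iff.symm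
  rw [h4, ← Nat.card_coe_set_eq, ← Nat.card_coe_set_eq] at h3
  have h5 : Nat.card R % 3 = Nat.card ↥(R ⊓ centralizer {y}) % 3 := h3
  obtain ⟨k, hk, h6⟩ := (Nat.dvd_prime_pow Nat.prime_two).1 (hR ▸ card_dvd_of_le (inf_le_left (b := centralizer {y})))
  have h7 : R ⊓ centralizer {y} ⊓ centralizer {g} ≠ ⊥ := fun e => by
    have h8 := card_mod5 hg (U := R ⊓ centralizer {y}) (fun a ha => ⟨h2 a ha.1,
      (centralizer {y}).mul_mem ((centralizer {y}).mul_mem (mem_centralizer_singleton_iff.2 hc) ha.2)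
        ((centralizer {y}).inv_mem (mem_centralizer_singleton_iff.2 hc))⟩)
      fun a ha k => mem_bot.1 (e ▸ ⟨ha, mem_centralizer_singleton_iff.2 k⟩)
    rw [h6] at h8
    rw [h6, hR] at h5
    interval_cases k <;> omega
  have _ : Fact (Nat.Prime 2) := ⟨Nat.prime_two⟩
  obtain ⟨i, hi, oi⟩ := exists_ord Nat.prime_two ((IsPGroup.of_card hR).to_le (inf_le_left.trans inf_le_left)) h7
  exact ⟨i, hi.1.1, by rw [← pow_two, ← oi, pow_orderOf_eq_one], fun e => by rw [e, orderOf_one] at oi; omega,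
    mem_centralizer_singleton_iff.1 hi.1.2, mem_centralizer_singleton_iff.1 hi.2⟩

/-- two collinear points -/
def Ext3 (Γ : Geo G) : Prop :=
  ∀ x ∈ Γ.Pt, ∀ v ∈ Γ.Pt, v ∈ Γ.QQ x → v ≠ x → Nat.card ↥(Γ.QQ x ⊓ Γ.QQ v) = 2 ^ 13

theorem line_inv (E : Ext Γ) (E3 : Ext3 Γ) {L : Subgroup G} {x v g : G} (px : x ∈ Γ.Pt) (pv : v ∈ Γ.Pt)
    (hvx : v ∈ Γ.QQ x) (ne : v ≠ x) (hx : x ∈ L) (hv : v ∈ L) (hL : ∀ a ∈ L, a = 1 ∨ a = x ∨ a = v ∨ a = x * v)
    (hy : y * y * y = 1) (hg : g ^ 5 = 1) (hc : g * y = y * g) (h1 : ∀ a ∈ L, y * a * y⁻¹ ∈ L)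
    (h2 : ∀ a ∈ L, g * a * g⁻¹ ∈ L) : ∃ i ∈ Γ.QQ x, i * i = 1 ∧ i ≠ 1 ∧ i * y = y * i ∧ i * g = g * i := by
  have B := E.F.basic
  have pt : ∀ u ∈ L, u ≠ 1 → u ∈ Γ.Pt ∧ ∀ q ∈ Γ.QQ x ⊓ Γ.QQ v, q ∈ Γ.QQ u := fun u hu h => by
    rcases hL u hu with rfl | rfl | rfl | rfl
    exacts [absurd rfl h, ⟨px, fun q hq => hq.1⟩, ⟨pv, fun q hq => hq.2⟩,
      ⟨B.line x px v pv ne.symm hvx, fun q hq => B.line_inf x px v pv ne.symm hvx q hq.1 hq.2⟩]
  have nm : ∀ n, (∀ a ∈ L, n * a * n⁻¹ ∈ L) → ∀ q ∈ Γ.QQ x ⊓ Γ.QQ v, n * q * n⁻¹ ∈ Γ.QQ x ⊓ Γ.QQ v := by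
    intro n hn q hq
    have key : ∀ u ∈ L, u ∈ Γ.Pt → n * q * n⁻¹ ∈ Γ.QQ u := fun u hu pu => by
      have h3 := conj_of_norm (inv_mem (mem_normalizer_fintype hn : n ∈ normalizer (L : Set G))) hu
      obtain ⟨h4, h5⟩ := pt _ h3 (B.pt_ne _ (B.pt_conj u pu _))
      have h6 := B.QQ_conj _ h4 n q (h5 q hq)
      rwa [show n * (n⁻¹ * u * n⁻¹⁻¹) * n⁻¹ = u by group] at h6
    exact ⟨key x hx px, key v hv pv⟩
  obtain ⟨i, hi, h⟩ := exists_inv (E3 x px v pv hvx ne) hy hg hc (nm y h1) (nm g h2)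
  exact ⟨i, hi.1, h⟩

section ark

variable (E : Ext Γ) {O : Subgroup G} (hO : O ∈ Γ.Ark)
include E hO

theorem half {V : Subgroup G} (hV : V ≤ O) {u : G} (hu : u ∈ O) :
    Nat.card V ≤ 2 * Nat.card ↥(V ⊓ perp E.F.ark hO hu) := by
  have A := E.F.ark
  refine le_two fun a ha b hb k1 k2 => ?_
  have k3 := hV ha
  have k4 := hV hb
  rw [inv_eq A hO k3]
  refine ⟨mul_mem k3 k4, ?_⟩
  rw [A.bet_mul O hO a k3 b k4 u hu, (Ark.two_cases _).resolve_left fun h => k1 ⟨k3, h⟩,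
    (Ark.two_cases _).resolve_left fun h => k2 ⟨k4, h⟩, one_one]

/-- an element of order five which centralises the orthogonal space of four elements -/
theorem ark_inv (E3 : Ext3 Γ) (hy : y * y * y = 1) (hn : ∀ u ∈ O, y * u * y⁻¹ ∈ O) {a b c d g : G} (ha : a ∈ O)
    (hb : b ∈ O) (hc : c ∈ O) (hd : d ∈ O) (ya : a * y = y * a) (yb : b * y = y * b) (yc : c * y = y * c)
    (yd : d * y = y * d) (hg : g ^ 5 = 1) (gy : g * y = y * g)
    (hP : ∀ x ∈ perp E.F.ark hO ha ⊓ perp E.F.ark hO hb ⊓ perp E.F.ark hO hc ⊓ perp E.F.ark hO hd, g * x = x * g) :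
    ∃ i, i * i = 1 ∧ i ≠ 1 ∧ i * y = y * i ∧ i * g = g * i ∧ ∀ x ∈ O, i * x * i⁻¹ ∈ O := by
  have B := E.F.basic
  have A := E.F.ark
  have k : ∀ {u : G} (hu : u ∈ O), u * y = y * u → ∀ x ∈ perp E.F.ark hO hu, y * x * y⁻¹ ∈ perp E.F.ark hO hu :=
    fun {u} hu h x hx => ⟨hn x hx.1, by
      have h1 := bet_conj B x u y
      rw [← h, mul_inv_cancel_right] at h1
      exact h1.trans hx.2⟩
  obtain ⟨V, hVO, hV, c0⟩ := E.big O hO
  have c1 := half E hO hVO ha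
  have c2 := half E hO (inf_le_left.trans hVO : V ⊓ perp E.F.ark hO ha ≤ O) hb
  have c3 := half E hO (inf_le_left.trans (inf_le_left.trans hVO) : V ⊓ perp E.F.ark hO ha ⊓ perp E.F.ark hO hb ≤ O) hc
  have c4 := half E hO (inf_le_left.trans (inf_le_left.trans (inf_le_left.trans hVO)) :
    V ⊓ perp E.F.ark hO ha ⊓ perp E.F.ark hO hb ⊓ perp E.F.ark hO hc ≤ O) hd
  obtain ⟨v, hv, v1⟩ := exists_ne_one
    (E := V ⊓ perp E.F.ark hO ha ⊓ perp E.F.ark hO hb ⊓ perp E.F.ark hO hc ⊓ perp E.F.ark hO hd) (by omega)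
  have pv := hV.1 v hv.1.1.1.1 v1
  have vP : v ∈ perp E.F.ark hO ha ⊓ perp E.F.ark hO hb ⊓ perp E.F.ark hO hc ⊓ perp E.F.ark hO hd :=
    ⟨⟨⟨hv.1.1.1.2, hv.1.1.2⟩, hv.1.2⟩, hv.2⟩
  have yP : ∀ x ∈ perp E.F.ark hO ha ⊓ perp E.F.ark hO hb ⊓ perp E.F.ark hO hc ⊓ perp E.F.ark hO hd,
      y * x * y⁻¹ ∈ perp E.F.ark hO ha ⊓ perp E.F.ark hO hb ⊓ perp E.F.ark hO hc ⊓ perp E.F.ark hO hd := fun x hx =>
    ⟨⟨⟨k ha ya x hx.1.1.1, k hb yb x hx.1.1.2⟩, k hc yc x hx.1.2⟩, k hd yd x hx.2⟩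
  have PO : perp E.F.ark hO ha ⊓ perp E.F.ark hO hb ⊓ perp E.F.ark hO hc ⊓ perp E.F.ark hO hd ≤ O := fun x hx => hx.2.1
  generalize perp E.F.ark hO ha ⊓ perp E.F.ark hO hb ⊓ perp E.F.ark hO hc ⊓ perp E.F.ark hO hd = P at hP vP yP PO
  by_cases h0 : ∃ i ∈ P, i ≠ 1 ∧ i * y = y * i
  · obtain ⟨i, hi, i1, iy⟩ := h0
    exact ⟨i, A.sq O hO i (PO hi), i1, iy, (hP i hi).symm, fun x hx => mul_mem (mul_mem (PO hi) hx) (inv_mem (PO hi))⟩
  have h1 := yP v vP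
  have h2 := yP _ h1
  have h3 : v * (y * v * y⁻¹) * (y * (y * v * y⁻¹) * y⁻¹) = 1 := by
    by_contra h3
    refine h0 ⟨_, mul_mem (mul_mem vP h1) h2, h3, (mul_inv_eq_iff_eq_mul.1 ?_).symm⟩
    calc y * (v * (y * v * y⁻¹) * (y * (y * v * y⁻¹) * y⁻¹)) * y⁻¹
        = y * v * y⁻¹ * (y * (y * v * y⁻¹) * y⁻¹) * (y * (y * (y * v * y⁻¹) * y⁻¹) * y⁻¹) := by group
      _ = _ := by rw [conj3 hy, A.comm O hO _ (PO (mul_mem h1 h2)) v (PO vP), ← mul_assoc v]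
  have h4 : y * (y * v * y⁻¹) * y⁻¹ = v * (y * v * y⁻¹) := by
    rw [← inv_eq A hO (PO (mul_mem vP h1))]
    exact eq_inv_of_mul_eq_one_right h3
  have pw := B.pt_conj v pv y
  have h5 : y * v * y⁻¹ ∈ Γ.QQ v := by
    have h5 := kap_mul (Γ := Γ) v (y * v * y⁻¹)
    rw [← h4, kap_pt (B.pt_conj _ pw y), kap_pt pv, kap_pt pw, zero_add, zero_add] at h5
    rw [A.bet_iff O hO v (PO vP) pv _ (PO h1), bet_symm A hO (PO h1) (PO vP), ← h5]
  obtain ⟨L, hLP, m1, m2, -, hL⟩ := exists_line (V := P) (fun s hs t ht => A.comm O hO s (PO hs) t (PO ht))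
    (fun s hs => A.sq O hO s (PO hs)) vP h1
  obtain ⟨i, hi, i2, i1, iy, ig⟩ := line_inv E E3 pv pw h5
    (fun e => h0 ⟨v, vP, v1, (mul_inv_eq_iff_eq_mul.1 e).symm⟩) m1 m2 hL hy hg gy (fun s hs => by
      rcases hL s hs with rfl | rfl | rfl | rfl
      · rw [mul_one, mul_inv_cancel]; exact L.one_mem
      · exact m2
      · rw [h4]; exact mul_mem m1 m2
      · rw [← h4, conj3 hy]; exact m1) (conj_of_comm fun s hs => hP s (hLP hs))
  exact ⟨i, i2, i1, iy, ig, E.QO O hO v (PO vP) pv i hi⟩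

theorem fixp {a b c g x : G} (ha : a ∈ O) (hc : c ∈ O) (hx : x ∈ O) (pa : a ∈ Γ.Pt) (hg : g ∈ Γ.QQ a)
    (h : g * b * g⁻¹ = c) (ac : Γ.bet a c = 1) (xa : Γ.bet x a = 0) (xb : Γ.bet x b = 0) (xc : Γ.bet x c = 0) :
    g * x = x * g := by
  have A := E.F.ark
  rcases conj_Q (E.large a pa) hg ((A.bet_iff O hO a ha pa x hx).2 xa) with h1 | h1
  · exact mul_inv_eq_iff_eq_mul.1 h1
  · have h2 := bet_conj E.F.basic x b g
    rw [h1, h, A.bet_mul O hO x hx a ha c hc, xb, xc, ac] at h2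
    exact absurd h2 (by decide)

/-- **Four pairwise non-collinear points.** -/
theorem ovoid' (hy : y * y * y = 1) {H : Subgroup G} {a b c d : G} (ha : a ∈ O) (hb : b ∈ O) (hc : c ∈ O) (hd : d ∈ O) (pa : a ∈ Γ.Pt)
    (pb : b ∈ Γ.Pt) (pc : c ∈ Γ.Pt) (pd : d ∈ Γ.Pt) (ab : Γ.bet a b = 1) (ac : Γ.bet a c = 1) (ad : Γ.bet a d = 1)
    (bc : Γ.bet b c = 1) (bd : Γ.bet b d = 1) (cd : Γ.bet c d = 1) (ya : a * y = y * a) (yb : b * y = y * b)
    (yc : c * y = y * c) (yd : d * y = y * d)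
    (hH : ∀ g, g * y = y * g → (∀ x ∈ O, g * x * g⁻¹ ∈ O) →
      (∀ x ∈ perp E.F.ark hO ha ⊓ perp E.F.ark hO hb ⊓ perp E.F.ark hO hc ⊓ perp E.F.ark hO hd, g * x = x * g) → g ∈ H) :
    ¬ Group.IsSolvable H := by
  have A := E.F.ark
  have m := A.bet_mul O hO
  have s := fun {x z : G} (hx : x ∈ O) (hz : z ∈ O) (h : Γ.bet x z = 1) => (bet_symm A hO hz hx).trans h
  have hab := mul_mem ha hb
  have habc := mul_mem hab hc
  have he := mul_mem habc hd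
  have ea : Γ.bet (a * b * c * d) a = 1 := by
    rw [m _ habc d hd a ha, m _ hab c hc a ha, m a ha b hb a ha, bet_self A hO ha, s ha hb ab, s ha hc ac, s ha hd ad]
    decide
  have eb : Γ.bet (a * b * c * d) b = 1 := by
    rw [m _ habc d hd b hb, m _ hab c hc b hb, m a ha b hb b hb, bet_self A hO hb, ab, s hb hc bc, s hb hd bd]
    decide
  have ec : Γ.bet (a * b * c * d) c = 1 := by
    rw [m _ habc d hd c hc, m _ hab c hc c hc, m a ha b hb c hc, bet_self A hO hc, ac, bc, s hc hd cd]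
    decide
  have ed : Γ.bet (a * b * c * d) d = 1 := by
    rw [m _ habc d hd d hd, m _ hab c hc d hd, m a ha b hb d hd, bet_self A hO hd, ad, bd, cd]
    decide
  obtain ⟨g₁, q₁, y₁, k₁⟩ := swap5 E hO hy ha hb hc hd pa pb pc pd (s ha hb ab) (s ha hc ac) (s ha hd ad) bc bd cd rfl
    ya yb yc
  obtain ⟨g₂, q₂, y₂, k₂⟩ := swap5 E hO hy (e := a * b * c * d) ha hb hd hc pa pb pd pc (s ha hb ab) (s ha hd ad) (s ha hc ac)
    bd bc (s hc hd cd) (by rw [mul_assoc _ c d, A.comm O hO c hc d hd, ← mul_assoc]) ya yb yd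
  obtain ⟨g₃, q₃, y₃, k₃⟩ := swap5 E hO hy (e := a * b * c * d) hb ha hd hc pb pa pd pc ab (s hb hd bd) (s hb hc bc) ad ac
    (s hc hd cd) (by rw [mul_assoc _ c d, A.comm O hO c hc d hd, ← mul_assoc, A.comm O hO a ha b hb]) yb ya yd
  have ne : ∀ {x z : G}, x ∈ O → Γ.bet x z = 1 → x ≠ z := fun hx h e => by
    rw [← e, bet_self A hO hx] at h
    exact zero_ne_one h
  refine not_solvable_five (u := ![a, b, c, d, a * b * c * d]) ?_
    (hH g₁ y₁ (E.QO O hO a ha pa g₁ q₁) fun x hx =>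
      fixp E hO ha hc hx.2.1 pa q₁ k₁.2.1 ac hx.1.1.1.2 hx.1.1.2.2 hx.1.2.2)
    (hH g₂ y₂ (E.QO O hO a ha pa g₂ q₂) fun x hx =>
      fixp E hO ha hd hx.2.1 pa q₂ k₂.2.1 ad hx.1.1.1.2 hx.1.1.2.2 hx.2.2)
    (hH g₃ y₃ (E.QO O hO b hb pb g₃ q₃) fun x hx =>
      fixp E hO hb hd hx.2.1 pb q₃ k₃.2.1 bd hx.1.1.2.2 hx.1.1.1.2 hx.2.2) ?_ ?_ ?_
  · have n1 := ne ha ab
    have n2 := ne ha ac
    have n3 := ne ha ad
    have n4 := ne hb bc
    have n5 := ne hb bd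
    have n6 := ne hc cd
    have n7 := ne he ea
    have n8 := ne he eb
    have n9 := ne he ec
    have n10 := ne he ed
    generalize a * b * c * d = e at n7 n8 n9 n10
    intro i j h
    fin_cases i <;> fin_cases j <;> first | rfl | exact absurd h ‹_› | exact absurd h.symm ‹_›
  · intro i
    fin_cases i
    exacts [k₁.1, k₁.2.1, k₁.2.2.1, k₁.2.2.2.1, k₁.2.2.2.2]
  · intro i
    fin_cases i
    exacts [k₂.1, k₂.2.1, k₂.2.2.2.1, k₂.2.2.1, k₂.2.2.2.2]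
  · intro i
    fin_cases i
    exacts [k₃.2.1, k₃.1, k₃.2.2.2.1, k₃.2.2.1, k₃.2.2.2.2]

end ark

/-- the situation in `N(⟨y⟩)` -/
structure CtxS (Γ : Geo G) (y : G) (S : Subgroup G) : Prop where
  y3 : y * y * y = 1
  mem : y ∈ S
  norm : ∀ s ∈ S, ∀ g, g * y = y * g → s * g * s⁻¹ * y = y * (s * g * s⁻¹)
  max : ∀ U : Subgroup G, (∀ s ∈ S, ∀ u ∈ U, s * u * s⁻¹ ∈ U) →
    centralizer {y} ≤ normalizer (U : Set G) ∨ Sm (normalizer (U : Set G) ⊓ centralizer {y})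
  simp : ∀ U : Subgroup G, IsPGroup 2 U → U ≤ centralizer {y} → centralizer {y} ≤ normalizer (U : Set G) → U = ⊥
  c13 : 13 ∣ Nat.card (centralizer ({y} : Set G))
  one : ∀ t, t * t = 1 → t ≠ 1 → t * y = y * t → ∀ H : Subgroup G, (∀ g, g * y = y * g → g * t = t * g → g ∈ H) →
    ¬ Group.IsSolvable H
  two : ∀ t d, IsA Γ t → IsA Γ d → IsA Γ (t * d) → t * d = d * t → t * y = y * t → d * y = y * d → ∀ H : Subgroup G,
    (∀ g, g * y = y * g → g * t = t * g → (g * d * g⁻¹ = d ∨ g * d * g⁻¹ = t * d) → g ∈ H) → ¬ Group.IsSolvable H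

theorem CtxS.one' (C : CtxS Γ y S) (t : G) (h2 : t * t = 1) (h1 : t ≠ 1) (hy : t * y = y * t) (H : Subgroup G)
    (hH : ∀ g, g * y = y * g → g * t = t * g → g ∈ H) : ¬ Sm H := fun h =>
  C.one t h2 h1 hy (H ⊓ centralizer {t}) (fun g k1 k2 => ⟨hH g k1 k2, mem_centralizer_singleton_iff.2 k2⟩) (h.cent (hH t hy rfl) h2 h1)

theorem CtxS.two' (C : CtxS Γ y S) (t d : G) (ht : IsA Γ t) (hd : IsA Γ d) (htd : IsA Γ (t * d)) (hc : t * d = d * t)
    (k1 : t * y = y * t) (k2 : d * y = y * d) (H : Subgroup G)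
    (hH : ∀ g, g * y = y * g → g * t = t * g → (g * d * g⁻¹ = d ∨ g * d * g⁻¹ = t * d) → g ∈ H) : ¬ Sm H := fun h =>
  C.two t d ht hd htd hc k1 k2 (H ⊓ centralizer {t}) (fun g l1 l2 l3 => ⟨hH g l1 l2 l3, mem_centralizer_singleton_iff.2 l2⟩)
    (h.cent (hH t k1 rfl (Or.inl (by rw [hc, mul_inv_cancel_right]))) ht.1 ht.2.1)

theorem CtxS.solv (C : CtxS Γ y S) {U : Subgroup G} (h0 : U ≠ ⊥) (h2 : IsPGroup 2 U) (hy : U ≤ centralizer {y})
    (hn : ∀ s ∈ S, ∀ u ∈ U, s * u * s⁻¹ ∈ U) : Sm (normalizer (U : Set G) ⊓ centralizer {y}) :=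
  (C.max U hn).resolve_left fun h => h0 (C.simp U h2 hy h)

theorem CtxS.inf (C : CtxS Γ y S) {U : Subgroup G} (hn : ∀ s ∈ S, ∀ u ∈ U, s * u * s⁻¹ ∈ U) :
    ∀ s ∈ S, ∀ u ∈ U ⊓ centralizer {y}, s * u * s⁻¹ ∈ U ⊓ centralizer {y} := fun s hs u hu =>
  ⟨hn s hs u hu.1, mem_centralizer_singleton_iff.2 (C.norm s hs u (mem_centralizer_singleton_iff.1 hu.2))⟩

/-- an invariant involution -/
theorem CtxS.single (C : CtxS Γ y S) {U : Subgroup G} {t : G} (ht : t ∈ U) (h1 : t ≠ 1) (h2 : t * t = 1)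
    (hU : ∀ a ∈ U, a = 1 ∨ a = t) (hy : t * y = y * t) (hn : ∀ s ∈ S, ∀ u ∈ U, s * u * s⁻¹ ∈ U) : False :=
  C.one' t h2 h1 hy _ (fun g k1 k2 => mem_NC k1 (conj_of_comm fun a ha => comm_four k2 k2 ((hU a ha).imp_right Or.inl)))
    (C.solv (fun h => h1 (mem_bot.1 (h ▸ ht))) (two_of_sq fun a ha => by
      rcases hU a ha with rfl | rfl
      exacts [mul_one 1, h2]) (fun a ha => mem_centralizer_singleton_iff.2 (by
      rcases hU a ha with rfl | rfl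
      exacts [by rw [mul_one, one_mul], hy])) hn)

/-- no points -/
theorem CtxS.pure (C : CtxS Γ y S) (E : Ext Γ) {Z : Subgroup G} (h0 : Z ≠ ⊥) (hc : ∀ a ∈ Z, ∀ b ∈ Z, a * b = b * a)
    (hs : ∀ a ∈ Z, a * a = 1) (hp : ∀ a ∈ Z, a ∉ Γ.Pt) (hy : Z ≤ centralizer {y})
    (hn : ∀ s ∈ S, ∀ u ∈ Z, s * u * s⁻¹ ∈ Z) : False := by
  obtain ⟨t, ht, ht1⟩ : ∃ t ∈ Z, t ≠ 1 := by
    by_contra h
    push Not at h
    exact h0 ((eq_bot_iff_forall _).2 h)
  have hty := mem_centralizer_singleton_iff.1 (hy ht)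
  by_cases h : ∀ a ∈ Z, a = 1 ∨ a = t
  · exact C.single ht ht1 (hs t ht) h hty hn
  push Not at h
  obtain ⟨d, hd, hd1, hdt⟩ := h
  obtain ⟨h1, h2⟩ := pure_cases E hc hs hp ht hd ht1 hd1 hdt
  refine C.two' t d ⟨hs t ht, ht1, hp t ht⟩ ⟨hs d hd, hd1, hp d hd⟩ h1 (hc t ht d hd) hty
    (mem_centralizer_singleton_iff.1 (hy hd)) _ (fun g k1 k2 k3 => mem_NC k1 fun a ha => ?_)
    (C.solv h0 (two_of_sq hs) hy hn)
  have k4 : g * t * g⁻¹ = t := by rw [k2]; group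
  have k5 : g * d * g⁻¹ ∈ Z := by
    rcases k3 with k | k <;> rw [k]
    exacts [hd, mul_mem ht hd]
  rcases h2 a ha with rfl | rfl | rfl | rfl
  · rw [mul_one, mul_inv_cancel]; exact Z.one_mem
  · rw [k4]; exact ht
  · exact k5
  · rw [show g * (t * d) * g⁻¹ = g * t * g⁻¹ * (g * d * g⁻¹) by group, k4]
    exact mul_mem ht k5

theorem CtxS.line (C : CtxS Γ y S) (E : Ext Γ) (E2 : Ext2 Γ) (E3 : Ext3 Γ) {L : Subgroup G} (hL : Γ.Sing L) (h4 : Nat.card L = 4)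
    (hn : ∀ s ∈ S, ∀ u ∈ L, s * u * s⁻¹ ∈ L) : False := by
  obtain ⟨h1, h2⟩ := E2.line L hL h4
  rcases C.max L hn with h | h
  · exact h1 (C.c13.trans (card_dvd_of_le h))
  obtain ⟨g, hg, og⟩ := h.five (h2 y C.y3 (hn y C.mem))
  rcases small_cases (sing_sq E.F.basic hL) (fun e => by rw [e, card_bot] at h4; omega) (by omega) with
    ⟨x, hx, hx1, k⟩ | ⟨x, hx, v, hv, hx1, hv1, hvx, k⟩
  · have h3 := le_two (S := L) (R := ⊥) fun a ha b hb k1 k2 => by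
      rw [(k a ha).resolve_left k1, (k b hb).resolve_left k2, inv_mul_cancel]
      exact one_mem _
    rw [inf_bot_eq, card_bot] at h3
    omega
  obtain ⟨i, hi, i2, i1, iy, ig⟩ := line_inv E E3 (hL.1 x hx hx1) (hL.1 v hv hv1) (hL.2 x hx hx1 v hv) hvx hx hv k C.y3
    (og ▸ pow_orderOf_eq_one g) (mem_centralizer_singleton_iff.1 hg.2) (hn y C.mem) fun a ha => conj_of_norm hg.1 ha
  exact h.ten hg og (mem_NC iy (Q_norm E hL hx hx1 hi)) i2 i1 ig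

/-- a singular subgroup centralised by `y` -/
theorem CtxS.sing_fix (C : CtxS Γ y S) (E : Ext Γ) (E2 : Ext2 Γ) (E3 : Ext3 Γ) {U : Subgroup G} (hU : Γ.Sing U) (h0 : U ≠ ⊥)
    (hy : U ≤ centralizer {y}) (hn : ∀ s ∈ S, ∀ u ∈ U, s * u * s⁻¹ ∈ U) : False := by
  have B := E.F.basic
  have hs := sing_sq B hU
  by_cases h8 : 8 ≤ Nat.card U
  · refine seven_of_transv (L := ⊥) (sing_comm B hU) hs bot_le (by rw [card_bot]; omega) (fun u hu huL => ?_)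
      (C.solv h0 (two_of_sq hs) hy hn).n7
    have hu1 : u ≠ 1 := fun h => huL (h ▸ one_mem _)
    have hL := E.large u (hU.1 u hu hu1)
    refine ⟨Γ.QQ u ⊓ centralizer {y},
      fun d hd _ => mem_NC (mem_centralizer_singleton_iff.1 hd.2) (Q_norm E hU hu hu1 hd.1),
      fun d hd v hv => conj_Q hL hd.1 (hU.2 u hu hu1 v hv), fun d hd => hL.comm_z d hd.1,
      fun v hv h => hL.cent v (hU.2 u hu hu1 v hv) fun q hq => ?_⟩
    obtain ⟨n, k1, k2, k3⟩ := fix_lift hL C.y3 (mem_centralizer_singleton_iff.1 (hy hu)).symm hq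
    exact ((k3 v (hU.2 u hu hu1 v hv) (mem_centralizer_singleton_iff.1 (hy hv)).symm).1
      (h n ⟨k1, mem_centralizer_singleton_iff.2 k2.symm⟩)).symm
  by_cases h4 : Nat.card U = 4
  · exact C.line E E2 E3 hU h4 hn
  rcases small_cases hs h0 h8 with ⟨x, hx, hx1, h⟩ | ⟨x, hx, v, hv, hx1, hv1, hvx, -⟩
  · exact C.single hx hx1 (hs x hx) h (mem_centralizer_singleton_iff.1 (hy hx)) hn
  · have h1 := two_mul_le' (A := ⊥) (B := zpowers x) bot_le (mem_zpowers x) fun h => hx1 (mem_bot.1 h)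
    have h2 := two_mul_le' (zpowers_le.2 hx) hv fun h => (mem_zp (hs x hx) h).elim hv1 hvx
    have h3 := card_two_pow hs (by omega)
    rw [card_bot] at h1
    omega

/-- an invariant ark -/
theorem CtxS.ark (C : CtxS Γ y S) (E : Ext Γ) (E3 : Ext3 Γ) {O : Subgroup G} (hO : O ∈ Γ.Ark)
    (hn : ∀ s ∈ S, ∀ u ∈ O, s * u * s⁻¹ ∈ O) : False := by
  have _ := Fintype.ofFinite G
  have B := E.F.basic
  have A := E.F.ark
  have m := A.bet_mul O hO
  have hnd := avg_mem A B hO C.y3 (hn y C.mem)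
  have hnW := C.inf hn
  have hsg : sg Γ (fun x => x ∈ O ⊓ centralizer {y}) % 3 = 2 := by
    have h1 := sg_mod3 B C.y3 (P := fun x => x ∈ O) (hn y C.mem)
    rw [sg_ark E hO] at h1
    rw [sg_congr (P := fun x => x ∈ O ⊓ centralizer {y}) (P' := fun x => x ∈ O ∧ x * y = y * x)
      fun x => and_congr_right fun _ => mem_centralizer_singleton_iff, ← h1]
    rfl
  have hNW : ∀ g, g * y = y * g → (∀ x ∈ O, g * x * g⁻¹ ∈ O) → ∀ x ∈ O ⊓ centralizer {y},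
      g * x * g⁻¹ ∈ O ⊓ centralizer {y} := fun g k1 k2 x hx =>
    ⟨k2 x hx.1, (centralizer {y}).mul_mem ((centralizer {y}).mul_mem (mem_centralizer_singleton_iff.2 k1) hx.2)
      ((centralizer {y}).inv_mem (mem_centralizer_singleton_iff.2 k1))⟩
  have hWO : O ⊓ centralizer {y} ≤ O := inf_le_left
  have hWy : O ⊓ centralizer {y} ≤ centralizer {y} := inf_le_right
  generalize O ⊓ centralizer {y} = W at hnd hnW hsg hNW hWO hWy
  have h0 : W ≠ ⊥ := by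
    rintro rfl
    rw [sg_bot] at hsg
    omega
  by_cases hp : ∀ a ∈ W, a ∉ Γ.Pt
  · exact C.pure E h0 (fun a ha b hb => A.comm O hO a (hWO ha) b (hWO hb)) (fun a ha => A.sq O hO a (hWO ha)) hp hWy hnW
  push Not at hp
  obtain ⟨u, hu, pu⟩ := hp
  obtain ⟨v, hv, pv, huv⟩ : ∃ v ∈ W, v ∈ Γ.Pt ∧ Γ.bet u v = 1 := by
    obtain ⟨a, ha, hau⟩ := hnd u hu (B.pt_ne u pu)
    have ne : ∀ x, Γ.bet x u = 1 → x ≠ 1 := fun x hx h => by
      rw [h, bet_one_left] at hx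
      exact zero_ne_one hx
    rcases Ark.two_cases (Γ.kap a) with k | k
    · exact ⟨a, ha, pt_of_kap k (ne a hau), by rw [bet_symm A hO (hWO hu) (hWO ha), hau]⟩
    · have h1 : Γ.bet (a * u) u = 1 := by rw [m a (hWO ha) u (hWO hu) u (hWO hu), hau, bet_self A hO (hWO hu), add_zero]
      exact ⟨a * u, mul_mem ha hu, pt_of_kap (by rw [kap_mul, k, kap_pt pu, hau]; decide) (ne _ h1),
        by rw [bet_symm A hO (hWO hu) (hWO (mul_mem ha hu)), h1]⟩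
  have huO := hWO hu
  have hvO := hWO hv
  have huvO := mul_mem huO hvO
  have kuv : Γ.kap (u * v) = 1 := by rw [kap_mul, kap_pt pu, kap_pt pv, huv]; decide
  have hnd1 := nd_split A hO hWO hu hv huv hnd
  have hsg1 := sg_hyp A hO hWO hu hv huv (kap_pt pu)
  have hpr := fun a (ha : a ∈ W) => proj A hO hWO hu hv huv ha
  have h1W : W ⊓ perp A hO huO ⊓ perp A hO hvO ≤ W := inf_le_left.trans inf_le_left
  have h1u : ∀ a ∈ W ⊓ perp A hO huO ⊓ perp A hO hvO, Γ.bet a u = 0 := fun a ha => ha.1.2.2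
  have h1v : ∀ a ∈ W ⊓ perp A hO huO ⊓ perp A hO hvO, Γ.bet a v = 0 := fun a ha => ha.2.2
  generalize W ⊓ perp A hO huO ⊓ perp A hO hvO = W₁ at hnd1 hsg1 hpr h1W h1u h1v
  have h1O := h1W.trans hWO
  have aniso : ∀ a ∈ W₁, ∀ b ∈ W₁, Γ.kap a = 1 → Γ.kap b = 1 → Γ.bet a b = 1 → False := by
    intro a ha b hb ka kb hab
    have key : ∀ x ∈ W₁, Γ.kap x = 1 → u * v * x ∈ Γ.Pt ∧ Γ.bet u (u * v * x) = 1 ∧ Γ.bet v (u * v * x) = 1 := by
      intro x hx kx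
      have e1 : Γ.bet u (u * v * x) = 1 := by
        rw [bet_symm A hO huO (mul_mem huvO (h1O hx)), m _ huvO x (h1O hx) u huO, m u huO v hvO u huO,
          bet_self A hO huO, bet_symm A hO hvO huO, huv, h1u x hx]
        decide
      refine ⟨pt_of_kap ?_ fun h => ?_, e1, ?_⟩
      · rw [kap_mul, kuv, kx, bet_symm A hO huvO (h1O hx), bet_mul_right A hO (h1O hx) huO hvO, h1u x hx, h1v x hx]
        decide
      · rw [h, bet_symm A hO huO O.one_mem, bet_one_left] at e1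
        exact zero_ne_one e1
      · rw [bet_symm A hO hvO (mul_mem huvO (h1O hx)), m _ huvO x (h1O hx) v hvO, m u huO v hvO v hvO,
          bet_self A hO hvO, huv, h1v x hx]
        decide
    obtain ⟨a1, a2, a3⟩ := key a ha ka
    obtain ⟨b1, b2, b3⟩ := key b hb kb
    have cy := fun {x : G} (hx : x ∈ W) => mem_centralizer_singleton_iff.1 (hWy hx)
    have hsm := C.solv h0 (two_of_sq fun a ha => A.sq O hO a (hWO ha)) hWy hnW
    have ya := cy (mul_mem (mul_mem hu hv) (h1W ha))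
    have yb := cy (mul_mem (mul_mem hu hv) (h1W hb))
    have ab : Γ.bet (u * v * a) (u * v * b) = 1 := by
      rw [m _ huvO a (h1O ha) _ (mul_mem huvO (h1O hb)), m u huO v hvO _ (mul_mem huvO (h1O hb)), b2, b3,
        bet_mul_right A hO (h1O ha) huvO (h1O hb), bet_mul_right A hO (h1O ha) huO hvO, h1u a ha, h1v a ha, hab]
      decide
    obtain ⟨g, hg, og⟩ := (hsm.mono (inf_le_left (b := centralizer ((perp E.F.ark hO huO ⊓ perp E.F.ark hO hvO ⊓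
      perp E.F.ark hO (mul_mem huvO (h1O ha)) ⊓ perp E.F.ark hO (mul_mem huvO (h1O hb)) : Subgroup G) : Set G)))).five
      (ovoid' E hO C.y3 huO hvO (mul_mem huvO (h1O ha)) (mul_mem huvO (h1O hb)) pu pv a1 b1 huv a2 b2 a3 b3 ab
        (cy hu) (cy hv) ya yb fun g k1 k2 k3 => ⟨mem_NC k1 (hNW g k1 k2), mem_cent.2 k3⟩)
    obtain ⟨i, i2, i1, iy, ig, hi⟩ := ark_inv E hO E3 C.y3 (hn y C.mem) huO hvO (mul_mem huvO (h1O ha))
      (mul_mem huvO (h1O hb)) (cy hu) (cy hv) ya yb (og ▸ pow_orderOf_eq_one g)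
      (mem_centralizer_singleton_iff.1 hg.1.2) (mem_cent.1 hg.2)
    exact hsm.ten hg.1 og (mem_NC iy (hNW i iy hi)) i2 i1 ig
  by_cases h1 : W₁ = ⊥
  · have hA := isA_of_kap (A.sq O hO _ huvO) kuv
    have hfix : ∀ s ∈ S, s * (u * v) * s⁻¹ = u * v := by
      intro s hs
      have k1 := hnW s hs _ (mul_mem hu hv)
      have k2 := kap_conj B (u * v) s
      rw [kuv] at k2
      generalize s * (u * v) * s⁻¹ = x at k1 k2
      obtain ⟨b, hb, h⟩ := hpr x k1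
      rw [h1, mem_bot] at hb
      subst hb
      rcases h with h | h | h | h
      · rw [← h, kap_one] at k2
        exact absurd k2 zero_ne_one
      · rw [eq_inv_of_mul_eq_one_left h.symm, inv_eq A hO huO, kap_pt pu] at k2
        exact absurd k2 zero_ne_one
      · rw [eq_inv_of_mul_eq_one_left h.symm, inv_eq A hO hvO, kap_pt pv] at k2
        exact absurd k2 zero_ne_one
      · rw [mul_assoc] at h
        rw [eq_inv_of_mul_eq_one_left h.symm, inv_eq A hO huvO]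
    refine C.single (mem_zpowers (u * v)) hA.2.1 hA.1 (fun a ha => mem_zp hA.1 ha)
      (mem_centralizer_singleton_iff.1 (hWy (mul_mem hu hv))) fun s hs a ha => ?_
    rcases mem_zp hA.1 ha with rfl | rfl
    · rw [mul_one, mul_inv_cancel]; exact one_mem _
    · rw [hfix s hs]; exact mem_zpowers _
  rcases nd_cases A hO h1O hnd1 h1 with ⟨a, ha, b, hb, k1, k2, k3⟩ | ⟨a, ha, c, hc, k1, k2, k3⟩
  · exact aniso a ha b hb k1 k2 k3
  have hsg2 := sg_hyp A hO h1O hc ha k3 k1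
  by_cases h2 : W₁ ⊓ perp A hO (h1O hc) ⊓ perp A hO (h1O ha) = ⊥
  · rw [h2, sg_bot] at hsg2
    omega
  obtain ⟨e, he, ke⟩ : ∃ e ∈ W₁ ⊓ perp A hO (h1O hc) ⊓ perp A hO (h1O ha), Γ.kap e = 1 := by
    rcases nd_cases A hO (inf_le_left.trans (inf_le_left.trans h1O)) (nd_split A hO h1O hc ha k3 hnd1) h2 with
      ⟨e, he, -, -, k, -⟩ | ⟨e, he, -, -, -, k, -⟩
    exacts [⟨e, he, k⟩, ⟨e, he, k⟩]
  refine aniso (e * c) (mul_mem he.1.1 hc) a ha ?_ k2 ?_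
  · rw [kap_mul, ke, k1, he.1.2.2]; decide
  · rw [m e (h1O he.1.1) c (h1O hc) a (h1O ha), he.2.2, k3, zero_add]

/-- an invariant singular subgroup -/
theorem CtxS.sing (C : CtxS Γ y S) (E : Ext Γ) (E2 : Ext2 Γ) (E3 : Ext3 Γ) {F : Subgroup G} (hF : Γ.Sing F) (h0 : F ≠ ⊥)
    (hn : ∀ s ∈ S, ∀ u ∈ F, s * u * s⁻¹ ∈ F) : False := by
  have key : ∀ V : Subgroup G, Γ.Sing V → (∀ s ∈ S, ∀ u ∈ V, s * u * s⁻¹ ∈ V) → Nat.card V % 3 = 1 := fun V hV h =>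
    card_mod3 C.y3 (h y C.mem) (by
      by_contra h1
      exact C.sing_fix E E2 E3 (sing_le hV inf_le_left) h1 inf_le_right (C.inf h))
  by_cases h8 : 8 < Nat.card F
  · obtain ⟨V, ⟨hV, hc⟩ | hV, h⟩ := E2.big F hF h8
    · have := key V hV fun s hs => h s (hn s hs)
      omega
    · exact C.ark E E3 hV fun s hs => h s (hn s hs)
  · have h1 := key F hF hn
    have h2 := card_two_pow (sing_sq E.F.basic hF) h8
    have h3 : Nat.card F ≠ 1 := fun h => h0 (card_eq_one.1 h)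
    exact C.line E E2 E3 hF (by omega) hn

/-- **The 2-local subgroups of `C(y)`.** -/
theorem CtxS.no (C : CtxS Γ y S) (E : Ext Γ) (E2 : Ext2 Γ) (E3 : Ext3 Γ) {X : Subgroup G} (h0 : X ≠ ⊥) (hX : IsPGroup 2 X)
    (hy : X ≤ centralizer {y}) (hn : ∀ s ∈ S, ∀ u ∈ X, s * u * s⁻¹ ∈ X) : False := by
  have hS : S ≤ normalizer (X : Set G) := SB.SporB.norm_of hn
  by_cases hpt : ∃ c ∈ X, c ∈ Γ.Pt
  · obtain ⟨c, hcX, hc⟩ := hpt
    have St := sit E (pCoreOf_isPGroup (normalizer (X : Set G))) fun g hg => cent_le_core (ch2_pt E hX hcX hc)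
      (centralizer_le_normalizer _) le_rfl (le_pCoreOf hX le_normalizer le_rfl) hg
    rcases MainCP.mainC E.F _ _ St with hO | ⟨F, hF0, -, hF, hFn⟩
    · exact C.ark E E3 hO fun s hs => norm_omega s (hS hs)
    · exact C.sing E E2 E3 hF hF0 fun s hs => hFn s (norm_omega s (hS hs))
  · push Not at hpt
    exact C.pure E (omegaCenterOf_ne_bot hX h0)
      (fun a ha b hb => mem_cent.1 (mem_omegaCenterOf.1 ha).2.1 b (mem_omegaCenterOf.1 hb).1)
      (fun a ha => by rw [← pow_two]; exact (mem_omegaCenterOf.1 ha).2.2)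
      (fun a ha => hpt a (mem_omegaCenterOf.1 ha).1) (fun a ha => hy (mem_omegaCenterOf.1 ha).1)
      fun s hs u hu => conj_of_norm (normalizer_le_normalizer_omegaCenterOf _ (hS hs)) hu

end Cfsg.Agent.N2.Sp4.F2
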