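import Cfsg.Agent.N2.Sp4.F3
import Cfsg.Agent.SB.SporB.Gen

/-!
# S3519: the 3-local geometry of `Fi24'` relative to one or two transpositions (helper15)
-/

set_option autoImplicit false
set_option linter.unusedSectionVars false

namespace Cfsg.Agent.N2.Sp4.FR

open Subgroup Cfsg Cfsg.Agent.FP3 Cfsg.Agent.SB Cfsg.Agent.SB.F24 Cfsg.Agent.SB.F24.Geo
open Cfsg.Agent.H841.Ext (ES)

section tools

variable {G : Type*} [Group G]

theorem card_orbit (H : Subgroup G) (x : G) :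
    {y | ∃ h ∈ H, h * x * h⁻¹ = y}.ncard * Nat.card ↥(H ⊓ centralizer {x}) = Nat.card H := by
  let _ : MulAction H G := MulAction.compHom G (MulAut.conj.comp H.subtype)
  have hs : ∀ (h : H) (y : G), h • y = h * y * (h : G)⁻¹ := fun _ _ => rfl
  have e1 : MulAction.orbit H x = {y | ∃ h ∈ H, h * x * h⁻¹ = y} := by
    ext y
    exact ⟨fun ⟨h, e⟩ => ⟨h, h.2, e⟩, fun ⟨h, hh, e⟩ => ⟨⟨h, hh⟩, e⟩⟩
  have e2 : MulAction.stabilizer H x = (H ⊓ centralizer ({x} : Set G)).subgroupOf H := by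
    ext h
    rw [MulAction.mem_stabilizer_iff, hs, mem_subgroupOf, mem_inf, mem_centralizer_singleton_iff, mul_inv_eq_iff_eq_mul]
    exact ⟨fun e => ⟨h.2, e⟩, fun e => e.2⟩
  rw [← e1, ← MulAction.index_stabilizer, e2, ← Nat.card_congr (subgroupOfEquivOfLe inf_le_left).toEquiv,
    index_mul_card]

theorem cj {C : Subgroup G} {g y : G} (hg : g ∈ C) (hy : y ∈ C) : g * y * g⁻¹ ∈ C := mul_mem (mul_mem hg hy) (inv_mem hg)

variable [Finite G]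

theorem dvd_ncard {H : Subgroup G} {m : ℕ} (n : ℕ) : ∀ E : Set G, E.ncard = n → (∀ h ∈ H, ∀ x ∈ E, h * x * h⁻¹ ∈ E) →
    (∀ x ∈ E, m ∣ {y | ∃ h ∈ H, h * x * h⁻¹ = y}.ncard) → m ∣ n := by
  induction n using Nat.strong_induction_on with
  | _ n ih =>
    intro E h0 h1 h2
    rcases E.eq_empty_or_nonempty with rfl | ⟨x, hx⟩
    · rw [← h0, Set.ncard_empty]
      exact dvd_zero m
    have h3 : {y | ∃ h ∈ H, h * x * h⁻¹ = y} ⊆ E := by
      rintro _ ⟨h, hh, rfl⟩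
      exact h1 h hh x hx
    have h4 := Set.ncard_sdiff_add_ncard_of_subset h3
    have h5 : 0 < {y | ∃ h ∈ H, h * x * h⁻¹ = y}.ncard := (Set.ncard_pos (Set.toFinite _)).2 ⟨x, 1, one_mem _, by group⟩
    rw [← h0, ← h4]
    refine dvd_add (ih _ (by omega) _ rfl (fun h hh y hy => ⟨h1 h hh y hy.1, fun ⟨g, hg, e⟩ => hy.2
      ⟨h⁻¹ * g, mul_mem (inv_mem hh) hg, ?_⟩⟩) fun y hy => h2 y hy.1) (h2 x hx)
    rw [show h⁻¹ * g * x * (h⁻¹ * g)⁻¹ = h⁻¹ * (g * x * g⁻¹) * h by group, e]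
    group

theorem card_mul_le (A B : Subgroup G) : Nat.card A * Nat.card B ≤ Nat.card ↥(A ⊔ B) * Nat.card ↥(A ⊓ B) := by
  have h1 : Nat.card ↥(A ⊓ B) * B.relIndex A = Nat.card A := by
    rw [← inf_relIndex_left, relIndex, ← card_mul_index ((A ⊓ B).subgroupOf A),
      Nat.card_congr (subgroupOfEquivOfLe inf_le_left).toEquiv]
  have h2 : Nat.card B * B.relIndex (A ⊔ B) = Nat.card ↥(A ⊔ B) := by
    rw [relIndex, ← card_mul_index (B.subgroupOf (A ⊔ B)), Nat.card_congr (subgroupOfEquivOfLe le_sup_right).toEquiv]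
  have h3 : B.relIndex A ≤ B.relIndex (A ⊔ B) := relIndex_le_of_le_right le_sup_left index_ne_zero_of_finite
  rw [← h1, ← h2]
  calc _ = Nat.card ↥(A ⊓ B) * Nat.card B * B.relIndex A := by ring
    _ ≤ Nat.card ↥(A ⊓ B) * Nat.card B * B.relIndex (A ⊔ B) := Nat.mul_le_mul_left _ h3
    _ = _ := by ring

theorem num : ∀ m < 28, 1 ≤ m → ∀ c < 3, 1 ≤ c → 1 < (81 * m + c) / Nat.gcd (81 * m + c) (30 ^ 12) ∧
    Nat.gcd ((81 * m + c) / Nat.gcd (81 * m + c) (30 ^ 12)) 30 = 1 := by decide +kernel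

theorem num' {m c : ℕ} (h1 : 81 * m + c ≤ 3 * 3 ^ 6) (h2 : 1 ≤ m) (h3 : 1 ≤ c) (h4 : c ≤ 2) :
    ∃ r, r.Prime ∧ r ∣ 81 * m + c ∧ 5 < r := by
  obtain ⟨k1, k2⟩ := num m (by omega) h2 c (by omega) h3
  have k3 := Nat.minFac_prime k1.ne'
  refine ⟨_, k3, (Nat.minFac_dvd _).trans (Nat.div_dvd_of_dvd (Nat.gcd_dvd_left _ _)), ?_⟩
  by_contra k4
  have k5 := Nat.dvd_gcd (Nat.minFac_dvd _) (show Nat.minFac ((81 * m + c) / Nat.gcd (81 * m + c) (30 ^ 12)) ∣ 30 by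
    generalize Nat.minFac _ = r at k3 k4
    have := k3.two_le
    have k6 : r ≠ 4 := fun e => absurd (e ▸ k3) (by norm_num)
    interval_cases r <;> omega)
  rw [k2] at k5
  exact k3.one_lt.ne' (Nat.dvd_one.1 k5)

end tools

variable {G : Type} [Group G] [Finite G] {T S S' B : Subgroup G} {Pt : G → Prop} {Q : G → Subgroup G} {Δ P : Set G}
  {k m : ℕ} {p q w : G}

/-- the geometry with a set of transpositions -/
structure RG (T : Subgroup G) (Pt : G → Prop) (Q : G → Subgroup G) (Δ : Set G) (k : ℕ) : Prop where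
  geo : Geo T Pt Q
  small : ∀ {p w}, Pt p → Pt w → Commute p w → w ∉ Q p → Nat.card ↥(Q p ⊓ centralizer {w}) ≤ 3 ^ 6
  quad : ∀ {p w}, Pt p → Pt w → Commute p w → w ∉ Q p → (∀ x ∈ Q p, Commute (x * w * x⁻¹ * w⁻¹) w) ∨
    (∀ a b, Pt a → Pt b → a ∈ Q p → b ∈ Q p → Commute a w → Commute b w → a * b ∈ zpowers p ∨ Pt (a * b))
  sq : ∀ d ∈ Δ, d * d = 1
  ninv : ∀ d ∈ Δ, ∀ {p}, Pt p → d * p * d⁻¹ ≠ p⁻¹
  card : ∀ {p}, Pt p → p ∈ centralizer Δ → 3 ^ k ≤ Nat.card ↥(Q p ⊓ centralizer Δ)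
  nd : ∀ {p w}, Pt p → p ∈ centralizer Δ → w ∈ Q p ⊓ centralizer Δ → (∀ x ∈ Q p ⊓ centralizer Δ, Commute w x) →
    w ∈ zpowers p
  hk : 7 ≤ k

/-- the hypotheses on `B` -/
structure Bd (T C S B : Subgroup G) (m : ℕ) : Prop where
  nC : ∀ s ∈ S, ∀ c ∈ C, s * c * s⁻¹ ∈ C
  nrm : ∀ Y : Subgroup G, Y ≤ T ⊓ C → Y ≠ ⊥ → IsPGroup 3 Y → (∀ s ∈ S, ∀ y ∈ Y, s * y * s⁻¹ ∈ Y) →
    T ⊓ C ⊓ normalizer (Y : Set G) ≤ B
  le : B ≤ S
  bd : ∀ U ≤ B, IsPGroup 3 U → Nat.card U ≤ 3 ^ m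
  big : 3 ^ (m + 1) ∣ Nat.card ↥(T ⊓ C)

variable (R : RG T Pt Q Δ k)

include R

/-- a 3-group over `X p` centralises `p` -/
theorem RG.cent (hp : Pt p) (hc : p ∈ centralizer Δ) {U : Subgroup G} (hU : IsPGroup 3 U) (h1 : U ≤ centralizer Δ)
    (h2 : Q p ⊓ centralizer Δ ≤ U) : U ≤ centralizer {p} := by
  have H := R.geo
  by_contra h3
  obtain ⟨g, hg, h4⟩ := SetLike.exists_of_lt (SporB.exists_norm_gt Nat.prime_three hU
    (lt_of_le_of_ne (inf_le_left (b := centralizer {p})) fun e => h3 (e ▸ inf_le_right)))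
  have h5 : ∀ x ∈ U ⊓ centralizer {p}, Commute x (g * p * g⁻¹) := fun x hx => by
    have := conj_comm (mem_cen.1 (SporB.conj_of_norm (inv_mem hg.2) hx).2) g
    rwa [show g * (g⁻¹ * x * g⁻¹⁻¹) * g⁻¹ = x by group] at this
  have h6 : ∀ x ∈ Q p ⊓ centralizer Δ, x ∈ U ⊓ centralizer {p} := fun x hx => ⟨h2 hx, mem_cen.2 (H.comm hp hx.1)⟩
  have h7 : g * p * g⁻¹ ∈ Q p := by
    by_contra h7
    have h8 := (R.card hp hc).trans ((card_le_of_le fun x hx => mem_inf.2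
      ⟨(mem_inf.1 hx).1, mem_cen.2 (h5 x (h6 x hx))⟩).trans
      (R.small hp (H.conj hp g) (h5 p (h6 p ⟨H.self hp, hc⟩)) h7))
    have := R.hk
    rw [Nat.pow_le_pow_iff_right (by norm_num)] at h8
    omega
  refine h4 ⟨hg.1, mem_cen.2 ?_⟩
  rcases zp (H.cube hp) (R.nd hp hc ⟨h7, cj (h1 hg.1) hc⟩
    fun x hx => (h5 x (h6 x hx)).symm) with e | e | e
  · exact absurd e (H.ne (H.conj hp g))
  · exact mul_inv_eq_iff_eq_mul.1 e
  · obtain ⟨j, hj⟩ := hU ⟨g, hg.1⟩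
    obtain ⟨i, hi⟩ : Odd (3 ^ j) := Odd.pow (by decide)
    have h8 : Commute (g ^ 2) p := mul_inv_eq_iff_eq_mul.1 (by
      rw [show g ^ 2 * p * (g ^ 2)⁻¹ = g * (g * p * g⁻¹) * g⁻¹ by rw [pow_two]; group, e, ← conj_inv, e, inv_inv])
    have h9 : g ^ 3 ^ j = 1 := congrArg Subtype.val hj
    rw [hi, pow_succ, pow_mul] at h9
    rw [eq_inv_of_mul_eq_one_right h9]
    exact (h8.pow_left i).inv_left

/-- a Sylow subgroup which centralises `p` -/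
theorem RG.sylow (hp : Pt p) (hc : p ∈ centralizer Δ) {n : ℕ} (h : 3 ^ n ∣ Nat.card ↥(T ⊓ centralizer Δ)) :
    ∃ U ≤ T ⊓ centralizer Δ ⊓ centralizer {p}, IsPGroup 3 U ∧ 3 ^ n ∣ Nat.card U := by
  have : Fact (Nat.Prime 3) := ⟨Nat.prime_three⟩
  have H := R.geo
  obtain ⟨V, hV⟩ := (((H.es hp).isPGroup.to_inf_left (K := centralizer Δ)).comap_subtype
    (K := T ⊓ centralizer Δ)).exists_le_sylow
  have h1 : IsPGroup 3 ((V : Subgroup ↥(T ⊓ centralizer Δ)).map (T ⊓ centralizer Δ).subtype) := V.isPGroup'.map _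
  refine ⟨_, le_inf (map_subtype_le _) (R.cent hp hc h1 ((map_subtype_le _).trans inf_le_right) fun x hx =>
    ⟨⟨x, H.Q_le hp hx.1, hx.2⟩, hV hx, rfl⟩), h1, ?_⟩
  rw [card_map_of_injective (subtype_injective _), V.card_eq_multiplicity]
  exact pow_dvd_pow 3 ((Nat.prime_three.pow_dvd_iff_le_factorization Nat.card_pos.ne').1 h)

theorem RG.ab (hp : Pt p) (hc : p ∈ centralizer Δ) {W : Subgroup G} (hW : W ≤ Q p ⊓ centralizer Δ)
    (h : ∀ x ∈ W, ∀ y ∈ W, Commute x y) : Nat.card W * Nat.card W ≤ Nat.card ↥(Q p ⊓ centralizer Δ) * 3 := by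
  have H := R.geo
  refine (DS.Sp.F24.card_sq_le Nat.prime_three (H.card_zp hp) (Q := Q p ⊓ centralizer Δ)
    (fun x hx y hy => (H.es hp).com x hx.1 y hy.1)
    (fun x hx a ha => ((H.es hp).cen a ha x hx.1).symm) hW h).trans (Nat.mul_le_mul_left _ ?_)
  rw [← H.card_zp hp]
  exact card_le_of_le fun x hx => R.nd hp hc (hW hx.1) fun y hy => (mem_centralizer_iff.1 hx.2 y hy).symm

variable (hB : Bd T (centralizer Δ) S B m) (hm : 2 * m + 4 ≤ 3 * k)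

include hB hm

/-- two collinear points -/
theorem pair (hp : Pt p) (hq : Pt q) (cp : p ∈ centralizer Δ) (cq : q ∈ centralizer Δ) (h : q ∈ Q p) (hn : q ∉ zpowers p)
    (h1 : Q p ⊓ centralizer Δ ≤ B) (h2 : Q q ⊓ centralizer Δ ≤ B) : False := by
  have H := R.geo
  have h3 := card_le_mul (Q p ⊓ centralizer Δ) (zpowers p) q fun b hb => (H.es hp).com b hb.1 q h
  have h4 := card_mul_le (Q p ⊓ centralizer Δ ⊓ centralizer {q}) (Q q ⊓ centralizer Δ)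
  have h5 := hB.bd _ (sup_le (inf_le_left.trans h1) h2) (((H.es hp).isPGroup.to_inf_left.to_inf_left
    (K := centralizer {q})).to_sup_of_normal_right' (H.es hq).isPGroup.to_inf_left (le_norm fun g hg y hy =>
      ⟨H.norm hq (mem_cen.1 hg.2) hy.1, cj hg.1.2 hy.2⟩))
  have h6 := R.ab hq cq (W := Q p ⊓ centralizer Δ ⊓ centralizer {q} ⊓ (Q q ⊓ centralizer Δ)) inf_le_right
    fun x hx y hy => H.comm_inf hp hq hn hx.1.1.1 hx.2.1 hy.1.1.1 hy.2.1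
  have h7 := R.card hp cp
  have h8 := R.card hq cq
  rw [H.card_zp hp] at h3
  generalize Nat.card ↥(Q p ⊓ centralizer Δ ⊓ centralizer {q} ⊓ (Q q ⊓ centralizer Δ)) = ω at h4 h6
  generalize Nat.card ↥(Q p ⊓ centralizer Δ ⊓ centralizer {q} ⊔ Q q ⊓ centralizer Δ) = u at h4 h5
  generalize Nat.card ↥(Q p ⊓ centralizer Δ ⊓ centralizer {q}) = γ at h3 h4
  generalize Nat.card ↥(Q q ⊓ centralizer Δ) = β at h4 h6 h8
  have h9 : 3 ^ k * β ≤ 3 * (3 ^ m * ω) :=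
    calc 3 ^ k * β ≤ 3 * γ * β := Nat.mul_le_mul_right _ (h7.trans h3)
      _ ≤ _ := by
        rw [mul_assoc]
        exact Nat.mul_le_mul_left _ (h4.trans (Nat.mul_le_mul_right _ h5))
  have h10 : 3 ^ k * 3 ^ k * 3 ^ k * β ≤ 3 ^ (2 * m + 3) * β :=
    calc 3 ^ k * 3 ^ k * 3 ^ k * β ≤ 3 ^ k * 3 ^ k * β * β := Nat.mul_le_mul_right _ (Nat.mul_le_mul_left _ h8)
      _ = 3 ^ k * β * (3 ^ k * β) := by ring
      _ ≤ 3 * (3 ^ m * ω) * (3 * (3 ^ m * ω)) := Nat.mul_le_mul h9 h9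
      _ = 9 * 3 ^ (2 * m) * (ω * ω) := by ring
      _ ≤ 9 * 3 ^ (2 * m) * (β * 3) := Nat.mul_le_mul_left _ h6
      _ = _ := by ring
  have h11 := Nat.le_of_mul_le_mul_right h10 ((pow_pos (by norm_num) k).trans_le h8)
  rw [← pow_add, ← pow_add, Nat.pow_le_pow_iff_right (by norm_num)] at h11
  omega

theorem sing {I : Set G} (hp : p ∈ I) (hI : ∀ a ∈ I, Pt a) (hc : ∀ a ∈ I, ∀ b ∈ I, b ∈ Q a)
    (hinv : ∀ s ∈ S, ∀ a ∈ I, s * a * s⁻¹ ∈ I) (hΔ : ∀ d ∈ Δ, ∀ a ∈ I, d * a * d⁻¹ ∈ I) : False := by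
  have H := R.geo
  have hle : ∀ a ∈ I, closure I ≤ Q a := fun a ha => (closure_le _).2 (hc a ha)
  have hcm : ∀ a ∈ I, ∀ b ∈ I, Commute a b := fun a ha b hb => H.comm (hI b hb) (hc b hb a ha)
  have hC : ∀ a ∈ I, a ∈ centralizer Δ := fun a ha => mem_centralizer_iff.2 fun d hd => by
    have h1 := hΔ d hd a ha
    by_cases h2 : d * a * d⁻¹ ∈ zpowers a
    · rcases zp (H.cube (hI a ha)) h2 with e | e | e
      · exact absurd e (H.ne (hI _ h1))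
      · exact mul_inv_eq_iff_eq_mul.1 e
      · exact absurd e (R.ninv d hd (hI a ha))
    · refine absurd ?_ (R.ninv d hd (H.pt_mul (hI a ha) (hI _ h1) (hc a ha _ h1) h2 (inv_mem (mem_zpowers a))))
      rw [← conj_mul, show d * (d * a * d⁻¹) * d⁻¹ = d * d * a * (d * d)⁻¹ by group, R.sq d hd]
      group
  have hs := hB.nrm (closure I) (le_inf ((hle p hp).trans (H.Q_le (hI p hp))) ((closure_le _).2 hC))
    (fun e => H.ne (hI p hp) (mem_bot.1 (e ▸ subset_closure hp))) (closure_pg hcm fun a ha => H.cube (hI a ha))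
    fun s hs y hy => conj_closure (fun a ha => subset_closure (hinv s hs a ha)) hy
  have h5 : ∀ a ∈ I, Q a ⊓ centralizer Δ ≤ B := fun a ha => (le_inf (inf_le_inf_right _ (H.Q_le (hI a ha)))
    (le_norm fun g hg y hy => by
      have h6 := mul_mem (zpowers_le.2 (subset_closure ha) ((H.es (hI a ha)).com g hg.1 y (hle a ha hy))) hy
      rwa [inv_mul_cancel_right] at h6)).trans hs
  by_cases h1 : ∀ a ∈ I, a ∈ zpowers p
  · obtain ⟨U, h2, h3, h4⟩ := R.sylow (hI p hp) (hC p hp) hB.big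
    have h6 := (Nat.le_of_dvd Nat.card_pos h4).trans (hB.bd U (h2.trans ((inf_le_inf_left _ (le_norm fun g hg y hy =>
      conj_closure (fun a ha => by
        rw [conj_of_comm (comm_zp (mem_cen.1 hg) (h1 a ha))]
        exact subset_closure ha) hy)).trans hs)) h3)
    rw [Nat.pow_le_pow_iff_right (by norm_num)] at h6
    omega
  push Not at h1
  obtain ⟨q, hq, h1⟩ := h1
  exact pair R hB hm (hI p hp) (hI q hq) (hC p hp) (hC q hq) (hc p hp q hq) h1 (h5 p hp) (h5 q hq)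

variable (O : Orb S' Pt Q P) (hS : S ≤ S') (hΔ : ∀ d ∈ Δ, d ∈ S')

include O hS hΔ

theorem case1 (hp : p ∈ P) (h1 : ∀ p ∈ P, ∀ a ∈ Lam Pt Q P p, ∀ b ∈ Lam Pt Q P p, b ∈ Q a) : False := by
  have H := R.geo
  have hsub : ∀ p ∈ P, ∀ p' ∈ P, p' ∈ Q p → ∀ q ∈ Lam Pt Q P p, q ∈ Lam Pt Q P p' := fun p hp p' hp' h q hq =>
    ⟨hq.1, h1 p hp p' (H.mem_Lam O hp hp' h) q hq, hq.2.2⟩
  have a0 := O.pt p hp
  obtain ⟨w, hw, hn⟩ := O.far p hp
  obtain ⟨q, hq, h2⟩ := H.exists_Lam O hp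
  obtain ⟨z, hz, h3⟩ := H.Lam_meet O hp hw hn hq
  have hy := H.Lam_mul O hp hq h2 hz (mul_mem hq.2.1 ((H.es a0).le hz))
  have h4 : q * z ∉ zpowers p := fun e => h2 ((Subgroup.mul_mem_cancel_right _ hz).1 e)
  generalize q * z = y at h3 hy h4
  have hy' : y ∈ Lam Pt Q P w := ⟨hy.1, h3, hy.2.2⟩
  have h5 : y ∉ zpowers w := fun e => hn (mem_of_zp (H.cube (O.pt w hw)) e (H.ne hy.1) hy.2.1)
  have key : ∀ s ∈ S', ∀ a, (∀ u ∈ P, a ∈ Lam Pt Q P u) → ∀ u ∈ P, s * a * s⁻¹ ∈ Lam Pt Q P u := fun s hs a ha u hu => by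
    have h6 := O.inv s⁻¹ (inv_mem hs) u hu
    have h7 := H.Lam_conj O (O.pt _ h6) hs (ha _ h6)
    rwa [show s * (s⁻¹ * u * s⁻¹⁻¹) * s⁻¹ = u by group] at h7
  refine sing R hB hm (I := {a | ∀ u ∈ P, a ∈ Lam Pt Q P u}) (p := y) (fun u hu => ⟨hy.1, ?_, hy.2.2⟩)
    (fun a ha => (ha p hp).1) (fun a ha b hb => h1 p hp a (ha p hp) b (hb p hp)) (fun s hs => key s (hS hs))
    fun s hs => key s (hΔ s hs)
  by_contra h6
  obtain ⟨z1, hz1, b1⟩ := H.Lam_meet O hp hu (fun e => h6 (hsub p hp u hu e y hy).2.1) hy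
  obtain ⟨z2, hz2, b2⟩ := H.Lam_meet O hw hu (fun e => h6 (hsub w hw u hu e y hy').2.1) hy'
  have c1 := H.Lam_mul O hp hy h4 hz1 b1
  have c2 := h1 u hu _ c1 _ (H.Lam_mul O hw hy' h5 hz2 b2)
  have c3 := h1 p hp _ (H.Lam_mul O hp hy h4 hz1 (mul_mem hy.2.1 ((H.es a0).le hz1))) y hy
  have c4 := mem_of_zp (H.cube (O.pt w hw)) hz2 (fun e => h6 (by rwa [e, mul_one] at b2))
    (((Q _).mul_mem_cancel_left c3).1 c2)
  exact H.not_symm O hp hw hn (mem_of_zp (H.cube a0) hz1 (fun e => h6 (by rwa [e, mul_one] at b1))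
    (((Q w).mul_mem_cancel_left h3).1 (H.symm c1.1 (O.pt w hw) c4)))

theorem case2 (hC : ∀ p ∈ P, p ∈ centralizer Δ) (hk : m ≤ k ∨ 9 ≤ k ∧ ∀ r : ℕ, r.Prime → r ∣ P.ncard → r ≤ 5) (hp : p ∈ P)
    (h2 : ∀ p ∈ P, ∃ q ∈ Lam Pt Q P p, ∃ q' ∈ Lam Pt Q P p, q' ∉ Q q) : False := by
  have : Fact (Nat.Prime 3) := ⟨Nat.prime_three⟩
  have H := R.geo
  have a0 := O.pt p hp
  have hcm : ∀ a ∈ Lam Pt Q P p ∪ P, ∀ b ∈ Lam Pt Q P p ∪ P, Commute a b := by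
    rintro a (ha | ha) b (hb | hb)
    · exact H.Lam_comm O hp ha hb
    · exact ha.2.2 b hb
    · exact (hb.2.2 a ha).symm
    · exact O.comm a ha b hb
  have hP : ∀ u ∈ P, u ∈ closure (Lam Pt Q P p ∪ P) := fun u hu => subset_closure (Or.inr hu)
  have hT : closure (Lam Pt Q P p ∪ P) ≤ T := (closure_le _).2 (by
    rintro a (ha | ha)
    · exact H.Q_le a0 ha.2.1
    · exact H.Q_le (O.pt a ha) (H.self (O.pt a ha)))
  have hs := hB.nrm (closure (Lam Pt Q P p ∪ P) ⊓ centralizer Δ) (inf_le_inf_right _ hT)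
    (fun e => H.ne a0 (mem_bot.1 (e ▸ ⟨hP p hp, hC p hp⟩))) ((closure_pg hcm (by
      rintro a (ha | ha)
      · exact H.cube ha.1
      · exact H.cube (O.pt a ha))).to_inf_left) fun s hs y hy => ⟨H.A_le O h2 (O.inv s (hS hs) p hp) hp (conj_closure (by
      rintro a (ha | ha)
      · exact subset_closure (Or.inl (H.Lam_conj O a0 (hS hs) ha))
      · exact subset_closure (Or.inr (O.inv s (hS hs) a ha))) hy.1), hB.nC s hs y hy.2⟩
  have hX : ∀ u ∈ P, Q u ⊓ centralizer Δ ≤ B := fun u hu => by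
    have a1 := O.pt u hu
    obtain ⟨w, hw, hn⟩ := O.far u hu
    have hq : ∀ x ∈ Q u, Commute (x * w * x⁻¹ * w⁻¹) w := by
      refine (R.quad a1 (O.pt w hw) (O.comm u hu w hw) hn).resolve_right fun h => ?_
      obtain ⟨q, hq, q', hq', -, -, h1⟩ := H.pairW O h2 hu hw hn
      have key : ∀ b, Pt b → b ∈ Q u → Commute b w → b ∉ Q q → Pt (q * b) := fun b b1 b2 b3 b4 =>
        (h q b hq.1 b1 hq.2.1 b2 (hq.2.2 w hw) b3).resolve_left fun e =>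
          b4 (((Q q).mul_mem_cancel_left (H.self hq.1)).1 (H.zp_le a1 hq.1 hq.2.1 e))
      exact h1 (H.symm hq'.1 hq.1 (H.pure hq'.1 hq.1 (H.Lam_comm O hu hq' hq)
        (key q' hq'.1 hq'.2.1 (hq'.2.2 w hw) h1)
        (key q'⁻¹ (H.inv hq'.1) (inv_mem hq'.2.1) (hq'.2.2 w hw).inv_left fun e => h1 (inv_mem_iff.1 e))))
    refine (le_inf (inf_le_inf_right _ (H.Q_le a1)) (le_norm fun g hg y hy => mem_inf.2
      ⟨H.A_le O h2 hu hp ?_, cj hg.2 (mem_inf.1 hy).2⟩)).trans hs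
    have k1 : ∀ x ∈ Q u, x ∈ closure (Lam Pt Q P u ∪ P) → g * x * g⁻¹ ∈ closure (Lam Pt Q P u ∪ P) := fun x hx h => by
      have h6 := mul_mem (zp_mem hu ((H.es a1).com g hg.1 x hx) _) h
      rwa [inv_mul_cancel_right] at h6
    have k2 : g * w * g⁻¹ ∈ closure (Lam Pt Q P u ∪ P) := by
      have h6 := mul_mem (H.D_mem O h2 hu hw hn (x := g * w * g⁻¹ * w⁻¹) (by
        rw [mul_assoc, mul_assoc, ← mul_assoc w]
        exact mul_mem hg.1 (H.norm a1 (O.comm w hw u hu) (inv_mem hg.1))) (hq g hg.1)) (zp_mem hw (mem_zpowers w) _)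
      rwa [inv_mul_cancel_right] at h6
    refine conj_closure ?_ (H.A_le O h2 hp hu (mem_inf.1 hy).1)
    rintro a (ha | ha)
    · exact k1 a ha.2.1 (subset_closure (Or.inl ha))
    · obtain ⟨v, ⟨j, rfl⟩, h3⟩ := H.near O h2 hu hw hn ha
      have h4 := k1 _ h3 (mul_mem (subset_closure (Or.inr ha)) (zp_mem hw (zpow_mem_zpowers w j) _))
      rw [← conj_mul, ← conj_zpow] at h4
      exact (Subgroup.mul_mem_cancel_right _ (zpow_mem k2 j)).1 h4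
  obtain ⟨w, hw, hn⟩ := O.far p hp
  have h3 := R.card a0 (hC p hp)
  have h4 : IsPGroup 3 ↥(Q p ⊓ centralizer Δ) := (H.es a0).isPGroup.to_inf_left
  rcases hk with hk | ⟨hk, hr⟩
  · have h5 : w ∈ B := hX w hw ⟨H.self (O.pt w hw), hC w hw⟩
    have h6 := hB.bd _ (sup_le (zpowers_le.2 h5) (hX p hp)) ((IsPGroup.of_card (n := 1)
      (H.card_zp (O.pt w hw))).to_sup_of_normal_right' h4 (zpowers_le.2 (mem_normalizer_fintype fun y hy =>
        ⟨H.norm a0 (O.comm w hw p hp) hy.1, cj (hC w hw) hy.2⟩)))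
    refine hn (((eq_of_le_of_card_ge (le_sup_right (a := zpowers w)) (h6.trans ((Nat.pow_le_pow_right (by norm_num)
      hk).trans h3))).ge (mem_sup_left (mem_zpowers w))).1)
  by_cases h5 : ∃ u ∈ P, u ∈ Q p ∧ u ∉ zpowers p
  · obtain ⟨u, hu, h5, h6⟩ := h5
    exact pair R hB hm a0 (O.pt u hu) (hC p hp) (hC u hu) h5 h6 (hX p hp) (hX u hu)
  push Not at h5
  have h6 : 81 ∣ (P \ zpowers p).ncard := by
    refine dvd_ncard (H := Q p ⊓ centralizer Δ) _ _ rfl (fun h hh x hx => ⟨O.inv h (hS (hB.le (hX p hp hh))) x hx.1,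
      fun e => hx.2 ?_⟩) fun u hu => ?_
    · have h6 := conj_of_comm (comm_zp (H.comm a0 hh.1) e).inv_left
      rw [show h⁻¹ * (h * x * h⁻¹) * h⁻¹⁻¹ = x by group] at h6
      exact h6 ▸ e
    · have h6 : u ∉ Q p := fun e => hu.2 (h5 u hu.1 e)
      have h7 := R.ab a0 (hC p hp) (W := Q p ⊓ centralizer Δ ⊓ centralizer {u}) inf_le_left fun x hx y hy =>
        closure_comm (fun a ha b hb => H.Lam_comm O hp ha hb) (H.D_le O h2 hp hu.1 h6 ⟨hx.1.1, hx.2⟩)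
          (H.D_le O h2 hp hu.1 h6 ⟨hy.1.1, hy.2⟩)
      have h8 := card_orbit (Q p ⊓ centralizer Δ) u
      obtain ⟨a, ha⟩ := IsPGroup.iff_card.1 h4
      obtain ⟨b, -, hb⟩ := (Nat.dvd_prime_pow Nat.prime_three).1 (ha ▸ Dvd.intro _ h8)
      obtain ⟨c, -, hc⟩ := (Nat.dvd_prime_pow Nat.prime_three).1 (ha ▸ Dvd.intro_left _ h8)
      rw [hb, hc, ha, ← pow_add, Nat.pow_right_inj (by norm_num)] at h8
      rw [hc, ha, ← pow_add, ← pow_succ, Nat.pow_le_pow_iff_right (by norm_num)] at h7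
      rw [ha, Nat.pow_le_pow_iff_right (by norm_num)] at h3
      exact hb ▸ pow_dvd_pow 3 (show 4 ≤ b by omega)
  have h7 : P.ncard ≤ 3 * 3 ^ 6 := by
    have h7 : P ⊆ Set.image2 (· * ·) (Q p ⊓ centralizer {w} : Subgroup G) (zpowers w : Set G) := fun u hu => by
      obtain ⟨v, hv, h8⟩ := H.near O h2 hp hw hn hu
      exact ⟨u * v, ⟨h8, mem_cen.2 ((O.comm u hu w hw).mul_left (H.comm_P O hw hv hw))⟩, v⁻¹, inv_mem hv, by group⟩
    refine (Set.ncard_le_ncard h7).trans (le_trans (Nat.card_coe_set_eq _).ge ((Set.natCard_mul_le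
      (s := ((Q p ⊓ centralizer {w} : Subgroup G) : Set G)) (t := (zpowers w : Set G))).trans ?_))
    rw [mul_comm]
    exact Nat.mul_le_mul (H.card_zp (O.pt w hw)).le (R.small a0 (O.pt w hw) (O.comm p hp w hw) hn)
  have h8 := Set.ncard_inter_add_ncard_sdiff_eq_ncard P (zpowers p)
  have h9 : 0 < (P ∩ zpowers p).ncard := (Set.ncard_pos (Set.toFinite _)).2 ⟨p, hp, mem_zpowers p⟩
  have h10 : (P ∩ zpowers p).ncard ≤ 2 := (Set.ncard_le_ncard (t := {p, p⁻¹}) fun u hu =>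
    (zp (H.cube a0) hu.2).resolve_left (H.ne (O.pt u hu.1))).trans ((Set.ncard_insert_le _ _).trans (by simp))
  have h11 : 0 < (P \ zpowers p).ncard := (Set.ncard_pos (Set.toFinite _)).2 ⟨w, hw, fun e => hn ((H.es a0).le e)⟩
  obtain ⟨n, h6⟩ := h6
  obtain ⟨r, k1, k2, k3⟩ := num' (m := n) (c := (P ∩ zpowers p).ncard) (by omega) (by omega) h9 h10
  exact (hr r k1 (by rwa [← h8, h6, add_comm])).not_gt k3

omit O hS hΔ in
theorem geo_rel (hk : m ≤ k ∨ 9 ≤ k ∧ ∀ r : ℕ, r.Prime → r ∣ Nat.card S → r ≤ 5) {z : G} (hz : Pt z)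
    (cz : z ∈ centralizer Δ) (hc : ∀ s ∈ S, Commute z (s * z * s⁻¹)) : False := by
  have H := R.geo
  let P : Set G := {p | ∃ s ∈ S, s * z * s⁻¹ = p}
  have hP : z ∈ P := ⟨1, one_mem _, by group⟩
  have h1 : ∀ p ∈ P, Pt p := by
    rintro _ ⟨s, -, rfl⟩
    exact H.conj hz s
  have hC : ∀ p ∈ P, p ∈ centralizer Δ := by
    rintro _ ⟨s, hs, rfl⟩
    exact hB.nC s hs z cz
  have h2 : ∀ s ∈ S, ∀ p ∈ P, s * p * s⁻¹ ∈ P := by
    rintro s hs _ ⟨t, ht, rfl⟩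
    exact ⟨s * t, mul_mem hs ht, by group⟩
  have h2' : ∀ d ∈ Δ, ∀ p ∈ P, d * p * d⁻¹ ∈ P := fun d hd p hp => by
    rwa [mem_centralizer_iff.1 (hC p hp) d hd, mul_inv_cancel_right]
  have h3 : ∀ p ∈ P, ∀ w ∈ P, ∃ s ∈ S, s * p * s⁻¹ = w := by
    rintro _ ⟨s, hs, rfl⟩ _ ⟨t, ht, rfl⟩
    exact ⟨t * s⁻¹, mul_mem ht (inv_mem hs), by group⟩
  have h4 : ∀ s ∈ S, ∀ w ∈ P, ∃ u ∈ P, s * u * s⁻¹ = w := fun s hs w hw =>
    ⟨_, h2 s⁻¹ (inv_mem hs) w hw, by group⟩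
  by_cases h5 : ∀ p ∈ P, ∃ w ∈ P, w ∉ Q p
  swap
  · push Not at h5
    obtain ⟨p, hp, h5⟩ := h5
    refine sing R hB hm hP h1 (fun a ha b hb => ?_) h2 h2'
    obtain ⟨s, hs, rfl⟩ := h3 p hp a ha
    obtain ⟨u, hu, rfl⟩ := h4 s hs b hb
    exact H.Q_conj (h1 p hp) s u (h5 u hu)
  have hS : S ≤ normalizer P := fun s hs => mem_normalizer_fintype (h2 s hs)
  have hΔ : ∀ d ∈ Δ, d ∈ normalizer P := fun d hd => mem_normalizer_fintype (h2' d hd)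
  have O : Orb (normalizer P) Pt Q P := ⟨h1, by
    rintro _ ⟨s, hs, rfl⟩ _ ⟨t, ht, rfl⟩
    have h6 := Geo.conj_comm (hc _ (mul_mem (inv_mem hs) ht)) s
    rwa [show s * (s⁻¹ * t * z * (s⁻¹ * t)⁻¹) * s⁻¹ = t * z * t⁻¹ by group] at h6,
    fun s hs p hp => (mem_set_normalizer_iff.1 hs p).1 hp,
    fun p hp w hw => (h3 p hp w hw).imp fun s hs => ⟨hS hs.1, hs.2⟩, h5⟩
  by_cases h6 : ∀ p ∈ P, ∃ q ∈ Geo.Lam Pt Q P p, ∃ q' ∈ Geo.Lam Pt Q P p, q' ∉ Q q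
  · exact case2 R hB hm O hS hΔ hC (hk.imp_right fun h => ⟨h.1, fun r hr hd =>
      h.2 r hr (hd.trans (Dvd.intro _ (card_orbit S z)))⟩) hP h6
  · push Not at h6
    obtain ⟨p, hp, h6⟩ := h6
    refine case1 R hB hm O hS hΔ hP fun u hu a ha b hb => ?_
    obtain ⟨s, hs, rfl⟩ := h3 u hu p hp
    have h7 := H.Lam_conj O (h1 u hu) (hS hs) ha
    have h8 := H.Q_conj h7.1 s⁻¹ _ (h6 _ h7 _ (H.Lam_conj O (h1 u hu) (hS hs) hb))
    rwa [show s⁻¹ * (s * a * s⁻¹) * s⁻¹⁻¹ = a by group, show s⁻¹ * (s * b * s⁻¹) * s⁻¹⁻¹ = b by group] at h8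

end Cfsg.Agent.N2.Sp4.FR
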