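import Cfsg.Agent.N2.Sp4.FR
import Cfsg.Agent.SB.SporB.F24Fi
import Cfsg.Agent.H842.RadTwoB
import Cfsg.Agent.N2.Sp4.Odd
import Cfsg.Agent.S2079

/-!
# S3519: the 3-local case in `Fi23` and `Fi22` (helper15)
-/

set_option autoImplicit false
set_option linter.unusedSectionVars false
set_option maxRecDepth 100000

namespace Cfsg.Agent.N2.Sp4.FR

open Subgroup Cfsg Cfsg.Agent.FP3 Cfsg.Agent.SB Cfsg.Agent.SB.F24 Cfsg.Agent.SB.F24.Geo Cfsg.Agent.N2.Sp4T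
open Cfsg.Agent.H841.Ext (ES)

section ph

variable {G : Type} [Group G] [Finite G] {Pt : G → Prop} {p w : G}

/-- the properties of a pair of commuting points which are not collinear -/
def Ph (Pt : G → Prop) (p : G) (Q : Subgroup G) (w : G) : Prop :=
  Nat.card ↥(Q ⊓ centralizer {w}) ≤ 3 ^ 6 ∧ ((∀ x ∈ Q, Commute (x * w * x⁻¹ * w⁻¹) w) ∨
    (∀ a b, Pt a → Pt b → a ∈ Q → b ∈ Q → Commute a w → Commute b w → a * b ∈ zpowers p ∨ Pt (a * b)))

theorem Ph.inv {Q : Subgroup G} (h : Ph Pt p Q w⁻¹) : Ph Pt p Q w := by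
  have e : centralizer ({w} : Set G) = centralizer {w⁻¹} := by
    ext x
    rw [mem_cen, mem_cen, Commute.inv_right_iff]
  refine ⟨e ▸ h.1, h.2.imp (fun k x hx => ?_) fun k a b h1 h2 h3 h4 h5 h6 => k a b h1 h2 h3 h4 h5.inv_right h6.inv_right⟩
  have h1 := Commute.inv_right_iff.1 (k x hx)
  rw [show x * w * x⁻¹ * w⁻¹ = w * (x * w⁻¹ * x⁻¹ * w⁻¹⁻¹)⁻¹ * w⁻¹ by group]
  exact ((Commute.refl w).mul_left h1.inv_left).mul_left (Commute.refl w).inv_left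

theorem Ph.map {Q Q' : Subgroup G} (e : G ≃* G) (hP : ∀ x, Pt (e x) ↔ Pt x) (hQ : ∀ x, e x ∈ Q' ↔ x ∈ Q) (h : Ph Pt p Q w) :
    Ph Pt (e p) Q' (e w) := by
  refine ⟨?_, h.2.imp (fun k x hx => ?_) fun k a b h4 h5 h6 h7 h8 h9 => ?_⟩
  · rw [Asm.card_eq e (A := Q ⊓ centralizer {w}) fun x => by rw [mem_inf, mem_inf, hQ, Asm.cent_iff]]
    exact h.1
  · obtain ⟨x, rfl⟩ := e.surjective x
    simpa using (k x ((hQ x).1 hx)).map e
  · obtain ⟨a, rfl⟩ := e.surjective a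
    obtain ⟨b, rfl⟩ := e.surjective b
    rw [← map_mul, Asm.zp_iff, hP]
    exact k a b ((hP a).1 h4) ((hP b).1 h5) ((hQ a).1 h6) ((hQ b).1 h7) ((Asm.comm_iff e).1 h8) ((Asm.comm_iff e).1 h9)

end ph

section model

open scoped Matrix
open Cfsg.Agent.Lib.PackMat Cfsg.Agent.Lib.PackMatGroup Cfsg.Agent.Lib.PackMatMul Cfsg.Agent.Lib.PackMatLin
open Cfsg.Agent.SB.F24.Md Cfsg.Agent.SB.F24.Md.Mod

variable {G : Type} [Group G] [Finite G] {D : Md.Mod G} {T : Subgroup G} {Pt : G → Prop} {LG : List G} {r t a b : G}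

/-- the points of `C(z)` outside `Q` -/
theorem gen (H : Cert D T Pt LG r t a b) {R : G → Prop} (hi : ∀ w, Commute D.z w → R w⁻¹ → R w)
    (hc : ∀ w g, Commute D.z g → R (g⁻¹ * w * g) → R w) (hr : R (r * D.z)) (ht : R t) {w : G} (hp : Pt w)
    (hz : Commute D.z w) (hw : w ∉ D.Q) : R w := by
  have cr : ∀ {x}, x ∈ D.Q → Pt (r * x) → R (r * x) := fun hx hp => by
    obtain ⟨g, hg, w, pw, e, h⟩ := coset H.cube H.conj H.hr (.cons (H.rp ev_cr0) (.cons (H.rp ev_cr1) .nil)) aff_r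
      H.dr.1 H.dr.2.1 H.dr.2.2 hx hp
    rcases h with rfl | rfl | rfl
    exacts [absurd pw H.nr.1, hc _ g hg (e ▸ hr), absurd pw H.nr.2]
  have ct : ∀ {x}, x ∈ D.Q → Pt (t * x) → R (t * x) := fun hx hp => by
    obtain ⟨g, hg, w, pw, e, h⟩ := coset H.cube H.conj H.ht (.cons (H.rp ev_ct0) (.cons (H.rp ev_ct1) .nil)) aff_t
      H.dt.1 H.dt.2.1 H.dt.2.2 hx hp
    rcases h with h | rfl | rfl
    exacts [hc _ g hg (by rw [e, h]; exact ht), absurd pw H.nt.1, absurd pw H.nt.2]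
  obtain ⟨K, h1, -, h2⟩ := H.sylow
  obtain ⟨h, hh, h3⟩ := h2 _ (Cert.pg_pair (H.cube hp) (H.cube hp) (Commute.refl w)) (by
    rw [sup_idem]
    rintro _ ⟨i, rfl⟩
    exact hz.zpow_right i)
  obtain ⟨s, hs, x, hx, e⟩ := h3 w (mem_sup_left (mem_zpowers w))
  obtain ⟨A, hA, hs⟩ := h1 s hs
  have hp' : Pt (s * x) := e ▸ H.conj'' hp h
  have s1 : s ≠ 1 := fun k => hw (by
    rw [show w = h * (h⁻¹ * w * h) * h⁻¹ by group, e, k, one_mul]
    exact D.norm' (D.comm hh) hx)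
  obtain ⟨e', he, rfl⟩ := List.mem_map.1 ((H.cls hA hs hx hp').resolve_left s1).1
  refine hc _ h (D.comm hh) (e ▸ ?_)
  have hE : List.Forall₂ D.Rep _ EC := .cons (H.rp ev_e0) (.cons (H.rp ev_e1) (.cons (H.rp ev_e2) (.cons (H.rp ev_e3)
    (.cons (H.rp ev_e4) .nil))))
  obtain ⟨c1, c2, -, -⟩ := cubes
  have hS : List.Forall₂ D.Rep [r, r * r, t, t * t] SL1 :=
    .cons H.hr (.cons (H.hr.mul H.hr) (.cons H.ht (.cons (H.ht.mul H.ht) .nil)))
  rcases (tb_spec hE H.hG hS (allL_spec tf_chk e' he)).2 s hs with h | h | ⟨c, hc', h⟩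
  · exact absurd h s1
  · exact absurd (pow_eq_one hs.1 hx (H.cube hp')) h
  refine hc _ c (D.comm hc') ?_
  have p := H.conj'' hp' c
  have q := D.nS hc' hx
  rw [show c⁻¹ * (s * x) * c = (c⁻¹ * s * c) * (c⁻¹ * x * c) by group] at p ⊢
  generalize c⁻¹ * x * c = y at p q
  generalize c⁻¹ * s * c = s' at p h
  simp only [List.mem_cons, List.not_mem_nil, or_false] at h
  rcases h with h | h | h | h <;> rw [h] at p ⊢
  · exact cr q p
  · obtain ⟨y', q', f⟩ := Cert.inv_cos H.hr.1 (H.hr.cube c1) q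
    refine hi _ (((D.comm H.hr.1).mul_right (D.comm H.hr.1)).mul_right (D.cQ q)) ?_
    rw [f]
    exact cr q' (f ▸ H.inv p)
  · exact ct q p
  · obtain ⟨y', q', f⟩ := Cert.inv_cos H.ht.1 (H.ht.cube c2) q
    refine hi _ (((D.comm H.ht.1).mul_right (D.comm H.ht.1)).mul_right (D.cQ q)) ?_
    rw [f]
    exact ct q' (f ▸ H.inv p)

theorem fix_six {s w : G} {M Cf Bf Df : ℕ} (hs : D.Rep s M) (h : fixC M Cf Bf Df = true)
    (hw : ∀ x ∈ D.Q, Commute w x → Commute s x) : Nat.card ↥(D.Q ⊓ centralizer {w}) ≤ 3 ^ 6 := by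
  have : Fact (Nat.Prime 3) := ⟨Nat.prime_three⟩
  choose σ h1 h2 using D.surj
  have k : ∀ x : ↥(D.Q ⊓ centralizer {w}), ∃ p : Fin 243 × zpowers D.z,
      (x : G) = σ (rowVec C (st (enc p.1) Bf)) * p.2 := by
    rintro ⟨x, hx, hc⟩
    obtain ⟨m, hm, -, e, -⟩ := fix_dec hs h hx (hw x hx (mem_centralizer_singleton_iff.1 hc).symm)
    obtain ⟨a, ha, f⟩ := D.vec_eq hx (h1 _) (e.trans (h2 _).symm)
    exact ⟨(⟨m, hm⟩, ⟨a, ha⟩), f⟩
  choose f hf using k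
  have hi : Function.Injective f := fun x y e => Subtype.ext (by rw [hf x, hf y, e])
  refine (Nat.card_le_card_of_injective f hi).trans ?_
  rw [Nat.card_prod, Nat.card_zpowers, orderOf_eq_prime D.z3 D.z1, Nat.card_eq_fintype_card, Fintype.card_fin]
  norm_num

theorem quad_chk : linB [(1, [Mr, Mr]), (1, [Mr]), (1, [])] = true := by decide +kernel

theorem quad_r (H : Cert D T Pt LG r t a b) {x : G} (hx : x ∈ D.Q) :
    Commute (x * (r * D.z) * x⁻¹ * (r * D.z)⁻¹) (r * D.z) := by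
  have hy := D.norm' (D.comm H.hr.1) hx
  have h1 : x * (r * D.z) * x⁻¹ * (r * D.z)⁻¹ = x * (r * x * r⁻¹)⁻¹ := by
    rw [mul_assoc x, mul_assoc r, (D.cQ (inv_mem hx)).eq]
    group
  have h2 : D.vec x = D.vec (r * x * r⁻¹) ᵥ* mat C Mr := by
    rw [← H.hr.2.2 _ hy]
    congr 1
    group
  have h3 := mul_mem hx (inv_mem hy)
  rw [h1]
  refine (D.split H.hr.1 h3 ?_).symm.mul_right (D.cQ h3).symm
  rw [H.hr.2.2 _ h3, D.add hx (inv_mem hy), D.vec_inv hy, h2]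
  generalize D.vec (r * x * r⁻¹) = v
  have h4 := congrArg (fun A => v ᵥ* A) (linB_spec quad_chk)
  simp only [linM, List.map_cons, List.map_nil, List.sum_cons, List.sum_nil, List.prod_cons, List.prod_nil, mul_one,
    Nat.cast_one, one_smul, add_zero, Matrix.vecMul_add, Matrix.vecMul_zero, Matrix.vecMul_one,
    ← Matrix.vecMul_vecMul] at h4
  have h5 : v ᵥ* mat C Mr + v ᵥ* mat C Mr + v ᵥ* mat C Mr = 0 := by
    have h5 := congrArg (· • (v ᵥ* mat C Mr)) three_eq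
    simp only [zero_smul] at h5
    rw [← h5, show (3 : ZMod C.p) = 1 + 1 + 1 by norm_num, add_smul, add_smul, one_smul]
  rw [Matrix.add_vecMul, Matrix.neg_vecMul, ← sub_eq_zero, ← sub_self (0 : V)]
  nth_rw 1 [← h4]
  rw [← h5]
  abel

theorem kind_t (H : Cert D T Pt LG r t a b) {x y : G} (px : Pt x) (py : Pt y) (hx : x ∈ D.Q) (hy : y ∈ D.Q)
    (cx : Commute x t) (cy : Commute y t) : x * y ∈ zpowers D.z ∨ Pt (x * y) := by
  have key : ∀ {x}, x ∈ D.Q → Commute x t → (Pt x → D.vec x ᵥ* mat C Fmt = 0) ∧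
      (D.vec x ᵥ* mat C Fmt = 0 → x ∈ zpowers D.z ∨ Pt x) := by
    intro x hx cx
    obtain ⟨c, hc, k, hk, e, f⟩ := fix_cls H.ht H.hG fix_t cls_t hx cx.symm
    obtain ⟨n1, n2, n3, -, n4, n5, n6⟩ := nz_vec
    have hq := D.nS hc hx
    have hk' : k < 5 := hk
    refine ⟨fun p => f.1 ?_, fun p => ?_⟩
    · have p' := H.conj'' p c
      interval_cases k
      · decide
      · decide
      · exact absurd p' (H.np_of H.pA n1 n4 hq e)
      · exact absurd p' (H.np_of H.pC n2 n5 hq e)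
      · exact absurd p' (H.np_of H.pD n3 n6 hq e)
    · have h1 := f.2 p
      interval_cases k
      · left
        have h2 := (D.ker hq).1 (e.trans rowVec_zero)
        have h3 := (D.cZ (D.comm hc) h2).eq
        rw [show x = c * (c⁻¹ * x * c) * c⁻¹ by group, ← h3, mul_inv_cancel_right]
        exact h2
      · exact Or.inr (H.conj' c (H.pt_v0 hq e))
  refine (key (mul_mem hx hy) (cx.mul_left cy)).2 ?_
  rw [D.add hx hy, Matrix.add_vecMul, (key hx cx).1 px, (key hy cy).1 py, add_zero]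

theorem ph0 (H : Cert D T Pt LG r t a b) {w : G} (hp : Pt w) (hz : Commute D.z w) (hw : w ∉ D.Q) : Ph Pt D.z D.Q w := by
  refine gen H (R := Ph Pt D.z D.Q) (fun _ _ => Ph.inv) (fun w g k1 k2 => ?_) ⟨fix_six H.hr fix_r fun x hx k => ?_,
    Or.inl fun x => quad_r H⟩ ⟨fix_six H.ht fix_t fun _ _ k => k, Or.inr fun a b => kind_t H⟩ hp hz hw
  · have h2 := k2.map (Q' := D.Q) (MulAut.conj g)
      (fun x => ⟨fun k => by simpa [mul_assoc] using H.conj'' k g, fun k => H.conj k g⟩) fun x => ⟨fun k => by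
        simpa [mul_assoc] using D.norm k1 k, D.norm' k1⟩
    rw [MulAut.conj_apply, conj_of_comm k1.symm] at h2
    simpa [mul_assoc] using h2
  · simpa using k.mul_left (D.cQ hx).inv_left

end model

section abs

variable {G : Type} [Group G] [Finite G] {T : Subgroup G} {Pt : G → Prop} {Q : G → Subgroup G} {p w : G}

/-- the fixed points of an involution form a non-degenerate subspace -/
theorem nd_step {Q X : Subgroup G} (E : ES (zpowers p) Q) (hX : X ≤ Q) {d : G} (d2 : d * d = 1) (dp : Commute d p)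
    (hn : ∀ x ∈ X, d * x * d⁻¹ ∈ X) (hw : w ∈ Q) (dw : Commute d w) (h : ∀ x ∈ X, Commute x d → Commute w x) :
    ∀ x ∈ X, Commute w x := by
  intro x hx
  have k : ∀ c ∈ zpowers p, c * c = 1 → c = 1 := fun c hc h2 => by
    rw [← E.cub c (E.le hc), pow_three', h2, one_mul]
  have e : d * (d * x * d⁻¹) * d⁻¹ = x := by
    rw [show d * (d * x * d⁻¹) * d⁻¹ = d * d * x * (d * d)⁻¹ by group, d2]
    group
  have h1 := hn x hx
  have h2 := E.com x (hX hx) w hw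
  have h3 : d * x * d⁻¹ * w * (d * x * d⁻¹)⁻¹ * w⁻¹ = x * w * x⁻¹ * w⁻¹ := by
    rw [← conj_of_comm (comm_zp dp h2)]
    nth_rw 1 [← conj_of_comm dw]
    nth_rw 2 [← conj_of_comm dw]
    group
  generalize h4 : d * x * d⁻¹ = y at e h1 h3
  have h5 := E.com x (hX hx) y (hX h1)
  have h6 : Commute x y := comm_of_eq_one (k _ h5 (by
    nth_rw 1 [← conj_of_comm (comm_zp dp h5)]
    rw [show d * (x * y * x⁻¹ * y⁻¹) * d⁻¹ = d * x * d⁻¹ * (d * y * d⁻¹) * (d * x * d⁻¹)⁻¹ * (d * y * d⁻¹)⁻¹ by group, h4, e]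
    group))
  have h7 := h _ (mul_mem hx h1) (Commute.symm (mul_inv_eq_iff_eq_mul.1 (by rw [← conj_mul, h4, e, h6.eq])))
  refine (comm_of_eq_one (k _ h2 ?_)).symm
  have h8 := (E.cen _ h2 x (hX hx)).eq
  calc _ = x * (y * w * y⁻¹ * w⁻¹) * x⁻¹ * (x * w * x⁻¹ * w⁻¹) := by rw [h3, ← h8, mul_inv_cancel_right]
    _ = x * y * w * (x * y)⁻¹ * w⁻¹ := by group
    _ = 1 := by rw [← h7.eq]; group

theorem exists_conj_le {Y W : Subgroup G} {n c : ℕ} (hN : Nat.card G = 3 ^ n * c) (hc : ¬ 3 ∣ c) (hY : IsPGroup 3 Y)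
    (hW : IsPGroup 3 W) (h : 3 ^ n ∣ Nat.card W) : ∃ g, ∀ y ∈ Y, g⁻¹ * y * g ∈ W := by
  have : Fact (Nat.Prime 3) := ⟨Nat.prime_three⟩
  obtain ⟨P, hP⟩ := hW.exists_le_sylow
  obtain ⟨P', hP'⟩ := hY.exists_le_sylow
  obtain ⟨g, rfl⟩ := MulAction.exists_smul_eq G P P'
  refine ⟨g, fun y hy => ?_⟩
  rw [eq_of_le_of_card_ge hP ((Nat.le_of_dvd (by positivity) (pg_le Nat.prime_three P.isPGroup'
    (hN ▸ card_subgroup_dvd_card _) hc)).trans (Nat.le_of_dvd Nat.card_pos h))]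
  obtain ⟨x, hx, e⟩ := hP' hy
  rw [← e]
  simp only [MulDistribMulAction.toMonoidEnd_apply, MulDistribMulAction.toMonoidHom_apply, MulAut.smul_def,
    MulAut.conj_apply, mul_assoc, inv_mul_cancel_left, inv_mul_cancel, mul_one]
  exact hx

variable {K : Type} [Group K] [Finite K] {C N : Subgroup G} {ψ : ↥(T ⊓ C) →* K} {φ : N →* MulAut K}

/-- `T ⊓ C` covers `K` and `N` covers its automorphism group -/
structure Cov (T C N : Subgroup G) (ψ : ↥(T ⊓ C) →* K) (φ : N →* MulAut K) : Prop where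
  sψ : Function.Surjective ψ
  sφ : Function.Surjective φ
  ker : ∀ x, ψ x = 1 → x * x = 1 ∧ ∀ y, Commute x y
  le : T ⊓ C ≤ N
  nC : ∀ s ∈ N, ∀ c ∈ C, s * c * s⁻¹ ∈ C
  nM : ∀ s ∈ N, ∀ c ∈ T ⊓ C, s * c * s⁻¹ ∈ T ⊓ C
  cp : ∀ (s : N) (x y : ↥(T ⊓ C)), (y : G) = s * x * (s : G)⁻¹ → ψ y = φ s (ψ x)

theorem Cov.map (V : Cov T C N ψ φ) {L : Type} [Group L] (e : K ≃* L) :
    Cov T C N (e.toMonoidHom.comp ψ) ((MulAut.congr e).toMonoidHom.comp φ) :=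
  ⟨e.surjective.comp V.sψ, (MulAut.congr e).surjective.comp V.sφ, fun x h => V.ker x (e.injective (h.trans (map_one e).symm)),
    V.le, V.nC, V.nM, fun s x y h => by simp [V.cp s x y h]⟩

theorem Cov.conj (V : Cov T C N ψ φ) (x : ↥(T ⊓ C)) : φ ⟨x, V.le x.2⟩ = MulAut.conj (ψ x) := by
  ext k
  obtain ⟨y, rfl⟩ := V.sψ k
  rw [← V.cp _ y (x * y * x⁻¹) rfl, map_mul, map_mul, map_inv, MulAut.conj_apply]

theorem Cov.card (V : Cov T C N ψ φ) {U : Subgroup G} (h : U ≤ T ⊓ C) (hU : IsPGroup 3 U) :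
    Nat.card ((U.subgroupOf (T ⊓ C)).map ψ) = Nat.card U := by
  have hf : Function.Injective (ψ.domRestrict (U.subgroupOf (T ⊓ C))) := (injective_iff_map_eq_one _).2 fun x hx => by
    obtain ⟨j, hj⟩ := hU.comap_subtype (K := T ⊓ C) x
    obtain ⟨i, hi⟩ : Odd (3 ^ j) := Odd.pow (by decide)
    have h1 : x * x = 1 := Subtype.ext (V.ker x hx).1
    have h2 : x ^ (2 * i + 1) = 1 := hi ▸ hj
    rwa [pow_succ, pow_mul, pow_two, h1, one_pow, one_mul] at h2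
  rw [← MonoidHom.domRestrict_range, ← Nat.card_congr (MonoidHom.ofInjective hf).toEquiv,
    Nat.card_congr (subgroupOfEquivOfLe h).toEquiv]

variable [IsSimpleGroup K] {A : Subgroup K} {Γ : Subgroup (MulAut K)} {Δ : Set G} {k m c : ℕ}

/-- **the 3-local case** -/
theorem three_rel {ψ : ↥(T ⊓ centralizer Δ) →* K} (R : RG T Pt Q Δ k) (hp : Pt p) (cp : p ∈ centralizer Δ)
    (V : Cov T (centralizer Δ) N ψ φ) (h : MI A Γ) (h3 : pCore 3 A ≠ ⊥) (h2 : pCore 2 A = ⊥)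
    (n3 : ∀ a ∈ A, ∀ r : ℕ, r.Prime → 5 ≤ r → orderOf a ≠ 3 * r) (hN : Nat.card K = 3 ^ (m + 2) * c) (hc : ¬ 3 ∣ c)
    (he : 2 ∣ c) (hb : ∀ U ≤ A, IsPGroup 3 U → Nat.card U ≤ 3 ^ m) (hm : 2 * m + 4 ≤ 3 * k)
    (hk : m ≤ k ∨ 9 ≤ k ∧ N ≤ T ⊓ centralizer Δ ∧ ∀ a ∈ A, (orderOf a).Prime → orderOf a ≤ 5) : False := by
  have H := R.geo
  have h4 : 3 ^ (m + 2) ∣ Nat.card ↥(T ⊓ centralizer Δ) :=
    (hN ▸ dvd_mul_right _ _ :).trans (card_dvd_of_surjective ψ V.sψ)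
  obtain ⟨U, h5, h6, h7⟩ := R.sylow hp cp h4
  obtain ⟨g, hg⟩ := exists_conj_le hN hc (Mon.core_pgroup (S := A) 3) ((h6.comap_subtype (K := T ⊓ centralizer Δ)).map ψ)
    (V.card (h5.trans inf_le_left) h6 ▸ h7)
  obtain ⟨g, rfl⟩ := V.sψ g
  let z : ↥(T ⊓ centralizer Δ) := g * ⟨p, H.Q_le hp (H.self hp), cp⟩ * g⁻¹
  have hz : Pt z := H.conj hp g
  have h8 : ∀ u ∈ Mon.core 3 A, ψ z * u = u * ψ z := fun u hu => by
    obtain ⟨y, hy, e⟩ := hg u hu
    rw [show u = ψ (g * y * g⁻¹) by rw [map_mul, map_mul, map_inv, e]; group]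
    refine (Commute.map (conj_comm (Subtype.ext ?_) g) ψ).eq
    exact (mem_cen.1 (h5 hy).2).symm
  have h9 := cent_three h h3 h2 n3 h8
  refine geo_rel R (S := (Γ.comap φ).map N.subtype) (B := (A.comap ψ).map (T ⊓ centralizer Δ).subtype) (m := m)
    ⟨fun s hs => V.nC s (map_subtype_le _ hs), fun Y k1 k2 k3 k4 x hx => ⟨⟨x, hx.1⟩, ?_, rfl⟩, ?_, fun Y k1 k2 => ?_,
      (pow_dvd_pow 3 (by omega)).trans h4⟩ hm (hk.imp_right fun k1 => ⟨k1.1, fun r hr hd => ?_⟩) hz z.2.2 ?_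
  · refine (mi_norm h (E := (Y.subgroupOf _).map ψ) ?_ (fun k => k2 ?_) (ne_top_of_pgroup Nat.prime_three Nat.prime_two
      (by norm_num) (hN ▸ he.mul_left _) ((k3.comap_subtype (K := T ⊓ centralizer Δ)).map ψ))).le
      (SporB.norm_of (H := zpowers _) ?_ (mem_zpowers _))
    · rintro σ hσ _ ⟨y, hy, rfl⟩
      obtain ⟨s, rfl⟩ := V.sφ σ
      exact ⟨⟨_, V.nM s s.2 y y.2⟩, k4 s ⟨s, hσ, rfl⟩ y hy, V.cp s y _ rfl⟩
    · rw [← card_eq_one, ← V.card k1 k3, k, card_bot]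
    · rintro _ ⟨i, rfl⟩ _ ⟨y, hy, rfl⟩
      refine ⟨⟨x, hx.1⟩ ^ i * y * (⟨x, hx.1⟩ ^ i)⁻¹, SporB.conj_of_norm (zpow_mem (mem_inf.1 hx).2 i) hy, ?_⟩
      rw [map_mul, map_mul, map_inv, map_zpow]
  · rintro _ ⟨x, hx, rfl⟩
    exact ⟨⟨x, V.le x.2⟩, show φ _ ∈ Γ from V.conj x ▸ (h.conj _).2 hx, rfl⟩
  · rw [← V.card (k1.trans (map_subtype_le _)) k2]
    refine hb _ ?_ ((k2.comap_subtype (K := T ⊓ centralizer Δ)).map ψ)
    rintro _ ⟨y, hy, rfl⟩
    obtain ⟨x, hx, e⟩ := k1 hy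
    exact (show x = y from Subtype.ext e) ▸ hx
  · have := Fact.mk hr
    obtain ⟨y, k2⟩ := exists_prime_orderOf_dvd_card' r hd
    rw [← orderOf_coe] at k2
    obtain ⟨_, s, hs, rfl⟩ := y
    let x : ↥(T ⊓ centralizer Δ) := ⟨s, k1.2.1 s.2⟩
    have k3 : orderOf x = r := (orderOf_coe x).symm.trans k2
    by_cases k4 : ψ x = 1
    · have := Nat.le_of_dvd two_pos (k3 ▸ orderOf_dvd_of_pow_eq_one ((pow_two x).trans (V.ker x k4).1))
      omega
    · have k5 : orderOf (ψ x) = r := orderOf_eq_prime (by rw [← map_pow, ← k3, pow_orderOf_eq_one, map_one]) k4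
      exact k5 ▸ k1.2.2 _ ((h.conj _).1 (V.conj x ▸ hs)) (k5 ▸ hr)
  · rintro _ ⟨s, hs, rfl⟩
    let w : ↥(T ⊓ centralizer Δ) := ⟨_, V.nM s s.2 z z.2⟩
    obtain ⟨k1, k2⟩ := V.ker (z * w * z⁻¹ * w⁻¹) (by
      rw [map_mul, map_mul, map_mul, map_inv, map_inv, V.cp s z w rfl, h8 _ (inv_core h 3 _ hs _ h9)]
      group)
    have k3 : w ^ 3 = 1 := Subtype.ext (H.cube (H.conj hz s))
    have k4 := (k2 w).mul_pow 3
    rw [inv_mul_cancel_right, conj_pow, k3, mul_one, mul_inv_cancel, mul_one, pow_three', k1, one_mul] at k4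
    exact congrArg Subtype.val (comm_of_eq_one k4.symm)

theorem cov22 {D : Set G} {d₀ a b : G} (F : SporB.FiC D d₀) (ha : a ∈ D) (hb : b ∈ D) (ab : a ≠ b) (h1 : Commute a b) :
    ∃ N ψ φ, Cov (K := Spor.Fi22) (commutator G) (centralizer {a, b}) N ψ φ := by
  have _ := SporB.zp_normal (commutator G) (a * b)
  have _ : Finite Spor.Fi22 := Nat.finite_of_card_ne_zero (by rw [R01.Fi22Facts.card]; norm_num)
  have _ := R01.Fi22Facts.isSimple
  have t2 : a * b * (a * b) = 1 := by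
    rw [mul_assoc, ← mul_assoc b, ← h1.eq, mul_assoc a, F.sq hb, mul_one, F.sq ha]
  obtain ⟨-, -, k0, k1, k2, ⟨e⟩⟩ := S5465.result F.hyp.tt F.hyp.prim d₀ F.hyp.mem F.hyp.h3 F.hyp.h2 F.type _ rfl a b ha hb
    ab h1 _ _ rfl rfl
  let φ := e.toMonoidHom.comp (QuotientGroup.mk' _)
  have hφ : Function.Surjective φ := e.surjective.comp (QuotientGroup.mk'_surjective _)
  have hk : ∀ x, φ x = 1 → (x : G) = 1 ∨ (x : G) = a * b := fun x h =>
    SporB.mem_zp t2 (mem_subgroupOf.1 ((QuotientGroup.eq_one_iff x).1 (e.injective (h.trans (map_one e).symm))))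
  have hi := conj_injective (K := Spor.Fi22) (Mon.nc_of_card (by rw [R01.Fi22Facts.card]; norm_num))
  let I := ((commutator G ⊓ centralizer {a, b}).subgroupOf (commutator G ⊓ centralizer {a * b})).map φ
  have hI : I.index = 2 := by
    rw [index_map, sup_eq_left.2, k1, MonoidHom.range_eq_top.2 hφ, index_top]
    intro x hx
    rcases hk x hx with h | h <;> rw [mem_subgroupOf, h]
    exacts [one_mem _, k2]
  have h2 : Inn Spor.Fi22 ≤ I := by
    rintro _ ⟨g, rfl⟩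
    rcases ((normal_of_index_eq_two hI).comap MulAut.conj).eq_bot_or_eq_top with h | h
    · refine absurd ⟨⟨fun x y => ?_⟩⟩ (Mon.nc_of_card (G := Spor.Fi22) (by rw [R01.Fi22Facts.card]; norm_num))
      have h2 : ∀ z : Spor.Fi22, z⁻¹ = z := fun z => inv_eq_of_mul_eq_one_right (by
        rw [← mem_bot, ← h, mem_comap, map_mul]
        exact mul_self_mem_of_index_two hI _)
      rw [← h2 (x * y), mul_inv_rev, h2, h2]
    · rw [← mem_comap, h]
      exact mem_top g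
  have h3 : I ≤ Inn Spor.Fi22 := by
    have h3 := relIndex_mul_index h2
    rw [hI, show (Inn Spor.Fi22).index = 2 from S2079.result] at h3
    exact relIndex_eq_one.1 (by omega)
  let ψ := (MonoidHom.ofInjective hi).symm.toMonoidHom.comp ((φ.comp (inclusion k0)).codRestrict (Inn Spor.Fi22)
    fun x => h3 ⟨inclusion k0 x, x.2, rfl⟩)
  have hψ : ∀ x, MulAut.conj (ψ x) = φ (inclusion k0 x) := fun x =>
    congrArg Subtype.val ((MonoidHom.ofInjective hi).apply_symm_apply _)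
  have h4 : ∀ s ∈ commutator G ⊓ centralizer {a * b}, ∀ c ∈ commutator G ⊓ centralizer {a, b},
      s * c * s⁻¹ ∈ commutator G ⊓ centralizer {a, b} := fun s hs c hc =>
    (normal_of_index_eq_two k1).conj_mem ⟨c, k0 hc⟩ hc ⟨s, hs⟩
  have h5 : ∀ x, Commute x a → Commute x b → x ∈ centralizer ({a, b} : Set G) := fun x k1 k2 => by
    rintro _ (rfl | rfl)
    exacts [k1.symm, k2.symm]
  refine ⟨_, ψ, φ, fun g => ?_, hφ, fun x hx => ?_, k0, fun s hs c hc => ?_, h4, fun s x y h => hi ?_⟩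
  · obtain ⟨x, hx, e⟩ := h2 ⟨g, rfl⟩
    exact ⟨⟨x, hx⟩, hi ((hψ _).trans e)⟩
  · rcases hk _ ((hψ x).symm.trans (by rw [hx, map_one])) with h | h
    · rw [show x = 1 from Subtype.ext h]
      exact ⟨one_mul 1, Commute.one_left⟩
    · have h' : (x : G) = a * b := h
      exact ⟨Subtype.ext (by rw [coe_mul, h', t2, coe_one]), fun y => Subtype.ext (by
        rw [coe_mul, coe_mul, h']
        exact (mem_cen.1 (k0 y.2).2).symm)⟩
  · by_cases h6 : c ∈ commutator G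
    · exact (h4 s hs c ⟨h6, hc⟩).2
    have h7 : s * a * s⁻¹ * (s * b * s⁻¹) = a * b := by rw [conj_mul, conj_of_comm (mem_cen.1 hs.2)]
    have h8 : s * a * s⁻¹ ≠ s * b * s⁻¹ := fun k => ab (by simpa using k)
    have h9 := h5 _ (F.comm_of_prod ha (F.hyp.tt.2.1 s a ha) (F.hyp.tt.2.1 s b hb) h8 (by rw [h7, mul_assoc, ← h1.eq]))
      (F.comm_of_prod hb (F.hyp.tt.2.1 s a ha) (F.hyp.tt.2.1 s b hb) h8 (by rw [h7, ← mul_assoc, ← h1.eq]))
    have h10 := (h4 s hs (c * a) ⟨(mul_mem_iff_of_index_two F.idx).2 (iff_of_false h6 (F.not_mem ha)),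
      mul_mem hc (h5 a (Commute.refl a) h1)⟩).2
    rw [← conj_mul] at h10
    exact (mul_mem_cancel_right h9).1 h10
  · rw [hψ, show inclusion k0 y = s * inclusion k0 x * s⁻¹ from Subtype.ext h, map_mul, map_mul, map_inv, ← hψ]
    ext g
    simp

end abs

section fi

open Cfsg.Spor (Fi24)
open Cfsg.Agent.R08.FiTwentyFour (finite_Fi24 L)
open Cfsg.Agent.LThreeFi24.SNine (x3)
open Cfsg.Agent.DS.Sp.F24S (Cl)
open Cfsg.Agent.H841.Tri Cfsg.Agent.SB.F24.Asm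

variable {p w d e : Fi24}

theorem cl_conj (g x : Fi24) : Cl 2 (MulAut.conj g x) ↔ Cl 2 x :=
  ⟨fun h => by simpa [mul_assoc] using h.conj g⁻¹, fun h => h.conj g⟩

theorem ph (hp : Cl 2 p) (hw : Cl 2 w) (hc : Commute p w) (hn : w ∉ Qp p) : Ph (Cl 2) p (Qp p) w := by
  have := finite_Fi24
  obtain ⟨g, hg⟩ := exists_conj hp
  have h0 : Ph (Cl 2) x3 Q0 (g * w * g⁻¹) := ph0 Wd.cert (hw.conj g) (show Commute x3 _ from hg ▸ conj_comm hc g)
    fun k => hn ((mem_Qp hg).2 k)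
  have h1 := h0.map (MulAut.conj g⁻¹) (cl_conj _) (Qp_iff hg)
  rw [conj_x3 hg] at h1
  simpa [mul_assoc] using h1

theorem ninv (hd : d ∈ L) (hp : Cl 2 p) : d * p * d⁻¹ ≠ p⁻¹ := fun h => by
  have h1 := R08.FiTwentyFour.sq hd
  have h2 : d * (p * d * p⁻¹) = p := by
    rw [← inv_eq_of_mul_eq_one_right h1, ← mul_assoc, ← mul_assoc, inv_eq_of_mul_eq_one_right h1]
    nth_rw 2 [← inv_eq_of_mul_eq_one_right h1]
    rw [h, ← mul_inv_rev, inv_eq_of_mul_eq_one_right ((pow_three' p).symm.trans (Asm.cube hp))]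
  have h3 := R08.FiTwentyFour.conj hd p
  obtain ⟨g, k1, k2⟩ := H840.NormX.exists_conj H49.Four.TEight.fgroup24 hd h3 (H840.Lk.gen_mem .l) (H840.Lk.gen_mem .k)
    (fun k => (geo boxLoc).ne hp (by
      have h4 := k.mul_pow 2
      rw [h2, pow_two d, h1, pow_two (p * d * p⁻¹), R08.FiTwentyFour.sq h3, one_mul] at h4
      rw [← Asm.cube hp, pow_succ, h4, one_mul])) H840.Lk.not_comm_lk
  exact Wd.n0 ⟨g, Or.inl (by rw [← h2, ← conj_mul, k1, k2]; rfl)⟩ hp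

theorem nine (hd : d ∈ L) (hp : Cl 2 p) (hc : Commute d p) {X : Subgroup Fi24} (hX : X ≤ Qp p) :
    Nat.card X ≤ 9 * Nat.card ↥(X ⊓ centralizer {d}) := by
  obtain ⟨g, hg⟩ := exists_conj hp
  have h1 : g * d * g⁻¹ ∈ E3 := ⟨R08.FiTwentyFour.conj hd g, hg ▸ conj_comm hc g⟩
  obtain ⟨t, k1, k2, k3⟩ := dat.tw (mk _ h1) h1
  obtain ⟨h, -, k4⟩ := dat.tr t k1 k2
  rw [← card_orbit X d]
  refine Nat.mul_le_mul_right _ ((Set.ncard_le_ncard (t := Set.range fun v : Fin 3 × Fin 3 =>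
    g⁻¹ * (h⁻¹ * tau v.1 v.2 * h : NX) * g) ?_ (Set.finite_range _)).trans ?_)
  · rintro _ ⟨x, hx, rfl⟩
    obtain ⟨u, hu, e⟩ := (mem_Qp hg).1 (hX hx)
    have h2 := ((H841.Ext.fx_of_mem tsetDN hu _ h1).trans k3).conj tsetDN h
    rw [k4] at h2
    obtain ⟨i, hi, j, hj, h3⟩ := twins_l (tsetDN.cj _ (tsetDN.cj _ h1 u) h) h2.symm
    refine ⟨(⟨i, hi⟩, ⟨j, hj⟩), ?_⟩
    have h4 : (u : Fi24) = g * x * g⁻¹ := e
    simp only [← h3, coe_mul, coe_inv, h4, H841.Tri.mk]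
    group
  · rw [← Set.image_univ]
    exact (Set.ncard_image_le Set.finite_univ).trans (by simp [Set.ncard_univ])

theorem rg (hd : d ∈ L) (he : e ∈ L) (hc : Commute d e) {k : ℕ} (hk : k = 7 ∨ k = 9 ∧ e = d) :
    RG (commutator Fi24) (Cl 2) Qp {d, e} k := by
  have := finite_Fi24
  have H := geo boxLoc
  have h1 : ∀ {x}, x ∈ centralizer ({d, e} : Set Fi24) ↔ Commute x d ∧ Commute x e :=
    ⟨fun h => ⟨(h d (by simp)).symm, (h e (by simp)).symm⟩, fun h => by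
      rintro _ (rfl | rfl)
      exacts [h.1.symm, h.2.symm]⟩
  have h2 : ∀ {p x g}, Cl 2 p → Commute p g → x ∈ Qp p → g * x * g⁻¹ ∈ Qp p := fun {_ _ g} hp k hx => by
    simpa only [conj_of_comm k.symm] using H.Q_conj hp g _ hx
  refine ⟨H, fun k1 k2 k3 k4 => (ph k1 k2 k3 k4).1, fun k1 k2 k3 k4 => (ph k1 k2 k3 k4).2, ?_, ?_, fun {p} hp k1 => ?_,
    fun {p w} hp k1 k2 k3 => (H.es hp).nd w k2.1 ?_, by omega⟩
  · rintro _ (rfl | rfl)
    exacts [R08.FiTwentyFour.sq hd, R08.FiTwentyFour.sq he]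
  · rintro _ (rfl | rfl) _
    exacts [ninv hd, ninv he]
  · have h3 := nine hd hp (h1.1 k1).1.symm le_rfl
    have h4 := nine he hp (h1.1 k1).2.symm (inf_le_left (b := centralizer {d}))
    rw [H.card hp] at h3
    rw [show Qp p ⊓ centralizer {d, e} = Qp p ⊓ centralizer {d} ⊓ centralizer {e} by
      ext x
      rw [mem_inf, mem_inf, mem_inf, h1, mem_cen, mem_cen, and_assoc]]
    rcases hk with rfl | ⟨rfl, rfl⟩
    · omega
    · rw [inf_assoc, inf_idem]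
      omega
  · refine nd_step (H.es hp) le_rfl (R08.FiTwentyFour.sq hd) (h1.1 k1).1.symm (fun x => h2 hp (h1.1 k1).1) k2.1
      (h1.1 k2.2).1.symm fun x hx k4 => nd_step (X := Qp p ⊓ centralizer {d}) (H.es hp) inf_le_left
        (R08.FiTwentyFour.sq he) (h1.1 k1).2.symm (fun y hy => ⟨h2 hp (h1.1 k1).2 hy.1, cj (mem_cen.2 hc.symm) hy.2⟩) k2.1
        (h1.1 k2.2).2.symm (fun y hy k5 => k3 y ⟨hy.1, h1.2 ⟨mem_cen.1 hy.2, k5⟩⟩) x ⟨hx, mem_cen.2 k4⟩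

theorem cov23 (hd : d ∈ L) : ∃ ψ φ, Cov (K := Spor.Fi23) (commutator Fi24) (centralizer {d, d}) (commutator Fi24 ⊓
    centralizer {d, d}) ψ φ := by
  obtain ⟨f⟩ := H842.RadTwo.equiv_cent hd ((commutator Fi24 ⊓ centralizer {d, d}).subgroupOf _) fun k => by
    rw [mem_subgroupOf, mem_inf, Set.pair_eq_singleton, mem_cen]
    exact and_iff_right k.2
  let ψ := (f.trans (subgroupOfEquivOfLe inf_le_left)).symm
  refine ⟨ψ.toMonoidHom, MulAut.conj.comp ψ.toMonoidHom, ψ.surjective, fun σ => ?_, fun x hx => ?_, le_rfl,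
    fun s hs c => cj hs.2, fun s hs c => cj hs, fun s x y h => ?_⟩
  · obtain ⟨g, rfl⟩ := KFacts.FiTTh.Has.inn σ
    exact ⟨ψ.symm g, congrArg MulAut.conj (ψ.apply_symm_apply g)⟩
  · rw [ψ.injective (hx.trans (map_one ψ).symm)]
    exact ⟨one_mul 1, Commute.one_left⟩
  · rw [show y = s * x * s⁻¹ from Subtype.ext h]
    simp

variable {K : Type} [Group K] [Finite K] [IsSimpleGroup K] {A : Subgroup K} {Γ : Subgroup (MulAut K)}

theorem x3_mem (i j : Fin 5) : x3 ∈ centralizer ({dd i, dd j} : Set Fi24) := by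
  rintro _ (rfl | rfl)
  exacts [(dd_mem i).2, (dd_mem j).2]

/-- **`Fi22`, `O₃(A) ≠ 1 = O₂(A)`.** -/
theorem three_F22 (hK : Spor.IsoFi22 K) (h : MI A Γ) (h3 : pCore 3 A ≠ ⊥) (h2 : pCore 2 A = ⊥)
    (n3 : ∀ a ∈ A, ∀ r : ℕ, r.Prime → 5 ≤ r → orderOf a ≠ 3 * r) (hN : Nat.card K = 64561751654400)
    (hb : ∀ U ≤ A, IsPGroup 3 U → Nat.card U ≤ 3 ^ 7) : False := by
  have := finite_Fi24
  obtain ⟨e⟩ := hK
  obtain ⟨d₀, F⟩ := SporB.exists_fiC
  obtain ⟨N, ψ, φ, V⟩ := cov22 F (dd_mem 0).1 (dd_mem 1).1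
    (fun k => (dN_nb 0 1 (by decide)).2.1 (Subtype.ext k.symm)) (dd_comm 0 1)
  exact three_rel (c := 3280076800) (rg (dd_mem 0).1 (dd_mem 1).1 (dd_comm 0 1) (Or.inl rfl)) (cl_iff.2 ⟨1, by simp⟩)
    (x3_mem 0 1) (V.map e.symm) h h3 h2 n3 (hN.trans (by norm_num)) (by norm_num) (by norm_num) hb (by norm_num)
    (Or.inl le_rfl)

/-- **`Fi23`, `O₃(A) ≠ 1 = O₂(A)`.** -/
theorem three_F23 (hK : Spor.IsoFi23 K) (h : MI A Γ) (h3 : pCore 3 A ≠ ⊥) (h2 : pCore 2 A = ⊥)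
    (n3 : ∀ a ∈ A, ∀ r : ℕ, r.Prime → 5 ≤ r → orderOf a ≠ 3 * r) (hN : Nat.card K = 4089470473293004800)
    (hb : ∀ U ≤ A, IsPGroup 3 U → Nat.card U ≤ 3 ^ 11) (h5 : ∀ a ∈ A, (orderOf a).Prime → orderOf a ≤ 5) : False := by
  have := finite_Fi24
  obtain ⟨e⟩ := hK
  obtain ⟨ψ, φ, V⟩ := cov23 (dd_mem 0).1
  exact three_rel (c := 2565020057600) (rg (dd_mem 0).1 (dd_mem 0).1 (Commute.refl _) (Or.inr ⟨rfl, rfl⟩))
    (cl_iff.2 ⟨1, by simp⟩) (x3_mem 0 0) (V.map e.symm) h h3 h2 n3 (hN.trans (by norm_num)) (by norm_num) (by norm_num) hb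
    (by norm_num) (Or.inr ⟨le_rfl, le_rfl, h5⟩)

end fi

end Cfsg.Agent.N2.Sp4.FR
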