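import Cfsg.Agent.N2.Sp4.Odd
import Cfsg.Agent.N2.Sp4T.Two
import Cfsg.Agent.N2.Sp.GM
import Cfsg.Agent.SB.Mon.M
import Cfsg.Agent.SP.Mon.PA.PL
import Cfsg.Agent.SectRankFour.AutSz8

/-!
# S3519: the local subgroups of the Monster (helper15)
-/

set_option autoImplicit false
set_option maxRecDepth 100000

namespace Cfsg.Agent.N2.Sp4

open Subgroup Cfsg Cfsg.Agent.FP3 Cfsg.Agent.N2.Sp Cfsg.Agent.N2.Sp4T
open Cfsg.Agent.TAB.Eng Cfsg.Agent.TAB.Use Cfsg.Agent.SB.SporL Cfsg.Agent.TH.Spor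

namespace M

open Cfsg.Agent.N2.Sp.M

variable {K : Type} [Group K] [Finite K] [IsSimpleGroup K] {T : TD K D} {A : Subgroup K} {Γ : Subgroup (MulAut K)} {U : ℕ}

theorem idx : okIdx R = true := by decide +kernel

omit [IsSimpleGroup K] in
theorem pure (hK : Spor.IsoM K) (hm : T.Mass) {C : Subgroup K} (h : ∀ c ∈ C, c ≠ 1 → orderOf c = 3 ∧ T.ty c = 3)
    (hc : ∀ a ∈ C, ∀ b ∈ C, a * b = b * a) : Nat.card C ≤ 9 := by
  obtain ⟨e1⟩ := hK
  obtain ⟨e2⟩ := MonsterP.Equiv.equiv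
  have e : K ≃* BpSpor.MBigModel.MG := e1.trans e2
  rw [← card_map_of_injective (f := e.toMonoidHom) e.injective]
  refine SP.Mon.boxP27 _ ?_ ?_
  · rintro _ ⟨c, h1, rfl⟩ h2
    obtain ⟨h3, h4⟩ := h c h1 fun k => h2 (by rw [k, map_one])
    have h5 : orderOf (e c) = 3 := (e.orderOf_eq c).trans h3
    refine ⟨h5, le_antisymm (SP.Mon.NL.cent_three_le SB.Mon.known h5) ?_⟩
    have h6 := le_cn hm c
    rw [h4, ← cn_congr e, show D.N = D.cnt 3 * (3 * 1255205709190661721292800) by decide +kernel] at h6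
    exact Nat.le_of_mul_le_mul_left h6 (by decide +kernel)
  · rintro _ ⟨a, ha, rfl⟩ _ ⟨b, hb, rfl⟩
    rw [← map_mul, hc a ha b hb, map_mul]

theorem three (hK : Spor.IsoM K) (H : Hy T R nu) (hu : Unif T) (h : MI A Γ) (hr : Res T A O U) (hS : Sup T A S)
    (ho : ∀ a ∈ A, orderOf a ≤ 8) (h3 : pCore 3 A ≠ ⊥) (h2 : pCore 2 A = ⊥) : False := by
  obtain ⟨z, V, L⟩ := exists_L3 H.mass hu h h3 h2 ho (F := 19) (by decide +kernel) (by decide +kernel)
  have c3 : ∀ Y ≤ A, IsPGroup 3 Y → Nat.card Y ≤ 3 ^ 15 := fun Y h4 h5 => Nat.le_of_dvd (by norm_num)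
    (pg_le (m := 208) Nat.prime_three h5 (card_dvd' H idx 5087 [(-121, 1), (-17, 2), (4, 3)] (fun y hy h6 => by
      obtain ⟨h7, h8⟩ := mem_of' H hS (h4 hy) (ord_three ho h4 h5 hy h6) (by decide)
      exact (by decide +kernel : ∀ s ∈ S, D.ord s = 3 → cv R 5087 [(-121, 1), (-17, 2), (4, 3)] s = 0) _ h7 h8)
      (by decide +kernel)) (by decide))
  have hd := dvd_index H.mass (by decide +kernel) c3
  have tz : T.ty z = 4 := by
    obtain ⟨h4, h5⟩ := mem_of' H hS L.zA L.oz (by decide)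
    exact (by decide +kernel : ∀ s ∈ S, D.ord s = 3 → ¬ 3 ∣ D.cnt s → s = 4) _ h4 h5 L.cz
  have S1 := sup_al hr (L.bound ho (a := 2 ^ 7) (fun E h4 h5 => Nat.le_of_dvd (by norm_num)
    (pg_le (m := 39) Nat.prime_two h5 (card_two H idx hS ho L.zA L.oz 509251960631 [(23932601310, 1), (-11654570081, 2),
      (988069191, 3), (-272704176, 4), (230708231, 5)] tz
      (by decide +kernel) (by decide +kernel) (by decide +kernel) h4 h5) (by decide))) c3)
  have b2 := L.bound' H S1 ho (by rw [tz]; decide +kernel) c3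
  refine zj h L.h3 L.hc (fun x hx ox => ?_) hd
  have ot : orderOf (x ^ 2) = 2 := by rw [orderOf_pow, ox]; rfl
  have ht := pow_mem hx 2
  have h4 : T.ty (x ^ 2) = 1 := by
    obtain ⟨s, h4, h5, h6⟩ := L.six H S1 h hd ht ot
    exact h6 ▸ (by decide +kernel : ∀ s ∈ al O (3 ^ 15 * (2 ^ 7 * 3 ^ 15)), D.ord s = 6 → D.pwf s 3 = 1) s h4 h5
  obtain ⟨W, k0, k1, k2, k3⟩ := L.inv H idx S1 ho ht ot (i := 1) (by decide +kernel) (b := 782) (by decide +kernel)
  have k4 := pure hK H.mass (C := V ⊓ centralizer {x ^ 2}) (fun c hc k4 => by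
    obtain ⟨k5, s, k6, k7, -, k8⟩ := k3 c hc k4
    exact ⟨k5, k8 ▸ (by decide +kernel : ∀ s ∈ al O (3 ^ 15 * (2 ^ 7 * 3 ^ 15)), D.ord s = 6 → D.pwf s 4 = 3) s k6 k7⟩)
    fun a ha b hb => L.comm a ha.1 b hb.1
  rw [h4, show rw R 1 1 = 4371 by decide +kernel, show rw R 1 0 = 196883 by decide +kernel] at k2
  have k5 : ∀ d ∈ zpowers x, Commute d (x ^ 2) := by
    rintro _ ⟨k, rfl⟩
    exact ((Commute.refl x).pow_right 2).zpow_left k
  have k6 := SectRankFour.AutSz8.card_dvd_sub_one (MulAut.conj.comp (zpowers x).subtype) W (fun d c hc => by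
    obtain ⟨k6, k7⟩ := (k0 c).1 hc
    refine (k0 _).2 ⟨L.nrm _ (zpowers_le.2 hx d.2) c k6, ?_⟩
    show x ^ 2 * (d * c * (d : K)⁻¹) * (x ^ 2)⁻¹ = (d * c * (d : K)⁻¹)⁻¹
    rw [conj_inv, ← k7, ← mul_assoc, ← mul_assoc, ← (k5 d d.2).eq, mul_assoc _ (d : K)⁻¹, ← mul_inv_rev, ← (k5 d d.2).eq]
    group) fun d c hc k6 k7 => by
      by_contra k8
      obtain ⟨k9, k10⟩ := (k0 c).1 hc
      have k11 : Commute (d : K) c := mul_inv_eq_iff_eq_mul.1 k7
      have k12 : x ^ 2 ∈ zpowers (d : K) := by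
        obtain ⟨_, k, rfl⟩ := d
        have e4 : x ^ 4 = 1 := ox ▸ pow_orderOf_eq_one x
        have e : x ^ k = x ^ (k % 4) := zpow_eq_zpow_emod' k e4
        obtain e1 | e1 | e1 | e1 : k % 4 = 0 ∨ k % 4 = 1 ∨ k % 4 = 2 ∨ k % 4 = 3 := by omega
        all_goals rw [e1] at e
        · exact absurd (Subtype.ext (e.trans (zpow_zero x))) k8
        · exact ⟨2, by show (x ^ k) ^ (2 : ℤ) = _; rw [e]; group⟩
        · exact ⟨1, by show (x ^ k) ^ (1 : ℤ) = _; rw [e]; group⟩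
        · exact ⟨2, by show (x ^ k) ^ (2 : ℤ) = _; rw [e, ← mul_one (x ^ 2), ← e4]; group⟩
      obtain ⟨j, hj⟩ := k12
      rw [← hj, (k11.zpow_left j).eq, mul_inv_cancel_right, eq_inv_iff_mul_eq_one, ← pow_two] at k10
      exact absurd (ord_three ho L.le L.pg k9 k6 ▸ orderOf_dvd_of_pow_eq_one k10) (by decide)
  have : Fact (Nat.Prime 3) := ⟨Nat.prime_three⟩
  obtain ⟨j, hj⟩ := IsPGroup.iff_card.1 (L.pg.to_le fun w hw => ((k0 w).1 hw).1)
  rw [Nat.card_zpowers, ox] at k6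
  have k7 : Nat.card W ≤ 9 := by
    have k7 : j < 4 := (Nat.pow_lt_pow_iff_right (by decide : 1 < 3)).1 (by omega)
    interval_cases j <;> omega
  obtain ⟨s, k8, k9, -⟩ := L.six H (sup_al hr (b2.trans (Nat.mul_le_mul_right _ (k1.trans (Nat.mul_le_mul k4 k7))))) h hd
    ht ot
  exact (by decide +kernel : ∀ s ∈ al O (9 * 9 * 3 ^ 15), D.ord s ≠ 6) s k8 k9

end M

open Cfsg.Agent.N2.Sp.M in
/-- **the Monster: a bad subgroup is not local** -/
theorem loc_M {K : Type} [Group K] [Finite K] [IsSimpleGroup K] (hK : Spor.IsoM K) {T : TD K D} (H : Hy T R nu)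
    (hu : Unif T) {A : Subgroup K} {Γ : Subgroup (MulAut K)} (h : MI A Γ) (hb : ¬ Good A) {p : ℕ} (hp : p.Prime) :
    pCore p A = ⊥ := by
  have hr := res H hb h.ne_top
  have hS := (sup H hb h.ne_top).2
  have ho : ∀ a ∈ A, orderOf a ≤ 6 := fun a ha => ord_of H hS (P := fun n => n ≤ 6) (by decide) (by decide +kernel) ha
  have h2 : pCore 2 A = ⊥ := by
    by_contra h2
    obtain ⟨a, ha, h4⟩ := exists_of_dvd (by norm_num) (two_M hK h h2)
    exact absurd (h4 ▸ ho a ha) (by decide)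
  by_contra h0
  obtain ⟨a, ha, oa⟩ := exists_of_core hp h0
  have h3 := ho a ha
  rw [oa] at h3
  obtain rfl | rfl | rfl : p = 2 ∨ p = 3 ∨ p = 5 := by
    revert hp
    clear * - h3
    interval_cases p <;> decide
  · exact h0 h2
  · exact M.three hK H hu h hr hS (fun a ha => (ho a ha).trans (by decide)) h0 h2
  · obtain ⟨e, h4, h5, h6, h7⟩ := five H.mass hu h (F := 8) (m := D.N / 5 ^ 9) hp h0 (fun a ha r hr e => by
      have := ho a ha
      have := hr.two_le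
      omega) (by decide +kernel) (by decide +kernel)
    obtain ⟨h8, h9⟩ := mem_of' H (sup_al hr h7) h4 h5 (by decide)
    exact h6 ((by decide +kernel : ∀ s ∈ al O (5 ^ (8 + 1) * 5 ^ (8 + 1)), D.ord s = 5 → 5 ∣ D.cnt s) _ h8 h9)

end Cfsg.Agent.N2.Sp4
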